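import Groth.Agent.AlgSp.K629.Basic

/-!
# Calculus of `AlgSp.LocP` for properties which are etale local on source and target
-/

set_option autoImplicit false
universe u
open CategoryTheory CategoryTheory.Limits AlgebraicGeometry Opposite
open AlgSp K629.Basic

namespace K629.LocP

variable {S : Scheme.{u}}

/-- `P` is etale local on source and target, in the form needed to compute with `AlgSp.LocP`. -/
structure EtLoc (P : MorphismProperty Scheme.{u}) : Prop where
  etale_comp : ∀ {X Y Z : Scheme.{u}} (f : X ⟶ Y) (g : Y ⟶ Z), Etale f → P g → P (f ≫ g)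
  comp_etale : ∀ {X Y Z : Scheme.{u}} (f : X ⟶ Y) (g : Y ⟶ Z), P f → Etale g → P (f ≫ g)
  of_comp_etale : ∀ {X Y Z : Scheme.{u}} (f : X ⟶ Y) (g : Y ⟶ Z), Etale g → P (f ≫ g) → P f
  of_etale_surj : ∀ {X Y Z : Scheme.{u}} (f : X ⟶ Y) (g : Y ⟶ Z), Etale f → Surjective f →
    P (f ≫ g) → P g

/-- A property stable under base change and composition, satisfied by etale morphisms, can be
cancelled on the right by etale morphisms. -/
theorem of_comp_etale (P : MorphismProperty Scheme.{u}) [P.IsStableUnderBaseChange]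
    (hP : ∀ {X Y Z : Scheme.{u}} (f : X ⟶ Y) (g : Y ⟶ Z), Etale f → P g → P (f ≫ g))
    {X Y Z : Scheme.{u}} (f : X ⟶ Y) (g : Y ⟶ Z) (hg : Etale g) (h : P (f ≫ g)) : P f := by
  have h1 : P (pullback.snd (f ≫ g) g) := MorphismProperty.pullback_snd _ _ h
  have h2 : Etale (pullback.fst (f ≫ g) g) := inferInstance
  let s : X ⟶ pullback (f ≫ g) g := pullback.lift (𝟙 X) f (by simp)
  have hs : Etale (s ≫ pullback.fst (f ≫ g) g) := by
    rw [pullback.lift_fst]; infer_instance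
  have hs' : Etale s := MorphismProperty.of_postcomp (W := @Etale) (W' := @Etale) s _ h2 hs
  have : s ≫ pullback.snd (f ≫ g) g = f := pullback.lift_snd _ _ _
  rw [← this]
  exact hP _ _ hs' h1

theorem EtLoc.mk' (P : MorphismProperty Scheme.{u}) [P.IsStableUnderBaseChange]
    [P.IsStableUnderComposition] (hP : ∀ {X Y : Scheme.{u}} (f : X ⟶ Y), Etale f → P f)
    (h : ∀ {X Y Z : Scheme.{u}} (f : X ⟶ Y) (g : Y ⟶ Z), Etale f → Surjective f →
      P (f ≫ g) → P g) : EtLoc P where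
  etale_comp f g hf hg := P.comp_mem _ _ (hP f hf) hg
  comp_etale f g hf hg := P.comp_mem _ _ hf (hP g hg)
  of_comp_etale f g hg h := K629.LocP.of_comp_etale P (fun f g hf hg => P.comp_mem _ _ (hP f hf) hg) f g hg h
  of_etale_surj := h

/-- Composition for `LocP`. -/
theorem comp {P₁ P₂ Q : MorphismProperty Scheme.{u}}
    (hcomp : ∀ {X Y Z : Scheme.{u}} (f : X ⟶ Y) (g : Y ⟶ Z), P₁ f → P₂ g → Q (f ≫ g))
    (hP₁ : ∀ {X Y Z : Scheme.{u}} (f : X ⟶ Y) (g : Y ⟶ Z), Etale g → P₁ (f ≫ g) → P₁ f)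
    (hQ : ∀ {X Y Z : Scheme.{u}} (f : X ⟶ Y) (g : Y ⟶ Z), Etale f → Surjective f →
      Q (f ≫ g) → Q g)
    {X Y Z : Sp S} (hY : IsAlgSpace Y) (g : X ⟶ Y) (f : Y ⟶ Z) (hg : LocP P₁ g) (hf : LocP P₂ f) :
    LocP Q (g ≫ f) := by
  intro U V a b h ha hb hab
  obtain ⟨T, c, hc, hc'⟩ := hY.atlas
  -- `W = T ×_Y U`
  obtain ⟨W, w₁, w₂, hW, hw₂⟩ := exists_pb_yon hc (a ≫ g)
  have hw₂' : Surjective w₂.left := repWith_prop hc' hW
  -- `E = T ×_Z V`
  obtain ⟨E, e₂, e₁, hE, he₁⟩ := exists_pb_yon hb (c ≫ f)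
  have hWX : RepWith @Etale ((yon S).map w₂ ≫ a) :=
    repWith_etale_yon_comp hw₂ ha
  have hw₁ : P₁ w₁.left := hg ((yon S).map w₂ ≫ a) c w₁ hWX hc (by
    rw [Category.assoc]; exact hW.w.symm)
  have hEY : RepWith @Etale ((yon S).map e₁ ≫ c) :=
    repWith_etale_yon_comp he₁ hc
  have he₂ : P₂ e₂.left := hf ((yon S).map e₁ ≫ c) b e₂ hEY hb (by
    rw [Category.assoc]; exact hE.w.symm)
  have hk : (yon S).map (w₂ ≫ h) ≫ b = (yon S).map w₁ ≫ c ≫ f := by
    rw [(yon S).map_comp, Category.assoc, ← hab, ← reassoc_of% hW.w]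
  obtain ⟨k, hk'⟩ := (yon S).map_surjective (hE.lift _ _ hk)
  have hk1 : k ≫ e₁ = w₁ := by
    apply (yon S).map_injective
    rw [(yon S).map_comp, hk', hE.lift_snd]
  have hk2 : k ≫ e₂ = w₂ ≫ h := by
    apply (yon S).map_injective
    rw [(yon S).map_comp, hk', hE.lift_fst]
  have hP₁k : P₁ k.left := hP₁ k.left e₁.left he₁ (by rw [← Over.comp_left, hk1]; exact hw₁)
  have := hcomp _ _ hP₁k he₂
  rw [← Over.comp_left, hk2, Over.comp_left] at this
  exact hQ _ _ hw₂ hw₂' this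

theorem EtLoc.comp {P : MorphismProperty Scheme.{u}} [P.IsStableUnderComposition] (hP : EtLoc P)
    {X Y Z : Sp S} (hY : IsAlgSpace Y) (g : X ⟶ Y) (f : Y ⟶ Z) (hg : LocP P g) (hf : LocP P f) :
    LocP P (g ≫ f) :=
  K629.LocP.comp (fun f g hf hg => P.comp_mem _ _ hf hg) hP.of_comp_etale hP.of_etale_surj hY g f hg hf

theorem mono {P Q : MorphismProperty Scheme.{u}} (h : ∀ ⦃X Y : Scheme.{u}⦄ (f : X ⟶ Y), P f → Q f)
    {X Y : Sp S} {f : X ⟶ Y} (hf : LocP P f) : LocP Q f :=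
  fun _ _ a b c ha hb hab => h _ (hf a b c ha hb hab)

/-- An etale morphism has every chart etale. -/
theorem locP_etale_of_isEtaleMor {X Y : Sp S} {f : X ⟶ Y} (hf : IsEtaleMor f) :
    LocP @Etale f := by
  intro U V a b h ha hb hab
  have := hf a ha
  rw [hab] at this
  exact etale_of_comp h b hb this

/-- Representability of the composite of a chart with a morphism to an algebraic space. -/
theorem EtLoc.repWith {P : MorphismProperty Scheme.{u}} [P.IsStableUnderBaseChange] (hP : EtLoc P)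
    {X Y : Sp S} (hY : IsAlgSpace Y) {f : X ⟶ Y} (hf : LocP P f) {U : Over S}
    (a : (yon S).obj U ⟶ X) (ha : RepWith @Etale a) : RepWith P (a ≫ f) := by
  refine repWith_of_exists fun V g => ?_
  obtain ⟨W, w₁, w₂, hW⟩ := exists_pb_yon' (hY.representable_from_yon (a ≫ f)) g
  refine ⟨W, _, w₂, hW, ?_⟩
  obtain ⟨T, c, hc, hc'⟩ := hY.atlas
  -- `V' = V ×_Y T`
  obtain ⟨V', v₂, v₁, hV', hv₁⟩ := exists_pb_yon hc g
  have hv₁' : Surjective v₁.left := repWith_prop hc' hV'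
  -- `D = U ×_Y T`
  obtain ⟨D, d₂, d₁, hD, hd₁⟩ := exists_pb_yon hc (a ≫ f)
  have hDX : RepWith @Etale ((yon S).map d₁ ≫ a) :=
    repWith_etale_yon_comp hd₁ ha
  have hd₂ : P d₂.left := hf ((yon S).map d₁ ≫ a) c d₂ hDX hc (by
    rw [Category.assoc]; exact hD.w.symm)
  -- `W' = W ×_V V' = D ×_T V'`
  let W' := pullback w₂ v₁
  have hW'1 : IsPullback (pullback.fst w₂ v₁) (pullback.snd w₂ v₁) w₂ v₁ := IsPullback.of_hasPullback _ _
  have h1 : IsPullback ((yon S).map (pullback.fst w₂ v₁) ≫ (yon S).map w₁)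
      ((yon S).map (pullback.snd w₂ v₁)) (a ≫ f) ((yon S).map v₁ ≫ g) :=
    (hW'1.map (yon S)).paste_horiz hW
  have hk : (yon S).map (pullback.snd w₂ v₁ ≫ v₂) ≫ c =
      ((yon S).map (pullback.fst w₂ v₁ ≫ w₁)) ≫ a ≫ f := by
    rw [(yon S).map_comp, (yon S).map_comp]
    simp only [Category.assoc]
    rw [hV'.w]
    have := h1.w
    simp only [Category.assoc] at this
    exact this.symm
  obtain ⟨k, hk'⟩ := (yon S).map_surjective (hD.lift _ _ hk)
  have hk1 : k ≫ d₁ = pullback.fst w₂ v₁ ≫ w₁ := by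
    apply (yon S).map_injective
    rw [(yon S).map_comp, hk', hD.lift_snd]
  have hk2 : k ≫ d₂ = pullback.snd w₂ v₁ ≫ v₂ := by
    apply (yon S).map_injective
    rw [(yon S).map_comp, hk', hD.lift_fst]
  have h2 : IsPullback ((yon S).map k) ((yon S).map (pullback.snd w₂ v₁)) ((yon S).map d₂)
      ((yon S).map v₂) := by
    refine IsPullback.of_right (h₁₂ := (yon S).map d₁) (h₂₂ := c) (v₁₃ := a ≫ f) ?_ ?_ hD.flip
    · rw [← (yon S).map_comp, hk1, hV'.w, (yon S).map_comp]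
      exact h1
    · rw [← (yon S).map_comp, ← (yon S).map_comp, hk2]
  have h3 : IsPullback k (pullback.snd w₂ v₁) d₂ v₂ :=
    IsPullback.of_map (yon S) (by rw [hk2]) h2
  have h4 : P (pullback.snd w₂ v₁).left := P.of_isPullback (h3.map (Over.forget S)) hd₂
  have h5 := hP.comp_etale _ _ h4 hv₁
  rw [← Over.comp_left, ← pullback.condition, Over.comp_left] at h5
  have h6 : IsPullback (pullback.fst w₂ v₁).left (pullback.snd w₂ v₁).left w₂.left v₁.left :=
    hW'1.map (Over.forget S)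
  exact hP.of_etale_surj _ _ (MorphismProperty.of_isPullback h6.flip hv₁)
    (MorphismProperty.of_isPullback h6.flip hv₁') h5

/-- A morphism to an algebraic space with etale charts is etale. -/
theorem isEtaleMor_of_locP {X Y : Sp S} (hY : IsAlgSpace Y) {f : X ⟶ Y} (hf : LocP @Etale f)
    (hE : EtLoc (@Etale : MorphismProperty Scheme.{u})) : IsEtaleMor f :=
  fun _ a ha => hE.repWith hY hf a ha

end K629.LocP
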