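import Groth.Agent.AlgSp.K629.SchDesc

/-!
# Descent along covers of the source refined by fppf covers (scheme level)

If `E ⟶ U` is refined by an fppf cover `A ⟶ U` (i.e. `A ⟶ U` factors through `E`) and `E ⟶ U ⟶ V` is flat
(locally of finite type, locally of finite presentation) then so is `U ⟶ V`.
-/

set_option autoImplicit false
universe u
open CategoryTheory CategoryTheory.Limits AlgebraicGeometry Opposite

namespace K629.Refine

theorem lfp_of_section {E A : Scheme.{u}} (r : E ⟶ A) (s : A ⟶ E) (hs : s ≫ r = 𝟙 A)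
    (hr : LocallyOfFiniteType r) : LocallyOfFinitePresentation s := by
  have : LocallyOfFinitePresentation (s ≫ r) := by rw [hs]; infer_instance
  exact Groth.Agent.Ega43.FPOfComp.locallyOfFinitePresentation_of_comp s r

/-- Retracts: if `r : E ⟶ A` has a section and `E ⟶ A ⟶ V` is locally of finite type, so is `A ⟶ V`. -/
theorem lft_of_retract {E A V : Scheme.{u}} (r : E ⟶ A) (s : A ⟶ E) (hs : s ≫ r = 𝟙 A) (q : A ⟶ V)
    (h : LocallyOfFiniteType (r ≫ q)) : LocallyOfFiniteType q := by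
  have h1 : LocallyOfFiniteType r := locallyOfFiniteType_of_comp r q
  have h2 := lfp_of_section r s hs h1
  have h3 : s ≫ r ≫ q = q := by rw [← Category.assoc, hs, Category.id_comp]
  rw [← h3]
  infer_instance

/-- Retracts: if `r : E ⟶ A` has a section and `E ⟶ A ⟶ V` is locally of finite presentation, so is `A ⟶ V`. -/
theorem lfp_of_retract {E A V : Scheme.{u}} (r : E ⟶ A) (s : A ⟶ E) (hs : s ≫ r = 𝟙 A) (q : A ⟶ V)
    (h : LocallyOfFinitePresentation (r ≫ q)) : LocallyOfFinitePresentation q := by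
  have h0 : LocallyOfFiniteType (r ≫ q) := inferInstance
  have h1 : LocallyOfFiniteType r := locallyOfFiniteType_of_comp r q
  have h2 := lfp_of_section r s hs h1
  have h3 : s ≫ r ≫ q = q := by rw [← Category.assoc, hs, Category.id_comp]
  rw [← h3]
  infer_instance

theorem flat {E U V A : Scheme.{u}} (f : E ⟶ U) (q : U ⟶ V) (g : A ⟶ U) (l : A ⟶ E) (hl : l ≫ f = g)
    (hg : (@Flat ⊓ @LocallyOfFinitePresentation : MorphismProperty Scheme.{u}) g) (hs : Surjective g)
    (h : Flat (f ≫ q)) : Flat q := by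
  have := hg.1
  have := hg.2
  exact Groth.Agent.S1163.result f q g l hl

theorem of_refine {P : MorphismProperty Scheme.{u}}
    (hcomp : ∀ {X Y Z : Scheme.{u}} (f : X ⟶ Y) (g : Y ⟶ Z),
      (@Flat ⊓ @LocallyOfFinitePresentation : MorphismProperty Scheme.{u}) f → P g → P (f ≫ g))
    (hret : ∀ {E A V : Scheme.{u}} (r : E ⟶ A) (s : A ⟶ E) (_ : s ≫ r = 𝟙 A) (q : A ⟶ V)
      (_ : P (r ≫ q)), P q)
    (hdesc : ∀ {X Y Z : Scheme.{u}} (f : X ⟶ Y) (g : Y ⟶ Z),
      (@Flat ⊓ @LocallyOfFinitePresentation : MorphismProperty Scheme.{u}) f → Surjective f →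
      P (f ≫ g) → P g)
    {E U V A : Scheme.{u}} (f : E ⟶ U) (q : U ⟶ V) (g : A ⟶ U) (l : A ⟶ E) (hl : l ≫ f = g)
    (hg : (@Flat ⊓ @LocallyOfFinitePresentation : MorphismProperty Scheme.{u}) g) (hs : Surjective g)
    (h : P (f ≫ q)) : P q := by
  have hfst : (@Flat ⊓ @LocallyOfFinitePresentation : MorphismProperty Scheme.{u})
      (pullback.fst f g) := MorphismProperty.pullback_fst _ _ hg
  have h1 : P (pullback.fst f g ≫ f ≫ q) := hcomp _ _ hfst h
  rw [pullback.condition_assoc] at h1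
  have h2 : P (g ≫ q) := hret (pullback.snd f g) (pullback.lift l (𝟙 A) (by simpa using hl))
    (pullback.lift_snd _ _ _) (g ≫ q) h1
  exact hdesc g q hg hs h2

theorem lft {E U V A : Scheme.{u}} (f : E ⟶ U) (q : U ⟶ V) (g : A ⟶ U) (l : A ⟶ E) (hl : l ≫ f = g)
    (hg : (@Flat ⊓ @LocallyOfFinitePresentation : MorphismProperty Scheme.{u}) g) (hs : Surjective g)
    (h : LocallyOfFiniteType (f ≫ q)) : LocallyOfFiniteType q :=
  of_refine (P := @LocallyOfFiniteType) (fun f g hf hg => by have := hf.2; infer_instance)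
    (fun r s hs q h => lft_of_retract r s hs q h)
    (fun f g hf hs h => SchDesc.lft f g hf.1 hf.2 hs h) f q g l hl hg hs h

theorem lfp {E U V A : Scheme.{u}} (f : E ⟶ U) (q : U ⟶ V) (g : A ⟶ U) (l : A ⟶ E) (hl : l ≫ f = g)
    (hg : (@Flat ⊓ @LocallyOfFinitePresentation : MorphismProperty Scheme.{u}) g) (hs : Surjective g)
    (h : LocallyOfFinitePresentation (f ≫ q)) : LocallyOfFinitePresentation q :=
  of_refine (P := @LocallyOfFinitePresentation)
    (fun f g hf hg => by have := hf.2; infer_instance)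
    (fun r s hs q h => lfp_of_retract r s hs q h)
    (fun f g hf hs h => SchDesc.lfp f g hf.1 hf.2 hs h) f q g l hl hg hs h

/-- From refinement by a single fppf cover to refinement by a jointly surjective fppf family. -/
theorem family {P : MorphismProperty Scheme.{u}}
    (hP : ∀ {E U V A : Scheme.{u}} (f : E ⟶ U) (q : U ⟶ V) (g : A ⟶ U) (l : A ⟶ E) (_ : l ≫ f = g)
      (_ : (@Flat ⊓ @LocallyOfFinitePresentation : MorphismProperty Scheme.{u}) g) (_ : Surjective g)
      (_ : P (f ≫ q)), P q)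
    {ι : Type u} {E U V : Scheme.{u}} (f : E ⟶ U) (q : U ⟶ V) (A : ι → Scheme.{u}) (g : ∀ i, A i ⟶ U)
    (l : ∀ i, A i ⟶ E) (hl : ∀ i, l i ≫ f = g i)
    (hg : ∀ i, (@Flat ⊓ @LocallyOfFinitePresentation : MorphismProperty Scheme.{u}) (g i))
    (hs : ∀ y : U, ∃ i, y ∈ Set.range (g i)) (h : P (f ≫ q)) : P q := by
  let p : (∐ A) ⟶ U := Sigma.desc g
  have hι : ∀ i, Sigma.ι A i ≫ p = g i := fun i => Sigma.ι_desc _ _
  have hp : Surjective p := by
    constructor
    intro y
    obtain ⟨i, x, hx⟩ := hs y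
    refine ⟨Sigma.ι A i x, ?_⟩
    rw [← Scheme.Hom.comp_apply, hι, hx]
  refine hP f q p (Sigma.desc l) ?_ ?_ hp h
  · refine Sigma.hom_ext _ _ fun i => ?_
    rw [Sigma.ι_desc_assoc, hl, hι]
  · rw [IsZariskiLocalAtSource.iff_of_openCover
      (P := (@Flat ⊓ @LocallyOfFinitePresentation : MorphismProperty Scheme.{u})) (sigmaOpenCover _)]
    intro i
    change (@Flat ⊓ @LocallyOfFinitePresentation : MorphismProperty Scheme.{u}) (Sigma.ι A i ≫ p)
    rw [hι i]
    exact hg i

end K629.Refine
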