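import Groth.Agent.AlgSp.K629.Fppf
import Groth.Agent.AlgSp.K629.LocP
import Groth.Agent.AlgSp.K629.Refine

/-!
# Descent of `LocP P` along surjections of fppf sheaves
-/

set_option autoImplicit false
universe u
open CategoryTheory CategoryTheory.Limits AlgebraicGeometry Opposite
open AlgSp K629.Basic

namespace K629.LocSurj

variable {S : Scheme.{u}}

/-- If `g : X ⟶ Y` is a surjection of fppf sheaves, `X` an algebraic space and `X ⟶ Y ⟶ Z` has `P` on etale charts
then so does `Y ⟶ Z`, for `P` descending along morphisms refined by fppf covers. -/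
theorem locP {P : MorphismProperty Scheme.{u}}
    (hP : ∀ {ι : Type u} {E U V : Scheme.{u}} (f : E ⟶ U) (q : U ⟶ V) (A : ι → Scheme.{u}) (g : ∀ i, A i ⟶ U)
      (l : ∀ i, A i ⟶ E) (_ : ∀ i, l i ≫ f = g i)
      (_ : ∀ i, (@Flat ⊓ @LocallyOfFinitePresentation : MorphismProperty Scheme.{u}) (g i))
      (_ : ∀ y : U, ∃ i, y ∈ Set.range (g i)) (_ : P (f ≫ q)), P q)
    {X Y Z : Sp S} (hX : IsAlgSpace X) (g : X ⟶ Y) (hg : Sheaf.IsLocallySurjective g)
    (h : Y ⟶ Z) (hgh : LocP P (g ≫ h)) : LocP P h := by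
  intro U V a b k ha hb hab
  obtain ⟨A, c, hc, hc'⟩ := hX.atlas
  obtain ⟨ι, T, t, l, hl, ht, hs⟩ := Fppf.exists_lift hg a
  -- `E = U ×_Y A`
  obtain ⟨E, e₂, e₁, hE, he₁⟩ := exists_pb_yon ha (c ≫ g)
  have hEX : RepWith @Etale ((yon S).map e₁ ≫ c) := repWith_etale_yon_comp he₁ hc
  have hEV : P (e₂ ≫ k).left := hgh ((yon S).map e₁ ≫ c) b (e₂ ≫ k) hEX hb (by
    rw [(yon S).map_comp, Category.assoc, Category.assoc, ← hab, ← Category.assoc _ a h, hE.w]
    simp)
  -- `A i = A ×_X T i`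
  choose B p q hB hq using fun i => exists_pb_yon hc (l i)
  have hq' : ∀ i, Surjective (q i).left := fun i => repWith_prop hc' (hB i)
  have hk : ∀ i, (yon S).map (q i ≫ t i) ≫ a = (yon S).map (p i) ≫ c ≫ g := fun i => by
    rw [(yon S).map_comp, Category.assoc, ← hl, ← Category.assoc, ← (hB i).w, Category.assoc]
  choose m hm using fun i => (yon S).map_surjective (hE.lift _ _ (hk i))
  have hm' : ∀ i, m i ≫ e₂ = q i ≫ t i := fun i => by
    apply (yon S).map_injective
    rw [(yon S).map_comp, hm, hE.lift_fst]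
  rw [Over.comp_left] at hEV
  refine hP e₂.left k.left (fun i => (B i).left) (fun i => (q i).left ≫ (t i).left)
    (fun i => (m i).left) (fun i => ?_) (fun i => ?_) (fun y => ?_) hEV
  · rw [← Over.comp_left, hm', Over.comp_left]
  · have h1 : Etale (q i).left := hq i
    have h2 := (ht i).1
    have h3 := (ht i).2
    exact ⟨inferInstance, inferInstance⟩
  · obtain ⟨i, z, hz⟩ := hs y
    obtain ⟨w, hw⟩ := (hq' i).surj z
    refine ⟨i, w, ?_⟩
    rw [Scheme.Hom.comp_apply, hw, hz]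

end K629.LocSurj
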