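import Groth.Prelude.Def_AlgSpCov
import Groth.Prelude.Def_AlgSpDec

/-!
# Basic tools on charts and points of algebraic spaces

Represented pullbacks, points of pullbacks, points of charts.
-/

set_option autoImplicit false
universe u
open CategoryTheory CategoryTheory.Limits AlgebraicGeometry Opposite
open AlgSp

namespace K629.Basic

variable {S : Scheme.{u}}

/-- Represented pullback of a `RepWith P` map along a map from a scheme. -/
theorem exists_pb {P : MorphismProperty Scheme.{u}} {F G : Sp S} {f : F ⟶ G} (hf : RepWith P f)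
    {U : Over S} (g : (yon S).obj U ⟶ G) :
    ∃ (W : Over S) (a : (yon S).obj W ⟶ F) (b : W ⟶ U),
      IsPullback a ((yon S).map b) f g ∧ P b.left := by
  obtain ⟨W, b, a, h⟩ := hf.1 g
  exact ⟨W, a, b, h, hf.2 _ _ _ h⟩

/-- Represented pullback of a representable map along a map from a scheme. -/
theorem exists_pb' {F G : Sp S} {f : F ⟶ G} (hf : Representable f)
    {U : Over S} (g : (yon S).obj U ⟶ G) :
    ∃ (W : Over S) (a : (yon S).obj W ⟶ F) (b : W ⟶ U), IsPullback a ((yon S).map b) f g := by
  obtain ⟨W, b, a, h⟩ := hf g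
  exact ⟨W, a, b, h⟩

/-- Represented pullback of two maps from schemes. -/
theorem exists_pb_yon {P : MorphismProperty Scheme.{u}} {G : Sp S} {T U : Over S}
    {f : (yon S).obj T ⟶ G} (hf : RepWith P f) (g : (yon S).obj U ⟶ G) :
    ∃ (W : Over S) (a : W ⟶ T) (b : W ⟶ U),
      IsPullback ((yon S).map a) ((yon S).map b) f g ∧ P b.left := by
  obtain ⟨W, a, b, h, hb⟩ := exists_pb hf g
  obtain ⟨a, rfl⟩ := (yon S).map_surjective a
  exact ⟨W, a, b, h, hb⟩

theorem exists_pb_yon' {G : Sp S} {T U : Over S}
    {f : (yon S).obj T ⟶ G} (hf : Representable f) (g : (yon S).obj U ⟶ G) :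
    ∃ (W : Over S) (a : W ⟶ T) (b : W ⟶ U),
      IsPullback ((yon S).map a) ((yon S).map b) f g := by
  obtain ⟨W, a, b, h⟩ := exists_pb' hf g
  obtain ⟨a, rfl⟩ := (yon S).map_surjective a
  exact ⟨W, a, b, h⟩

/-- Any two pullback squares: the property of one base change. -/
theorem repWith_prop {P : MorphismProperty Scheme.{u}} {F G : Sp S} {f : F ⟶ G} (hf : RepWith P f)
    {U W : Over S} {g : (yon S).obj U ⟶ G} {a : (yon S).obj W ⟶ F} {b : W ⟶ U}
    (h : IsPullback a ((yon S).map b) f g) : P b.left := hf.2 _ _ _ h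

theorem repWith_mono {P Q : MorphismProperty Scheme.{u}} (h : P ≤ Q) {F G : Sp S} {f : F ⟶ G}
    (hf : RepWith P f) : RepWith Q f := ⟨hf.1, fun _ _ g fst snd hh => h _ (hf.2 g fst snd hh)⟩

/-- Composition of representable maps with a property. -/
theorem repWith_comp (P : MorphismProperty Scheme.{u}) [P.IsStableUnderBaseChange]
    [P.IsMultiplicative] {F G H : Sp S} {f : F ⟶ G} {g : G ⟶ H}
    (hf : RepWith P f) (hg : RepWith P g) : RepWith P (f ≫ g) :=
  (repWith_isMultiplicative P).comp_mem _ _ hf hg

/-- Precomposition of a representable etale map with an etale map of schemes. -/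
theorem repWith_etale_yon_comp {F : Sp S} {U V : Over S} {f : U ⟶ V} (hf : Etale f.left)
    {g : (yon S).obj V ⟶ F} (hg : RepWith @Etale g) : RepWith @Etale ((yon S).map f ≫ g) :=
  repWith_comp _ ((repWith_yon_map_iff _ _).2 hf) hg

/-- It is enough to check one pullback over each scheme over the target. -/
theorem repWith_of_exists {P : MorphismProperty Scheme.{u}} [P.IsStableUnderBaseChange] {F G : Sp S} {f : F ⟶ G}
    (h : ∀ (U : Over S) (g : (yon S).obj U ⟶ G), ∃ (W : Over S) (a : (yon S).obj W ⟶ F) (b : W ⟶ U),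
      IsPullback a ((yon S).map b) f g ∧ P b.left) : RepWith P f := by
  have : P.RespectsIso := MorphismProperty.IsStableUnderBaseChange.respectsIso
  refine ⟨fun U g => ?_, fun U V g fst snd hh => ?_⟩
  · obtain ⟨W, a, b, h1, -⟩ := h U g
    exact ⟨W, b, a, h1⟩
  · obtain ⟨W, a, b, h1, h2⟩ := h U g
    let e : (yon S).obj V ≅ (yon S).obj W := hh.isoIsPullback _ _ h1
    have he : e.hom ≫ (yon S).map b = (yon S).map snd := hh.isoIsPullback_hom_snd _ _ h1
    obtain ⟨e', he'⟩ := (yon S).map_surjective e.hom
    have : IsIso ((yon S).map e') := by rw [he']; infer_instance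
    have : IsIso e' := isIso_of_fully_faithful (yon S) e'
    have h3 : snd = e' ≫ b := by
      apply (yon S).map_injective
      rw [(yon S).map_comp, he', he]
    have : IsIso e'.left := inferInstanceAs (IsIso ((Over.forget S).map e'))
    change P snd.left
    rw [h3, Over.comp_left]
    exact (P.cancel_left_of_respectsIso _ _).2 h2

/-- Evaluation of a pullback square of sheaves at a scheme over `S`. -/
theorem isPullback_app {P F G H : Sp S} {fst : P ⟶ F} {snd : P ⟶ G} {f : F ⟶ H} {g : G ⟶ H}
    (h : IsPullback fst snd f g) (T : (Over S)ᵒᵖ) :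
    IsPullback (fst.hom.app T) (snd.hom.app T) (f.hom.app T) (g.hom.app T) :=
  h.map (sheafToPresheaf _ _ ⋙ (evaluation _ _).obj T)

theorem exists_section {P F G H : Sp S} {fst : P ⟶ F} {snd : P ⟶ G} {f : F ⟶ H} {g : G ⟶ H}
    (h : IsPullback fst snd f g) {T : (Over S)ᵒᵖ} (x : F.obj.obj T) (y : G.obj.obj T)
    (hxy : f.hom.app T x = g.hom.app T y) :
    ∃ z : P.obj.obj T, fst.hom.app T z = x ∧ snd.hom.app T z = y :=
  Types.exists_of_isPullback (isPullback_app h T) x y hxy

/-- Points of a fibre product of sheaves surject onto the fibre product of the sets of points. -/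
theorem exists_point {P F G H : Sp S} {fst : P ⟶ F} {snd : P ⟶ G} {f : F ⟶ H} {g : G ⟶ H}
    (h : IsPullback fst snd f g) (x : Points F) (y : Points G)
    (hxy : Points.map f x = Points.map g y) :
    ∃ z : Points P, Points.map fst z = x ∧ Points.map snd z = y := by
  induction x using Points.ind with
  | h p =>
  induction y using Points.ind with
  | h q =>
    obtain ⟨K, str, v⟩ := p
    obtain ⟨L, str', v'⟩ := q
    obtain ⟨Ω, _, w, a, b, hab⟩ := Points.mk_eq_mk_iff.1 hxy
    change Over.mk w ⟶ Over.mk str at a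
    change Over.mk w ⟶ Over.mk str' at b
    change H.obj.map a.op (f.hom.app _ v) = H.obj.map b.op (g.hom.app _ v') at hab
    rw [← NatTrans.naturality_apply, ← NatTrans.naturality_apply] at hab
    obtain ⟨z, hz1, hz2⟩ := exists_section h _ _ hab
    refine ⟨Points.mk ⟨Ω, w, z⟩, ?_, ?_⟩
    · refine Points.sound ⟨Ω, inferInstance, w, 𝟙 _, a, ?_⟩
      change F.obj.map (𝟙 (Over.mk w)).op (fst.hom.app _ z) = F.obj.map a.op v
      rw [hz1, op_id, Functor.map_id_apply]
    · refine Points.sound ⟨Ω, inferInstance, w, 𝟙 _, b, ?_⟩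
      change G.obj.map (𝟙 (Over.mk w)).op (snd.hom.app _ z) = G.obj.map b.op v'
      rw [hz2, op_id, Functor.map_id_apply]

/-- The point defined by a composite through a morphism of schemes. -/
theorem ofPt_comp {F : Sp S} {T' T : Over S} (φ : T' ⟶ T) (g : (yon S).obj T ⟶ F) (t : ↥T'.left) :
    Points.ofPt ((yon S).map φ ≫ g) t = Points.ofPt g (φ.left t) := by
  rw [← Points.map_ofPt, ← Points.ofScheme_toScheme T (Points.ofPt ((yon S).map φ) t),
    Points.toScheme_ofPt, ← Points.ofPt_eq_map_ofScheme]

/-- Points of a represented pullback. -/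
theorem exists_pt_yon {G : Sp S} {T U W : Over S} {f : (yon S).obj T ⟶ G}
    {g : (yon S).obj U ⟶ G} {a : W ⟶ T} {b : W ⟶ U}
    (h : IsPullback ((yon S).map a) ((yon S).map b) f g) (t : ↥T.left) (v : ↥U.left)
    (hxy : Points.ofPt f t = Points.ofPt g v) : ∃ w : ↥W.left, a.left w = t ∧ b.left w = v := by
  rw [Points.ofPt_eq_map_ofScheme f, Points.ofPt_eq_map_ofScheme g] at hxy
  obtain ⟨z, hz1, hz2⟩ := exists_point h _ _ hxy
  obtain ⟨w, rfl⟩ := (Points.schemeEquiv W).surjective z
  refine ⟨w, ?_, ?_⟩
  · have := congrArg (Points.toScheme T) hz1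
    rw [Points.toScheme_ofScheme] at this
    rw [← this, ← Points.toScheme_ofPt]
    rfl
  · have := congrArg (Points.toScheme U) hz2
    rw [Points.toScheme_ofScheme] at this
    rw [← this, ← Points.toScheme_ofPt]
    rfl

/-- Points of a pullback of a map of sheaves along a map from a scheme. -/
theorem exists_pt {F G : Sp S} {U W : Over S} {f : F ⟶ G}
    {g : (yon S).obj U ⟶ G} {a : (yon S).obj W ⟶ F} {b : W ⟶ U}
    (h : IsPullback a ((yon S).map b) f g) (x : Points F) (v : ↥U.left)
    (hxy : Points.map f x = Points.ofPt g v) : ∃ w : ↥W.left, Points.ofPt a w = x ∧ b.left w = v := by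
  rw [Points.ofPt_eq_map_ofScheme g] at hxy
  obtain ⟨z, hz1, hz2⟩ := exists_point h _ _ hxy
  obtain ⟨w, rfl⟩ := (Points.schemeEquiv W).surjective z
  refine ⟨w, ?_, ?_⟩
  · rw [← hz1, Points.ofPt_eq_map_ofScheme]
    rfl
  · have := congrArg (Points.toScheme U) hz2
    rw [Points.toScheme_ofScheme] at this
    rw [← this, ← Points.toScheme_ofPt]
    rfl

/-- A representable surjective map from a scheme is surjective on points. -/
theorem ofPt_surjective {F : Sp S} {U : Over S} {p : (yon S).obj U ⟶ F}
    (hp : RepWith @Surjective p) : Function.Surjective (Points.ofPt p) := by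
  intro x
  induction x using Points.ind with
  | h q =>
    obtain ⟨W, a, b, h, hb⟩ := exists_pb_yon hp q.toHom
    have s : ↥(Spec (CommRingCat.of q.K)) := IsLocalRing.closedPoint q.K
    obtain ⟨w, hw⟩ := hb.surj s
    refine ⟨a.left w, ?_⟩
    rw [← ofPt_comp, h.w, ofPt_comp]
    exact Points.ofPt_toHom q _

/-- A representable surjective map is surjective on points. -/
theorem map_surjective {F G : Sp S} {f : F ⟶ G}
    (hp : RepWith @Surjective f) : Function.Surjective (Points.map f) := by
  intro x
  induction x using Points.ind with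
  | h q =>
    obtain ⟨W, a, b, h, hb⟩ := exists_pb hp q.toHom
    have s : ↥(Spec (CommRingCat.of q.K)) := IsLocalRing.closedPoint q.K
    obtain ⟨w, hw⟩ := hb.surj s
    refine ⟨Points.ofPt a w, ?_⟩
    rw [Points.map_ofPt, h.w, ofPt_comp]
    exact Points.ofPt_toHom q _

/-- A morphism between charts over a sheaf which commutes with representable etale maps is etale. -/
theorem etale_of_comp {F : Sp S} {T U : Over S} (h : T ⟶ U) (b : (yon S).obj U ⟶ F)
    (hb : RepWith @Etale b) (hh : RepWith @Etale ((yon S).map h ≫ b)) : Etale h.left := by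
  obtain ⟨W, p, q, hW, hq⟩ := exists_pb_yon hh b
  -- `p : W ⟶ T` is etale, with a section
  have hp : Etale p.left := by
    refine hb.2 ((yon S).map h ≫ b) ((yon S).map q) p hW.flip
  have hs : 𝟙 ((yon S).obj T) ≫ (yon S).map h ≫ b = (yon S).map h ≫ b := by simp
  obtain ⟨s, hs'⟩ := (yon S).map_surjective (hW.lift _ _ hs)
  have h1 : s ≫ p = 𝟙 T := by
    apply (yon S).map_injective
    rw [(yon S).map_comp, hs', hW.lift_fst, (yon S).map_id]
  have h2 : s ≫ q = h := by
    apply (yon S).map_injective
    rw [(yon S).map_comp, hs', hW.lift_snd]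
  have h3 : Etale s.left := by
    have : Etale (s.left ≫ p.left) := by
      rw [← Over.comp_left, h1, Over.id_left]; infer_instance
    exact MorphismProperty.of_postcomp (W := @Etale) (W' := @Etale) s.left p.left hp this
  rw [← h2, Over.comp_left]
  have hq' : Etale q.left := hq
  infer_instance

end K629.Basic
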