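import Mathlib.AlgebraicGeometry.Morphisms.FlatMono
import Mathlib.AlgebraicGeometry.Morphisms.FormallyUnramified
import Mathlib.AlgebraicGeometry.Morphisms.QuasiFinite
import Groth.Agent.S0113
import Groth.Agent.S0114
import Groth.Agent.S0115
import Groth.Agent.S1128
import Groth.Agent.S1163
import Groth.Agent.S1179
import Groth.Agent.S1180
import Groth.Agent.S1413
import Groth.Agent.Ega43.FPOfComp
import Groth.Agent.Etbase.FppfSource
import Groth.Agent.Flat2G.EtaleSource

/-!
# Descent of properties of morphisms of schemes along covers of the source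

For `T ⟶ U` flat and surjective (resp. fppf, smooth, etale and surjective) and `U ⟶ V` with
`T ⟶ U ⟶ V` in `P` then `U ⟶ V` is in `P`; also for jointly surjective families.
-/

set_option autoImplicit false
universe u
open CategoryTheory CategoryTheory.Limits AlgebraicGeometry Opposite

namespace K629.SchDesc

/-- Flatness descends along flat surjective morphisms to the source. -/
theorem flat {X Y Z : Scheme.{u}} (f : X ⟶ Y) (g : Y ⟶ Z) (hf : Flat f) (hs : Surjective f)
    (h : Flat (f ≫ g)) : Flat g := Groth.Agent.S1128.result f g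

/-- Locally of finite type descends along fppf covers of the source. -/
theorem lft {X Y Z : Scheme.{u}} (f : X ⟶ Y) (g : Y ⟶ Z) (hf : Flat f)
    (hfp : LocallyOfFinitePresentation f) (hs : Surjective f)
    (h : LocallyOfFiniteType (f ≫ g)) : LocallyOfFiniteType g := by
  refine Groth.Agent.Etbase.FppfSource.of_fppf_comp_of_ringHom @LocallyOfFiniteType
    RingHom.FiniteType ?_ f g inferInstance
  intro R A B _ _ _ φ ψ hff hfp h
  algebraize [φ, ψ, ψ.comp φ]
  exact Groth.Agent.S0113.result (R := R) (A := A) (B := B)

/-- Locally of finite presentation descends along fppf covers of the source. -/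
theorem lfp {X Y Z : Scheme.{u}} (f : X ⟶ Y) (g : Y ⟶ Z) (hf : Flat f)
    (hfp : LocallyOfFinitePresentation f) (hs : Surjective f)
    (h : LocallyOfFinitePresentation (f ≫ g)) : LocallyOfFinitePresentation g :=
  Groth.Agent.S0114.result f g

/-- Smoothness descends along fppf covers of the source. -/
theorem smooth {X Y Z : Scheme.{u}} (f : X ⟶ Y) (g : Y ⟶ Z) (hf : Flat f)
    (hfp : LocallyOfFinitePresentation f) (hs : Surjective f)
    (h : Smooth (f ≫ g)) : Smooth g :=
  Groth.Agent.S0115.result f g

/-- Etaleness descends along fppf covers of the source. -/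
theorem etale {X Y Z : Scheme.{u}} (f : X ⟶ Y) (g : Y ⟶ Z) (hf : Flat f)
    (hfp : LocallyOfFinitePresentation f) (hs : Surjective f)
    (h : Etale (f ≫ g)) : Etale g := by
  have h1 : LocallyOfFinitePresentation g := lfp f g hf hfp hs inferInstance
  have h2 : Flat g := flat f g hf hs inferInstance
  have h3 : Flat (pullback.diagonal g) := by
    have : IsOpenImmersion (pullback.diagonal (f ≫ g)) := inferInstance
    exact Groth.Agent.S1413.result f g
  have h4 : LocallyOfFinitePresentation (pullback.diagonal g) := by
    have : LocallyOfFinitePresentation (pullback.diagonal g ≫ pullback.fst g g) := by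
      rw [pullback.diagonal_fst]
      infer_instance
    exact Groth.Agent.Ega43.FPOfComp.locallyOfFinitePresentation_of_comp _ (pullback.fst g g)
  have h5 : IsOpenImmersion (pullback.diagonal g) := IsOpenImmersion.of_flat_of_mono _
  exact Etale.of_formallyUnramified_of_flat g

/-- Being locally quasi-finite and locally of finite type descends along etale covers of the source. -/
theorem lqf {X Y Z : Scheme.{u}} (f : X ⟶ Y) (g : Y ⟶ Z) (hf : Etale f) (hs : Surjective f)
    (h : (@LocallyQuasiFinite ⊓ @LocallyOfFiniteType : MorphismProperty Scheme.{u}) (f ≫ g)) :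
    (@LocallyQuasiFinite ⊓ @LocallyOfFiniteType : MorphismProperty Scheme.{u}) g := by
  have := h.1
  have := h.2
  exact Groth.Agent.S1179.result f g

/-- Being unramified descends along etale covers of the source. -/
theorem unramified {X Y Z : Scheme.{u}} (f : X ⟶ Y) (g : Y ⟶ Z) (hf : Etale f) (hs : Surjective f)
    (h : (@LocallyOfFiniteType ⊓ @FormallyUnramified : MorphismProperty Scheme.{u}) (f ≫ g)) :
    (@LocallyOfFiniteType ⊓ @FormallyUnramified : MorphismProperty Scheme.{u}) g := by
  have := h.1
  have := h.2
  exact (Groth.Agent.S1180.result f g).symm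

/-- Descent along jointly surjective families from descent along single covers.  `R` is the property of
the covering maps and `P` the property to be descended. -/
theorem family {R P : MorphismProperty Scheme.{u}} [IsZariskiLocalAtSource R] [IsZariskiLocalAtSource P]
    (hRP : ∀ {X Y Z : Scheme.{u}} (f : X ⟶ Y) (g : Y ⟶ Z), R f → Surjective f → P (f ≫ g) → P g)
    {ι : Type u} {Y Z : Scheme.{u}} (X : ι → Scheme.{u}) (f : ∀ i, X i ⟶ Y) (g : Y ⟶ Z)
    (hf : ∀ i, R (f i)) (hs : ∀ y : Y, ∃ i, y ∈ Set.range (f i)) (h : ∀ i, P (f i ≫ g)) : P g := by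
  let p : (∐ X) ⟶ Y := Sigma.desc f
  have hι : ∀ i, Sigma.ι X i ≫ p = f i := fun i => Sigma.ι_desc _ _
  have hp : Surjective p := by
    constructor
    intro y
    obtain ⟨i, x, hx⟩ := hs y
    refine ⟨Sigma.ι X i x, ?_⟩
    rw [← Scheme.Hom.comp_apply, hι, hx]
  have hR : R p := by
    rw [IsZariskiLocalAtSource.iff_of_openCover (P := R) (sigmaOpenCover _)]
    intro i
    change R (Sigma.ι X i ≫ p)
    rw [hι i]
    exact hf i
  refine hRP p g hR hp ?_
  rw [IsZariskiLocalAtSource.iff_of_openCover (P := P) (sigmaOpenCover _)]
  intro i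
  change P (Sigma.ι X i ≫ p ≫ g)
  rw [← Category.assoc, hι i]
  exact h i

end K629.SchDesc
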