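import Groth.Agent.AlgSp.K629.Basic

/-!
# Fppf coverings of schemes over `S` and lifts through locally surjective maps of sheaves
-/

set_option autoImplicit false
universe u
open CategoryTheory CategoryTheory.Limits AlgebraicGeometry Opposite
open AlgSp K629.Basic

namespace K629.Fppf

variable {S : Scheme.{u}}

theorem isMultiplicative_lfp :
    MorphismProperty.IsMultiplicative (@LocallyOfFinitePresentation : MorphismProperty Scheme.{u}) where
  id_mem _ := inferInstanceAs (LocallyOfFinitePresentation _)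

theorem isMultiplicative_fppf :
    (@Flat ⊓ @LocallyOfFinitePresentation : MorphismProperty Scheme.{u}).IsMultiplicative :=
  have := isMultiplicative_lfp.{u}
  inferInstance

/-- A covering sieve of the big fppf site contains a jointly surjective family of flat morphisms
locally of finite presentation. -/
theorem exists_cover {U : Over S} {R : Sieve U} (hR : R ∈ J S U) :
    ∃ (ι : Type u) (T : ι → Over S) (t : ∀ i, T i ⟶ U), (∀ i, R (t i)) ∧
      (∀ i, (@Flat ⊓ @LocallyOfFinitePresentation : MorphismProperty Scheme.{u}) (t i).left) ∧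
      ∀ v : ↥U.left, ∃ i, v ∈ Set.range (t i).left := by
  rw [GrothendieckTopology.mem_over_iff] at hR
  have := isMultiplicative_fppf.{u}
  obtain ⟨𝒰, h𝒰⟩ := Scheme.exists_cover_of_mem_grothendieckTopology
    (P := (@Flat ⊓ @LocallyOfFinitePresentation : MorphismProperty Scheme.{u})) hR
  refine ⟨𝒰.I₀, fun i => Over.mk (𝒰.f i ≫ U.hom), fun i => Over.homMk (𝒰.f i), fun i => ?_,
    fun i => 𝒰.map_prop i, fun v => ?_⟩
  · have := h𝒰 _ _ (Presieve.ofArrows.mk i)
    exact (Sieve.overEquiv_iff R (𝒰.f i)).1 this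
  · obtain ⟨i, y, hy⟩ := 𝒰.exists_eq v
    exact ⟨i, y, hy⟩

/-- A jointly surjective family of flat morphisms locally of finite presentation generates a
covering sieve of the big fppf site. -/
theorem mem_of_cover {U : Over S} {R : Sieve U} {ι : Type u} (T : ι → Over S) (t : ∀ i, T i ⟶ U)
    (h : ∀ i, R (t i))
    (h1 : ∀ i, (@Flat ⊓ @LocallyOfFinitePresentation : MorphismProperty Scheme.{u}) (t i).left)
    (h2 : ∀ v : ↥U.left, ∃ i, v ∈ Set.range (t i).left) : R ∈ J S U := by
  rw [GrothendieckTopology.mem_over_iff]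
  have hm : Presieve.ofArrows (fun i => (T i).left) (fun i => (t i).left) ∈
      Scheme.precoverage (@Flat ⊓ @LocallyOfFinitePresentation : MorphismProperty Scheme.{u}) U.left := by
    rw [Scheme.ofArrows_mem_precoverage_iff]
    exact ⟨fun v => by obtain ⟨i, y, hy⟩ := h2 v; exact ⟨i, y, hy⟩, h1⟩
  have h3 := Precoverage.generate_mem_toGrothendieck hm
  refine GrothendieckTopology.superset_covering _ ?_ h3
  rw [Sieve.generate_le_iff]
  rintro Y f ⟨i⟩
  rw [Sieve.overEquiv_iff]
  have : Over.homMk (U := Over.mk ((t i).left ≫ U.hom)) (V := U) (t i).left rfl =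
      Over.homMk (U := Over.mk ((t i).left ≫ U.hom)) (V := T i) (𝟙 _) (by simp) ≫ t i := by
    ext; simp
  rw [this]
  exact R.downward_closed (h i) _

/-- Lifting sections through locally surjective maps of fppf sheaves. -/
theorem exists_lift {X Y : Sp S} {g : X ⟶ Y} (hg : Sheaf.IsLocallySurjective g) {U : Over S}
    (a : (yon S).obj U ⟶ Y) :
    ∃ (ι : Type u) (T : ι → Over S) (t : ∀ i, T i ⟶ U) (l : ∀ i, (yon S).obj (T i) ⟶ X),
      (∀ i, l i ≫ g = (yon S).map (t i) ≫ a) ∧
      (∀ i, (@Flat ⊓ @LocallyOfFinitePresentation : MorphismProperty Scheme.{u}) (t i).left) ∧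
      ∀ v : ↥U.left, ∃ i, v ∈ Set.range (t i).left := by
  obtain ⟨ι, T, t, h1, h2, h3⟩ := exists_cover (hg.imageSieve_mem ((J S).uliftYonedaEquiv a))
  choose x hx using h1
  refine ⟨ι, T, t, fun i => (J S).uliftYonedaEquiv.symm (x i), fun i => ?_, h2, h3⟩
  apply (J S).uliftYonedaEquiv.injective
  rw [GrothendieckTopology.uliftYonedaEquiv_comp, Equiv.apply_symm_apply]
  refine (hx i).trans ?_
  rw [GrothendieckTopology.map_uliftYonedaEquiv]
  rfl

end K629.Fppf
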