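import Groth.Agent.AlgSp.K629.LocP
import Groth.Agent.AlgSp.K629.SchDesc

/-!
# The usual properties of morphisms of schemes are etale local on source and target (`EtLoc`)
-/

set_option autoImplicit false
universe u
open CategoryTheory CategoryTheory.Limits AlgebraicGeometry Opposite
open AlgSp K629.Basic K629.LocP

namespace K629.EtLocInst

theorem flat : EtLoc (@Flat : MorphismProperty Scheme.{u}) :=
  EtLoc.mk' _ (fun _ _ => inferInstance) fun f g _ hs h => SchDesc.flat f g inferInstance hs h

theorem lft : EtLoc (@LocallyOfFiniteType : MorphismProperty Scheme.{u}) :=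
  EtLoc.mk' _ (fun _ _ => inferInstance) fun f g _ hs h =>
    SchDesc.lft f g inferInstance inferInstance hs h

theorem lfp : EtLoc (@LocallyOfFinitePresentation : MorphismProperty Scheme.{u}) :=
  EtLoc.mk' _ (fun _ _ => inferInstance) fun f g _ hs h =>
    SchDesc.lfp f g inferInstance inferInstance hs h

theorem smooth : EtLoc (@Smooth : MorphismProperty Scheme.{u}) :=
  EtLoc.mk' _ (fun _ _ => inferInstance) fun f g _ hs h =>
    SchDesc.smooth f g inferInstance inferInstance hs h

theorem etale : EtLoc (@Etale : MorphismProperty Scheme.{u}) :=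
  EtLoc.mk' _ (fun _ _ => inferInstance) fun f g _ hs h =>
    SchDesc.etale f g inferInstance inferInstance hs h

theorem fppf : EtLoc (@Flat ⊓ @LocallyOfFinitePresentation : MorphismProperty Scheme.{u}) :=
  EtLoc.mk' _ (fun _ _ => ⟨inferInstance, inferInstance⟩) fun f g _ hs h =>
    ⟨SchDesc.flat f g inferInstance hs h.1, SchDesc.lfp f g inferInstance inferInstance hs h.2⟩

theorem unramified :
    EtLoc (@LocallyOfFiniteType ⊓ @FormallyUnramified : MorphismProperty Scheme.{u}) :=
  EtLoc.mk' _ (fun _ _ => ⟨inferInstance, inferInstance⟩) fun f g hf hs h =>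
    SchDesc.unramified f g hf hs h

theorem locallyQuasiFinite_of_etale {X Y : Scheme.{u}} (f : X ⟶ Y) (hf : Etale f) :
    LocallyQuasiFinite f where
  quasiFinite_appLE {U} hU {V} hV e := by
    have h := HasRingHomProperty.appLE @AlgebraicGeometry.Etale f ‹_› ⟨U, hU⟩ ⟨V, hV⟩ e
    algebraize [(f.appLE U V e).hom]
    change Algebra.QuasiFinite Γ(Y, U) Γ(X, V)
    infer_instance

theorem lqf :
    EtLoc (@LocallyQuasiFinite ⊓ @LocallyOfFiniteType : MorphismProperty Scheme.{u}) :=
  EtLoc.mk' _ (fun _ h => ⟨locallyQuasiFinite_of_etale _ h, inferInstance⟩) fun f g hf hs h =>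
    SchDesc.lqf f g hf hs h

end K629.EtLocInst
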