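import Groth.Agent.AlgSp.K629.LocP

/-!
# Charts adapted to coverings of algebraic spaces, and locality on the source
-/

set_option autoImplicit false
universe u
open CategoryTheory CategoryTheory.Limits AlgebraicGeometry Opposite
open AlgSp K629.Basic K629.LocP

namespace K629.Cover

variable {S : Scheme.{u}}

/-- Charts adapted to one morphism `g : X' ⟶ X` and one etale chart `a : h_U ⟶ X`: a scheme `T ⟶ U` over `S` with
an etale chart `h_T ⟶ X'` over `X`, hitting every point of `U` whose image in `|X|` comes from `|X'|`. -/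
theorem exists_chart {X X' : Sp S} (hX' : IsAlgSpace X') (g : X' ⟶ X) {U : Over S}
    (a : (yon S).obj U ⟶ X) (ha : RepWith @Etale a) :
    ∃ (T : Over S) (t : T ⟶ U) (c : (yon S).obj T ⟶ X'), RepWith @Etale c ∧
      c ≫ g = (yon S).map t ≫ a ∧
      ∀ v : ↥U.left, Points.ofPt a v ∈ Set.range (Points.map g) → v ∈ Set.range t.left := by
  obtain ⟨T', c', hc', hc''⟩ := hX'.atlas
  obtain ⟨T, t, q, hT, hq⟩ := exists_pb_yon ha (c' ≫ g)
  refine ⟨T, t, (yon S).map q ≫ c', repWith_etale_yon_comp hq hc', ?_, ?_⟩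
  · rw [Category.assoc]
    exact hT.w.symm
  · rintro v ⟨x', hx'⟩
    obtain ⟨t', rfl⟩ := ofPt_surjective hc'' x'
    rw [Points.map_ofPt] at hx'
    obtain ⟨w, hw1, -⟩ := exists_pt_yon hT v t' hx'.symm
    exact ⟨w, hw1⟩

/-- Charts adapted to a family of morphisms which is jointly surjective on points. -/
theorem exists_charts {ι : Type u} {X : Sp S} (Xi : ι → Sp S) (g : ∀ i, Xi i ⟶ X)
    (hXi : ∀ i, IsAlgSpace (Xi i)) (hg : ∀ x : Points X, ∃ i, x ∈ Set.range (Points.map (g i)))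
    {U : Over S} (a : (yon S).obj U ⟶ X) (ha : RepWith @Etale a) :
    ∃ (T : ι → Over S) (t : ∀ i, T i ⟶ U) (c : ∀ i, (yon S).obj (T i) ⟶ Xi i),
      (∀ i, RepWith @Etale (c i)) ∧ (∀ i, c i ≫ g i = (yon S).map (t i) ≫ a) ∧
      ∀ v : ↥U.left, ∃ i, v ∈ Set.range (t i).left := by
  choose T t c h1 h2 h3 using fun i => exists_chart (hXi i) (g i) a ha
  refine ⟨T, t, c, h1, h2, fun v => ?_⟩
  obtain ⟨i, hi⟩ := hg (Points.ofPt a v)
  exact ⟨i, h3 i v hi⟩

/-- Source locality of `LocP P`, one direction: `P` is tested on a jointly surjective family. -/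
theorem locP_of_cover {P : MorphismProperty Scheme.{u}} {ι : Type u} {X Y : Sp S} (Xi : ι → Sp S)
    (g : ∀ i, Xi i ⟶ X) (hXi : ∀ i, IsAlgSpace (Xi i))
    (hg : ∀ x : Points X, ∃ i, x ∈ Set.range (Points.map (g i))) (f : X ⟶ Y)
    (R : MorphismProperty Scheme.{u}) (hR : ∀ i, LocP R (g i))
    (hRP : ∀ {Y Z : Scheme.{u}} (X : ι → Scheme.{u}) (f : ∀ i, X i ⟶ Y) (g : Y ⟶ Z),
      (∀ i, R (f i)) → (∀ y : Y, ∃ i, y ∈ Set.range (f i)) → (∀ i, P (f i ≫ g)) → P g)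
    (h : ∀ i, LocP P (g i ≫ f)) : LocP P f := by
  intro U V a b k ha hb hab
  obtain ⟨T, t, c, h1, h2, h3⟩ := exists_charts Xi g hXi hg a ha
  refine hRP (fun i => (T i).left) (fun i => (t i).left) k.left
    (fun i => hR i (c i) a (t i) (h1 i) ha (h2 i)) h3 fun i => ?_
  have := h i (c i) b (t i ≫ k) (h1 i) hb (by
    rw [← Category.assoc, h2, Category.assoc, hab, (yon S).map_comp, Category.assoc])
  rwa [Over.comp_left] at this

/-- Descent of `LocP P` along one surjective morphism. -/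
theorem locP_of_surjective {P : MorphismProperty Scheme.{u}} {X' X Y : Sp S} (hX' : IsAlgSpace X')
    (g : X' ⟶ X) (hg : IsSurjectiveMor g) (f : X ⟶ Y)
    (R : MorphismProperty Scheme.{u}) (hR : LocP R g)
    (hRP : ∀ {X Y Z : Scheme.{u}} (f : X ⟶ Y) (g : Y ⟶ Z), R f → Surjective f → P (f ≫ g) → P g)
    (h : LocP P (g ≫ f)) : LocP P f := by
  intro U V a b k ha hb hab
  obtain ⟨T, t, c, h1, h2, h3⟩ := exists_chart hX' g a ha
  refine hRP t.left k.left (hR c a t h1 ha h2) ⟨fun v => h3 v (hg _)⟩ ?_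
  have := h c b (t ≫ k) h1 hb (by
    rw [← Category.assoc, h2, Category.assoc, hab, (yon S).map_comp, Category.assoc])
  rwa [Over.comp_left] at this

/-- `LocP P` is local on the source for the coverings `τ`. -/
theorem isLocalOnSource {P : MorphismProperty Scheme.{u}} (τ : CovNotion S)
    (R : MorphismProperty Scheme.{u})
    (hτ : ∀ {ι : Type u} {X : Sp S} (Xi : ι → Sp S) (g : ∀ i, Xi i ⟶ X), IsAlgSpace X → (∀ i, IsAlgSpace (Xi i)) →
      τ Xi g → (∀ i, LocP R (g i)) ∧ ∀ x : Points X, ∃ i, x ∈ Set.range (Points.map (g i)))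
    (hRP : ∀ {ι : Type u} {Y Z : Scheme.{u}} (X : ι → Scheme.{u}) (f : ∀ i, X i ⟶ Y) (g : Y ⟶ Z),
      (∀ i, R (f i)) → (∀ y : Y, ∃ i, y ∈ Set.range (f i)) → (∀ i, P (f i ≫ g)) → P g)
    (hcomp : ∀ {X Y Z : Scheme.{u}} (f : X ⟶ Y) (g : Y ⟶ Z), R f → P g → P (f ≫ g))
    (hR : EtLoc R) (hP : EtLoc P) : IsLocalOnSource τ (LocP P) := by
  intro ι X Xi g hX hXi hg Y f hY
  obtain ⟨h1, h2⟩ := hτ Xi g hX hXi hg
  exact ⟨fun hf i => comp hcomp hR.of_comp_etale hP.of_etale_surj hX (g i) f (h1 i) hf,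
    fun h => locP_of_cover Xi g hXi h2 f R h1 hRP h⟩

/-- An fpqc covering of an algebraic space is jointly surjective on points. -/
theorem jointly_surjective_of_isFpqcCover {ι : Type u} {X : Sp S} (hX : IsAlgSpace X) (Xi : ι → Sp S)
    (g : ∀ i, Xi i ⟶ X) (hg : IsFpqcCover Xi g) (x : Points X) :
    ∃ i, x ∈ Set.range (Points.map (g i)) := by
  obtain ⟨U, a, ha, ha'⟩ := hX.atlas
  obtain ⟨v, rfl⟩ := ofPt_surjective ha' x
  obtain ⟨Z, hZ, hv, -⟩ := exists_isAffineOpen_mem_and_subset (x := v) (U := ⊤) (by trivial)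
  let Z' : Over S := Over.mk (Z.ι ≫ U.hom)
  let z : Z' ⟶ U := Over.homMk Z.ι rfl
  obtain ⟨m, W, c, h1, h2, h3, h4⟩ := hg.2 Z' hZ ((yon S).map z ≫ a)
  obtain ⟨j, w, hw⟩ := h3 ⟨v, hv⟩
  obtain ⟨i, l, hl⟩ := h4 j
  refine ⟨i, Points.ofPt l w, ?_⟩
  rw [Points.map_ofPt, hl, ← Category.assoc, ← (yon S).map_comp, ofPt_comp]
  congr 1
  rw [Over.comp_left, Scheme.Hom.comp_apply, hw]
  rfl

end K629.Cover
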