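import Groth.Agent.AlgSp.K629.EtLocInst
import Groth.Agent.AlgSp.K594.Local
import Groth.Agent.AlgSp.K606.LqfDesc

/-!
# fppf locality on the base, for families of algebraic spaces

`repWith_of_family`: `f : X ⟶ Y` is representable with the property `P` if its base changes to a jointly
surjective family of flat and locally finitely presented morphisms `Y i ⟶ Y` are, when `P` is fppf local on
the target and contained in separated locally quasi-finite.
-/

set_option autoImplicit false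
universe u
open CategoryTheory CategoryTheory.Limits AlgebraicGeometry Opposite
open AlgSp K629.Basic K629.LocP

namespace K629.BaseLocal

variable {S : Scheme.{u}}

/-- Scheme level: a property descending along fppf morphisms and Zariski local on the target descends along
fppf families. -/
theorem prop_of_family (P : MorphismProperty Scheme.{u}) [P.IsStableUnderBaseChange]
    [IsZariskiLocalAtTarget P]
    [P.DescendsAlong (@Surjective ⊓ @Flat ⊓ @LocallyOfFinitePresentation)]
    {X Y : Scheme.{u}} (f : X ⟶ Y) {ι : Type u} (U : ι → Scheme.{u}) (g : ∀ i, U i ⟶ Y)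
    (h1 : ∀ i, Flat (g i)) (h2 : ∀ i, LocallyOfFinitePresentation (g i))
    (h3 : ∀ y : Y, ∃ i, y ∈ Set.range (g i)) (h : ∀ i, P (pullback.snd f (g i))) : P f := by
  have h4 := K594.Local.prop_of_sigma P f U g h
  refine MorphismProperty.of_pullback_snd_of_descendsAlong (P := P)
    (Q := @Surjective ⊓ @Flat ⊓ @LocallyOfFinitePresentation) ⟨⟨?_, ?_⟩, ?_⟩ h4
  · refine ⟨fun y => ?_⟩
    obtain ⟨i, x, hx⟩ := h3 y
    refine ⟨Sigma.ι U i x, ?_⟩
    rw [← Scheme.Hom.comp_apply, Sigma.ι_desc]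
    exact hx
  · exact IsZariskiLocalAtSource.sigmaDesc (P := @Flat) (fun i => h1 i)
  · exact IsZariskiLocalAtSource.sigmaDesc (P := @LocallyOfFinitePresentation) (fun i => h2 i)

/-- Pointwise fppf covers of a scheme over `Y`, factoring through a jointly surjective flat lfp family. -/
theorem exists_cover {ι : Type*} {Y : Sp S} (hY : IsAlgSpace Y) (Yi : ι → Sp S) (g : ∀ i, Yi i ⟶ Y)
    (hYi : ∀ i, IsAlgSpace (Yi i)) (h1 : ∀ i, LocP @Flat (g i))
    (h2 : ∀ i, LocP @LocallyOfFinitePresentation (g i))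
    (h3 : ∀ y : Points Y, ∃ i, y ∈ Set.range (Points.map (g i))) {T : Over S} (ξ : (yon S).obj T ⟶ Y)
    (t : ↥T.left) : ∃ (i : ι) (T' : Over S) (c : T' ⟶ T) (z : (yon S).obj T' ⟶ Yi i),
      Flat c.left ∧ LocallyOfFinitePresentation c.left ∧ t ∈ Set.range c.left ∧
      z ≫ g i = (yon S).map c ≫ ξ := by
  obtain ⟨i, y, hy⟩ := h3 (Points.ofPt ξ t)
  obtain ⟨V, a, ha, has⟩ := (hYi i).atlas
  obtain ⟨v, rfl⟩ := ofPt_surjective has y
  have : (@Flat ⊓ @LocallyOfFinitePresentation : MorphismProperty Scheme.{u}).IsStableUnderBaseChange :=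
    inferInstance
  have hag : RepWith (@Flat ⊓ @LocallyOfFinitePresentation : MorphismProperty Scheme.{u}) (a ≫ g i) :=
    EtLocInst.fppf.repWith hY (f := g i)
      (fun _ _ a b h ha hb hab => ⟨h1 i a b h ha hb hab, h2 i a b h ha hb hab⟩) a ha
  obtain ⟨T', q, c, hT, hc⟩ := exists_pb_yon hag ξ
  refine ⟨i, T', c, (yon S).map q ≫ a, hc.1, hc.2, ?_, ?_⟩
  · obtain ⟨w, -, hw⟩ := exists_pt_yon hT v t (by rw [← hy, Points.map_ofPt])
    exact ⟨w, hw⟩
  · rw [Category.assoc, hT.w]

/-- fppf locality on the base, family form. -/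
theorem repWith_of_family {P : MorphismProperty Scheme.{u}} [P.IsStableUnderBaseChange]
    [IsZariskiLocalAtTarget P]
    [P.DescendsAlong (@Surjective ⊓ @Flat ⊓ @LocallyOfFinitePresentation)]
    (hP : P ≤ K606.LqfDesc.SepLqf)
    {ι : Type*} {X Y : Sp S} (hY : IsAlgSpace Y) (Yi : ι → Sp S) (g : ∀ i, Yi i ⟶ Y)
    (hYi : ∀ i, IsAlgSpace (Yi i)) (h1 : ∀ i, LocP @Flat (g i))
    (h2 : ∀ i, LocP @LocallyOfFinitePresentation (g i))
    (h3 : ∀ y : Points Y, ∃ i, y ∈ Set.range (Points.map (g i))) (f : X ⟶ Y)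
    (Xi : ι → Sp S) (fst : ∀ i, Xi i ⟶ X) (snd : ∀ i, Xi i ⟶ Yi i)
    (sq : ∀ i, IsPullback (fst i) (snd i) f (g i)) (h : ∀ i, RepWith P (snd i)) : RepWith P f := by
  have key : ∀ {T : Over S} (ξ : (yon S).obj T ⟶ Y) (t : T.left), ∃ (T' : Over S) (c : T' ⟶ T),
      Flat c.left ∧ LocallyOfFinitePresentation c.left ∧ t ∈ Set.range c.left ∧
      ∃ (V' : Over S) (v' : V' ⟶ T') (a : (yon S).obj V' ⟶ X),
        IsPullback a ((yon S).map v') f ((yon S).map c ≫ ξ) ∧ P v'.left := by
    intro T ξ t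
    obtain ⟨i, T', c, z, hc1, hc2, ht, hz⟩ := exists_cover hY Yi g hYi h1 h2 h3 ξ t
    obtain ⟨V', a, v', hV, hv⟩ := exists_pb (h i) z
    refine ⟨T', c, hc1, hc2, ht, V', v', a ≫ fst i, ?_, hv⟩
    rw [← hz]
    exact hV.paste_horiz (sq i)
  have hrep : Representable f := by
    refine K606.LqfDesc.representable_of_exists_iso fun T ξ => ?_
    refine K606.LqfDesc.exists_iso_of_fppf_lqf (pullback.snd f ξ) fun t => ?_
    obtain ⟨T', c, hc1, hc2, ht, V', v', a, hV, hv⟩ := key ξ t
    have s2 := IsPullback.of_hasPullback f ξ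
    refine ⟨T', c, hc1, hc2, ht, V', v',
      s2.lift a ((yon S).map v' ≫ (yon S).map c) (by rw [hV.w, Category.assoc]), ?_, hP _ hv⟩
    refine IsPullback.of_right ?_ ?_ s2
    · rw [s2.lift_fst]
      exact hV
    · rw [s2.lift_snd]
  refine repWith_of_exists fun T ξ => ?_
  obtain ⟨W, a, b, hW⟩ := exists_pb' hrep ξ
  refine ⟨W, a, b, hW, ?_⟩
  choose T' c hc1 hc2 ht V' v' a' hV hv using key ξ
  refine prop_of_family P b.left (fun t => (T' t).left) (fun t => (c t).left) hc1 hc2
    (fun t => ⟨t, ht t⟩) fun t => ?_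
  -- the pullback of schemes
  have e : a' t ≫ f = ((yon S).map (v' t) ≫ (yon S).map (c t)) ≫ ξ := by
    rw [(hV t).w, Category.assoc]
  obtain ⟨r, hr⟩ := (yon S).map_surjective (hW.lift _ _ e)
  have hr1 : (yon S).map r ≫ a = a' t := by rw [hr, hW.lift_fst]
  have hr2 : (yon S).map r ≫ (yon S).map b = (yon S).map (v' t) ≫ (yon S).map (c t) := by
    rw [hr, hW.lift_snd]
  have hr3 : r ≫ b = v' t ≫ c t := by
    apply (yon S).map_injective
    rw [(yon S).map_comp, (yon S).map_comp, hr2]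
  have s3 : IsPullback ((yon S).map r) ((yon S).map (v' t)) ((yon S).map b) ((yon S).map (c t)) := by
    refine IsPullback.of_right (h₁₂ := a) (v₁₃ := f) (h₂₂ := ξ) ?_ hr2 hW
    rw [hr1]
    exact hV t
  have s4 : IsPullback r (v' t) b (c t) := IsPullback.of_map (yon S) hr3 s3
  have s5 : IsPullback r.left (v' t).left b.left (c t).left := s4.map (Over.forget S)
  rw [← s5.isoPullback_inv_snd]
  exact (P.cancel_left_of_respectsIso _ _).2 (hv t)

end K629.BaseLocal
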