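import Groth.Agent.AlgSp.K629.Basic

/-!
# Descent of etale local properties of algebraic spaces along surjective morphisms
-/

set_option autoImplicit false
universe u
open CategoryTheory CategoryTheory.Limits AlgebraicGeometry Opposite
open AlgSp K629.Basic

namespace K629.EtLocally

variable {S : Scheme.{u}}

/-- Charts of `X` and `Y` adapted to a surjective morphism `f : X ⟶ Y`: given etale surjective charts `p : h_U ⟶ X`
and `c : h_V ⟶ Y`, there is `W` with `W ⟶ U` etale and surjective and `W ⟶ V` surjective. -/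
theorem exists_chart {X Y : Sp S} (f : X ⟶ Y) (hs : IsSurjectiveMor f) {U V : Over S}
    (p : (yon S).obj U ⟶ X) (hp : RepWith @Etale p) (hp' : RepWith @Surjective p)
    (c : (yon S).obj V ⟶ Y) (hc : RepWith @Etale c) (hc' : RepWith @Surjective c) :
    ∃ (W : Over S) (w : W ⟶ U) (v : W ⟶ V), Etale w.left ∧ Surjective w.left ∧
      Surjective v.left ∧ RepWith @Etale ((yon S).map w ≫ p) ∧
      ((yon S).map w ≫ p) ≫ f = (yon S).map v ≫ c := by
  obtain ⟨W, v, w, hW, hw⟩ := exists_pb_yon hc (p ≫ f)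
  refine ⟨W, w, v, hw, repWith_prop hc' hW, ⟨fun y => ?_⟩, repWith_etale_yon_comp hw hp, ?_⟩
  · obtain ⟨x, hx⟩ := hs (Points.ofPt c y)
    obtain ⟨t, rfl⟩ := ofPt_surjective hp' x
    rw [Points.map_ofPt] at hx
    obtain ⟨z, hz, -⟩ := exists_pt_yon hW y t hx.symm
    exact ⟨z, hz⟩
  · rw [Category.assoc]
    exact hW.w.symm

/-- Descent of an etale local property of algebraic spaces along a surjective morphism whose charts
have the property `R`. -/
theorem of_surjective {P : Scheme.{u} → Prop} {R : MorphismProperty Scheme.{u}} {X Y : Sp S}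
    (hY : IsAlgSpace Y) (f : X ⟶ Y) (hs : IsSurjectiveMor f) (hR : LocP R f)
    (hX : EtaleLocally P X)
    (h1 : ∀ {T U : Scheme.{u}} (f : T ⟶ U), Etale f → P U → P T)
    (h2 : ∀ {T U : Scheme.{u}} (f : T ⟶ U), R f → Surjective f → P T → P U) :
    EtaleLocally P Y := by
  obtain ⟨U, p, hp, hp', hU⟩ := hX
  obtain ⟨V, c, hc, hc'⟩ := hY.atlas
  obtain ⟨W, w, v, hw, hw', hv, hW, hsq⟩ := exists_chart f hs p hp hp' c hc hc'
  exact ⟨V, c, hc, hc', h2 v.left (hR _ _ _ hW hc hsq) hv (h1 w.left hw hU)⟩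

end K629.EtLocally
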