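import Groth.Agent.AlgSp.K629.NsInv

/-!
# The cone ring and the algebraic contradiction
-/

set_option autoImplicit false
universe u
open Polynomial WeierstrassCurve.Affine TensorProduct
open scoped Polynomial.Bivariate

namespace K629.NsCone

section Base

variable {k : Type u} [Field k] (γ : k)

/-- the curve `e² + te = t³ + γt` -/
def WB : WeierstrassCurve.Affine k := { a₁ := 1, a₂ := 0, a₃ := 0, a₄ := γ, a₆ := 0 }

abbrev R := (WB γ).CoordinateRing

noncomputable def tR : R γ := CoordinateRing.mk (WB γ) (C X)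
noncomputable def eR : R γ := CoordinateRing.mk (WB γ) X

theorem eqnR : eR γ ^ 2 + tR γ * eR γ = tR γ ^ 3 + algebraMap k (R γ) γ * tR γ := by
  have h : CoordinateRing.mk (WB γ) (WB γ).polynomial = 0 := AdjoinRoot.mk_self
  have h1 : (WB γ).a₁ = 1 := rfl
  have h2 : (WB γ).a₂ = 0 := rfl
  have h3 : (WB γ).a₃ = 0 := rfl
  have h4 : (WB γ).a₄ = γ := rfl
  have h6 : (WB γ).a₆ = 0 := rfl
  simp only [polynomial, map_sub, map_add, map_mul, map_pow, h1, h2, h3, h4, h6, map_zero, map_one,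
    add_zero, one_mul, zero_mul] at h
  rw [sub_eq_zero] at h
  exact h

theorem aevalR (p : k[X]) : aeval (tR γ) p = p • (1 : R γ) := by
  rw [CoordinateRing.smul, mul_one]
  induction p using Polynomial.induction_on with
  | C a => rw [aeval_C]; rfl
  | add p q hp hq => rw [map_add, hp, hq, C_add, map_add]
  | monomial n a _ =>
    rw [map_mul, aeval_C, map_pow, aeval_X, C_mul, map_mul, C_pow, map_pow]
    rfl

theorem formR (f : R γ) : ∃ p q : k[X], f = aeval (tR γ) p + aeval (tR γ) q * eR γ := by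
  obtain ⟨p, q, h⟩ := CoordinateRing.exists_smul_basis_eq f
  refine ⟨p, q, ?_⟩
  rw [← h, aevalR, aevalR, smul_mul_assoc, one_mul]
  rfl

theorem indepR (p q : k[X]) (h : aeval (tR γ) p + aeval (tR γ) q * eR γ = 0) :
    p = 0 ∧ q = 0 := by
  rw [aevalR, aevalR, smul_mul_assoc, one_mul] at h
  exact CoordinateRing.smul_basis_eq_zero h

/-- a homomorphism from the coordinate ring -/
noncomputable def lift {S : Type u} [CommRing S] [Algebra k S] (t e : S)
    (h : e ^ 2 + t * e = t ^ 3 + algebraMap k S γ * t) : R γ →ₐ[k] S :=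
  AdjoinRoot.liftAlgHom (WB γ).polynomial (aeval t) e (by
    have h1 : (WB γ).a₁ = 1 := rfl
    have h2 : (WB γ).a₂ = 0 := rfl
    have h3 : (WB γ).a₃ = 0 := rfl
    have h4 : (WB γ).a₄ = γ := rfl
    have h6 : (WB γ).a₆ = 0 := rfl
    simp only [polynomial, eval₂_sub, eval₂_add, eval₂_mul, eval₂_pow, eval₂_X, eval₂_C,
      map_add, map_mul, map_pow, h1, h2, h3, h4, h6, map_zero, map_one, add_zero, one_mul, zero_mul]
    change e ^ 2 + (aeval t X) * e - (aeval t X ^ 3 + aeval t (C γ) * aeval t X) = 0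
    simp only [aeval_C, aeval_X]
    linear_combination h)

theorem lift_t {S : Type u} [CommRing S] [Algebra k S] (t e : S)
    (h : e ^ 2 + t * e = t ^ 3 + algebraMap k S γ * t) : lift γ t e h (tR γ) = t := by
  change AdjoinRoot.liftAlgHom (WB γ).polynomial (aeval t) e _ (AdjoinRoot.of _ X) = _
  rw [AdjoinRoot.liftAlgHom_of, aeval_X]

theorem lift_e {S : Type u} [CommRing S] [Algebra k S] (t e : S)
    (h : e ^ 2 + t * e = t ^ 3 + algebraMap k S γ * t) : lift γ t e h (eR γ) = e := by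
  change AdjoinRoot.liftAlgHom (WB γ).polynomial (aeval t) e _ (AdjoinRoot.root _) = _
  rw [AdjoinRoot.liftAlgHom_root]

variable (A : Type u) [CommRing A] [Algebra k A]

abbrev B := A ⊗[k] R γ

noncomputable def tB : B γ A := 1 ⊗ₜ tR γ
noncomputable def eB : B γ A := 1 ⊗ₜ eR γ

theorem eqnB : eB γ A ^ 2 + tB γ A * eB γ A = tB γ A ^ 3 + algebraMap k (B γ A) γ * tB γ A := by
  have h := congrArg (Algebra.TensorProduct.includeRight : R γ →ₐ[k] B γ A) (eqnR γ)
  simp only [map_add, map_mul, map_pow, AlgHom.commutes] at h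
  exact h

theorem formB (f : B γ A) : ∃ p q : A[X], f = aeval (tB γ A) p + aeval (tB γ A) q * eB γ A := by
  induction f using TensorProduct.induction_on with
  | zero => exact ⟨0, 0, by simp⟩
  | add f g hf hg =>
    obtain ⟨p, q, rfl⟩ := hf
    obtain ⟨p', q', rfl⟩ := hg
    exact ⟨p + p', q + q', by simp only [map_add]; ring⟩
  | tmul a r =>
    obtain ⟨p, q, rfl⟩ := formR γ r
    refine ⟨C a * p.map (algebraMap k A), C a * q.map (algebraMap k A), ?_⟩
    have e1 : ∀ p : k[X], aeval (tB γ A) (C a * p.map (algebraMap k A)) =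
        a ⊗ₜ aeval (tR γ) p := by
      intro p
      rw [map_mul, aeval_C, aeval_map_algebraMap]
      have : tB γ A = (Algebra.TensorProduct.includeRight : R γ →ₐ[k] B γ A) (tR γ) := rfl
      rw [this, aeval_algHom_apply, Algebra.TensorProduct.algebraMap_apply]
      change (algebraMap A A a) ⊗ₜ[k] (1 : R γ) * (1 : A) ⊗ₜ[k] _ = _
      rw [Algebra.TensorProduct.tmul_mul_tmul, mul_one, one_mul]
      rfl
    rw [e1, e1, TensorProduct.tmul_add]
    congr 1
    change _ = a ⊗ₜ[k] aeval (tR γ) q * (1 : A) ⊗ₜ[k] eR γ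
    rw [Algebra.TensorProduct.tmul_mul_tmul, mul_one]

/-- the residue at the vertex `t = e = 0` -/
noncomputable def resR : R γ →ₐ[k] k := lift γ 0 0 (by simp)

noncomputable def res : B γ A →ₐ[A] A :=
  (Algebra.TensorProduct.rid k A A).toAlgHom.comp
    (Algebra.TensorProduct.map (AlgHom.id A A) (resR γ))

theorem res_t : res γ A (tB γ A) = 0 := by
  change (Algebra.TensorProduct.rid k A A) (Algebra.TensorProduct.map (AlgHom.id A A) (resR γ)
    ((1 : A) ⊗ₜ tR γ)) = 0
  rw [Algebra.TensorProduct.map_tmul, resR, lift_t, TensorProduct.tmul_zero, map_zero]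

theorem res_e : res γ A (eB γ A) = 0 := by
  change (Algebra.TensorProduct.rid k A A) (Algebra.TensorProduct.map (AlgHom.id A A) (resR γ)
    ((1 : A) ⊗ₜ eR γ)) = 0
  rw [Algebra.TensorProduct.map_tmul, resR, lift_e, TensorProduct.tmul_zero, map_zero]

theorem res_aeval (p : A[X]) : res γ A (aeval (tB γ A) p) = p.coeff 0 := by
  rw [← aeval_algHom_apply, res_t, coeff_zero_eq_aeval_zero]

theorem res_form (p q : A[X]) :
    res γ A (aeval (tB γ A) p + aeval (tB γ A) q * eB γ A) = p.coeff 0 := by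
  rw [map_add, map_mul, res_e, mul_zero, add_zero, res_aeval]

end Base

section Cone

variable {k : Type u} [Field k] (γ : k) {A : Type u} [CommRing A] [Algebra k A] (x : A)

/-- `k[t, tξ]` -/
noncomputable abbrev cone₀ : Subalgebra k (B γ A) :=
  Algebra.adjoin k {tB γ A, tB γ A * algebraMap A (B γ A) x}

/-- the cone ring: the integral closure of `k[t, tξ]` -/
noncomputable def cone : Subalgebra k (B γ A) :=
  (integralClosure (cone₀ γ x) (B γ A)).restrictScalars k

theorem mem_cone (b : B γ A) : b ∈ cone γ x ↔ IsIntegral (cone₀ γ x) b := Iff.rfl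

theorem cone₀_le : cone₀ γ x ≤ cone γ x := by
  intro b hb
  rw [mem_cone]
  exact isIntegral_algebraMap (R := cone₀ γ x) (x := ⟨b, hb⟩)

theorem t_mem : tB γ A ∈ cone γ x :=
  cone₀_le γ x (Algebra.subset_adjoin (by simp))

theorem tx_mem : tB γ A * algebraMap A (B γ A) x ∈ cone γ x :=
  cone₀_le γ x (Algebra.subset_adjoin (by simp))

theorem e_mem : eB γ A ∈ cone γ x := by
  rw [mem_cone]
  let t0 : cone₀ γ x := ⟨tB γ A, Algebra.subset_adjoin (by simp)⟩
  let g0 : cone₀ γ x := algebraMap k _ γ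
  refine ⟨X ^ 2 + C t0 * X - C (t0 ^ 3 + g0 * t0), ?_, ?_⟩
  · monicity!
  · rw [eval₂_sub, eval₂_add, eval₂_mul, eval₂_pow, eval₂_X, eval₂_C, eval₂_C]
    change eB γ A ^ 2 + tB γ A * eB γ A - (tB γ A ^ 3 + algebraMap k (B γ A) γ * tB γ A) = 0
    rw [eqnB, sub_self]

theorem aeval_t_mem (p : k[X]) : aeval (tB γ A) p ∈ cone γ x := by
  have h : aeval (tB γ A) p = ((aeval (⟨tB γ A, t_mem γ x⟩ : cone γ x) p : cone γ x) : B γ A) := by
    change _ = (cone γ x).val _
    rw [← aeval_algHom_apply]; rfl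
  rw [h]; exact SetLike.coe_mem _

variable [IsDomain A] [IsAlgClosed k]

/-- a root in a domain of a monic polynomial over an algebraically closed field -/
theorem mem_range_of_isIntegral (a : A) (ha : IsIntegral k a) : a ∈ (algebraMap k A).range := by
  have h4 := IsAlgClosed.degree_eq_one_of_irreducible k (minpoly.irreducible ha)
  obtain ⟨b, hb⟩ := minpoly.mem_range_of_degree_eq_one k _ h4
  exact ⟨b, hb⟩

theorem res_mem (b : B γ A) (hb : b ∈ cone γ x) : res γ A b ∈ (algebraMap k A).range := by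
  apply mem_range_of_isIntegral
  rw [mem_cone] at hb
  -- the residue maps `k[t, tξ]` to `k`
  have h0 : ∀ c : cone₀ γ x, ∃ c' : k, algebraMap k A c' = res γ A (c : B γ A) := by
    have : cone₀ γ x ≤ ((⊥ : Subalgebra k A).comap ((res γ A).restrictScalars k)) := by
      apply Algebra.adjoin_le
      intro z hz
      rcases hz with rfl | hz
      · change res γ A _ ∈ (⊥ : Subalgebra k A)
        rw [res_t]; exact zero_mem _
      · rw [Set.mem_singleton_iff] at hz
        subst hz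
        change res γ A _ ∈ (⊥ : Subalgebra k A)
        rw [map_mul, res_t, zero_mul]; exact zero_mem _
    intro c
    exact Algebra.mem_bot.mp (this c.2)
  have h1 : IsIntegral ((res γ A).restrictScalars k |>.toRingHom.comp
      (algebraMap (cone₀ γ x) (B γ A))).range (res γ A b) := by
    obtain ⟨p, hp, hp'⟩ := hb
    refine ⟨p.map (RingHom.rangeRestrict _), hp.map _, ?_⟩
    rw [eval₂_map]
    have := congrArg (res γ A).toRingHom hp'
    rw [map_zero] at this
    rw [hom_eval₂] at this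
    exact this
  obtain ⟨p, hp, hp'⟩ := h1
  -- coefficients in `k`
  have h2 : ∀ c : ((res γ A).restrictScalars k |>.toRingHom.comp
      (algebraMap (cone₀ γ x) (B γ A))).range, (c : A) ∈ (algebraMap k A).range := by
    rintro ⟨_, c, rfl⟩
    obtain ⟨c', hc'⟩ := h0 c
    exact ⟨c', hc'⟩
  have h3 : p.map (Subring.subtype _) ∈ lifts (algebraMap k A) := by
    rw [lifts_iff_coeff_lifts]
    intro n
    rw [coeff_map]
    exact h2 _
  obtain ⟨q, hq, -, hqm⟩ := lifts_and_degree_eq_and_monic h3 (hp.map _)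
  refine ⟨q, hqm, ?_⟩
  have : eval₂ (algebraMap k A) (res γ A b) q = eval (res γ A b) (q.map (algebraMap k A)) := by
    rw [eval_map]
  rw [this, hq, eval_map]
  exact hp'

/-- the vertex -/
noncomputable def vert : Ideal (cone γ x) := RingHom.ker ((res γ A).toRingHom.comp
  (cone γ x).subtype)

instance : (vert γ x).IsPrime := RingHom.ker_isPrime _

omit [IsDomain A] [IsAlgClosed k] in
theorem mem_vert (b : cone γ x) : b ∈ vert γ x ↔ res γ A (b : B γ A) = 0 := Iff.rfl

end Cone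

section Contra

variable {k A K L : Type u} [Field k] [CommRing A] [IsDomain A] [IsIntegrallyClosed A] [Algebra k A]
  [IsAlgClosed k]
  [Field K] [Algebra A K] [IsFractionRing A K] [Algebra k K] [IsScalarTower k A K]
  [Field L] (j : K →+* L) (γ : k) (hγ : γ ≠ 0) (t e : L)
  (ind : ∀ P Q : K[X], P.eval₂ j t + Q.eval₂ j t * e = 0 → P = 0 ∧ Q = 0)
  (heq : e ^ 2 + t * e = t ^ 3 + j (algebraMap k K γ) * t)
  (σ : K ≃ₐ[k] K) (hσ : ∀ z, σ (σ z) = z)
  (ρ : L →+* L) (hρj : ∀ z, ρ (j z) = j (σ z)) (hρt : ρ t * t = j (algebraMap k K γ))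
  (hρe : ρ e * t ^ 2 = -(j (algebraMap k K γ) * (t + e)))
  (P1 : ∀ f g : A, σ (algebraMap A K f) = algebraMap A K g → f ∈ (algebraMap k A).range)
  (P2 : ∀ f g : A, f ≠ 0 → (σ (algebraMap A K f))⁻¹ = algebraMap A K g →
    f ∈ (algebraMap k A).range)
  (Φ : B γ A →+* L) (hΦj : ∀ a : A, Φ (algebraMap A (B γ A) a) = j (algebraMap A K a))
  (hΦt : Φ (tB γ A) = t) (hΦe : Φ (eB γ A) = e)
  (x : A) (hx : x ∉ (algebraMap k A).range)
  {O : Type u} [CommRing O] [IsLocalRing O] (ψ : cone γ x →+* O)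
  (hψ1 : ∀ G : cone γ x, G ∉ vert γ x → IsUnit (ψ G))
  (hψ2 : ∀ z : O, ∃ H G : cone γ x, G ∉ vert γ x ∧ z * ψ G = ψ H)
  (hψ3 : ∀ H : cone γ x, ψ H ∈ IsLocalRing.maximalIdeal O ↔ H ∈ vert γ x)
  (Θ : O →+* L) (hΘ : ∀ b : cone γ x, Θ (ψ b) = Φ b)

include hΦj hΦt in
omit [IsDomain A] [IsIntegrallyClosed A] [IsFractionRing A K] [IsAlgClosed k] [Algebra k K]
  [IsScalarTower k A K] in
theorem Φ_aeval (p : A[X]) : Φ (aeval (tB γ A) p) = NsInv.ev A j t p := by
  induction p using Polynomial.induction_on with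
  | C a => rw [aeval_C, hΦj, NsInv.ev_C]
  | add p q hp hq => rw [map_add, map_add, hp, hq, map_add]
  | monomial n a _ =>
    rw [map_mul, map_mul, map_mul, aeval_C, map_pow, aeval_X, map_pow, hΦj, hΦt, NsInv.ev_C,
      map_pow, NsInv.ev_X]

include ind in
omit [IsDomain A] [IsIntegrallyClosed A] [IsAlgClosed k] [Algebra k A] [Algebra k K]
  [IsScalarTower k A K] [IsFractionRing A K] in
theorem ev_ne (N : A[X]) (hN : N.coeff 0 = 1) : NsInv.ev A j t N ≠ 0 := by
  intro h0
  have h1 := (ind (N.map (algebraMap A K)) 0 (by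
    rw [eval₂_zero, zero_mul, add_zero]; exact h0)).1
  have h2 := congrArg (fun z => coeff z 0) h1
  simp only [coeff_map, hN, map_one, coeff_zero] at h2
  exact one_ne_zero h2

include hΦj hΦt hΦe hψ2 hψ3 hΘ heq in
omit [IsIntegrallyClosed A] [IsFractionRing A K] in
/-- representation of the elements of the local ring at the vertex -/
theorem repr (z : O) : ∃ (p q N : A[X]) (c : k), N.coeff 0 = 1 ∧ p.coeff 0 = algebraMap k A c ∧
    Θ z * NsInv.ev A j t N = NsInv.ev A j t p + NsInv.ev A j t q * e ∧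
    (z ∈ IsLocalRing.maximalIdeal O → c = 0) := by
  obtain ⟨H, G, hG, hz⟩ := hψ2 z
  obtain ⟨cG, hcG⟩ := res_mem γ x G G.2
  obtain ⟨cH, hcH⟩ := res_mem γ x H H.2
  have hcG0 : cG ≠ 0 := by
    rintro rfl
    apply hG
    rw [mem_vert, ← hcG, map_zero]
  obtain ⟨g₁, g₂, hg⟩ := formB γ A (G : B γ A)
  have hg₁ : g₁.coeff 0 = algebraMap k A cG := by rw [hcG, hg, res_form]
  let G' : B γ A := aeval (tB γ A) (g₁ - X * g₂) + aeval (tB γ A) (-g₂) * eB γ A
  obtain ⟨p, q, hpq⟩ := formB γ A ((H : B γ A) * G')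
  let ci : A := algebraMap k A (cG⁻¹ ^ 2)
  refine ⟨C ci * p, C ci * q, C ci * (g₁ ^ 2 - X * g₁ * g₂ -
    g₂ ^ 2 * (X ^ 3 + C (algebraMap k A γ) * X)), cG⁻¹ ^ 2 * (cH * cG), ?_, ?_, ?_, ?_⟩
  · rw [mul_coeff_zero, coeff_C_zero]
    have : (g₁ ^ 2 - X * g₁ * g₂ - g₂ ^ 2 * (X ^ 3 + C (algebraMap k A γ) * X)).coeff 0 =
        (algebraMap k A (cG ^ 2)) := by
      rw [coeff_sub, coeff_sub, pow_two g₁, mul_coeff_zero, mul_assoc, coeff_X_mul_zero, sub_zero,
        mul_coeff_zero, coeff_add, coeff_X_pow, mul_coeff_zero, coeff_X_zero, hg₁]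
      simp [pow_two]
    rw [this, ← map_mul, ← mul_pow, inv_mul_cancel₀ hcG0, one_pow, map_one]
  · rw [mul_coeff_zero, coeff_C_zero, map_mul (algebraMap k A) (cG⁻¹ ^ 2)]
    congr 1
    rw [← res_form γ A p q, ← hpq, map_mul, ← hcH, map_mul]
    congr 1
    simp only [G']
    rw [res_form, coeff_sub, coeff_X_mul_zero, sub_zero, hg₁]
  · have h1 := congrArg Θ hz
    rw [map_mul, hΘ, hΘ, hg] at h1
    have h2 := congrArg Φ hpq
    simp only [G', map_mul, map_add, hΦe, Φ_aeval j γ t Φ hΦj hΦt, map_sub, map_neg,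
      NsInv.ev_X] at h1 h2
    simp only [map_mul, map_sub, map_add, map_pow, NsInv.ev_X, NsInv.ev_C,
      ← IsScalarTower.algebraMap_apply]
    linear_combination (j (algebraMap A K ci)) * h2 +
      (j (algebraMap A K ci) * ((NsInv.ev A j t g₁ - t * NsInv.ev A j t g₂) +
        (-(NsInv.ev A j t g₂)) * e)) * h1 +
      (j (algebraMap A K ci) * Θ z * (NsInv.ev A j t g₂) ^ 2) * heq
  · intro hzm
    have h1 : ψ H ∈ IsLocalRing.maximalIdeal O := by
      rw [← hz]; exact Ideal.mul_mem_right _ _ hzm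
    rw [hψ3, mem_vert, ← hcH] at h1
    have : cH = 0 := by
      rw [← map_zero (algebraMap k A)] at h1
      exact FaithfulSMul.algebraMap_injective k A h1
    rw [this, zero_mul, mul_zero]

omit [IsDomain A] [IsIntegrallyClosed A] [IsAlgClosed k] [IsFractionRing A K] in
theorem reduce (N p q : K[X]) (hN : N.coeff 0 = 1) (n : ℕ) : ∀ (D u v : k[X]), D.natDegree ≤ n →
    D ≠ 0 → p * D.map (algebraMap k K) = N * u.map (algebraMap k K) →
    q * D.map (algebraMap k K) = N * v.map (algebraMap k K) →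
    ∃ D u v : k[X], D.coeff 0 ≠ 0 ∧ p * D.map (algebraMap k K) = N * u.map (algebraMap k K) ∧
      q * D.map (algebraMap k K) = N * v.map (algebraMap k K) := by
  induction n with
  | zero =>
    intro D u v hn hD h1 h2
    refine ⟨D, u, v, ?_, h1, h2⟩
    intro h0
    apply hD
    rw [eq_C_of_natDegree_le_zero hn, h0, C_0]
  | succ n ih =>
    intro D u v hn hD h1 h2
    by_cases h0 : D.coeff 0 = 0
    · obtain ⟨D', rfl⟩ := X_dvd_iff.mpr h0
      have hu : u.coeff 0 = 0 := by
        have := congrArg (fun z => coeff z 0) h1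
        simp only [mul_coeff_zero, coeff_map, coeff_X_zero, zero_mul, map_zero, mul_zero, hN,
          one_mul] at this
        exact (map_eq_zero (algebraMap k K)).mp this.symm
      have hv : v.coeff 0 = 0 := by
        have := congrArg (fun z => coeff z 0) h2
        simp only [mul_coeff_zero, coeff_map, coeff_X_zero, zero_mul, map_zero, mul_zero, hN,
          one_mul] at this
        exact (map_eq_zero (algebraMap k K)).mp this.symm
      obtain ⟨u', rfl⟩ := X_dvd_iff.mpr hu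
      obtain ⟨v', rfl⟩ := X_dvd_iff.mpr hv
      have hD' : D' ≠ 0 := right_ne_zero_of_mul hD
      simp only [Polynomial.map_mul, map_X] at h1 h2
      refine ih D' u' v' ?_ hD' ?_ ?_
      · rw [natDegree_X_mul hD'] at hn; omega
      · apply mul_left_cancel₀ (X_ne_zero (R := K))
        linear_combination h1
      · apply mul_left_cancel₀ (X_ne_zero (R := K))
        linear_combination h2
    · exact ⟨D, u, v, h0, h1, h2⟩

include ind in
omit [IsDomain A] [IsIntegrallyClosed A] [IsAlgClosed k] [Algebra k A] [Algebra k K]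
  [IsScalarTower k A K] in
theorem ev_indep (P Q : A[X]) (h : NsInv.ev A j t P + NsInv.ev A j t Q * e = 0) :
    P = 0 ∧ Q = 0 := by
  obtain ⟨h1, h2⟩ := ind (P.map (algebraMap A K)) (Q.map (algebraMap A K)) h
  exact ⟨(Polynomial.map_eq_zero_iff (IsFractionRing.injective A K)).mp h1,
    (Polynomial.map_eq_zero_iff (IsFractionRing.injective A K)).mp h2⟩

include hγ ind heq hσ hρj hρt hρe P1 P2 hΦj hΦt hΦe hψ1 hψ2 hψ3 hΘ in
/-- an invariant element of the maximal ideal is a multiple of `e` -/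
theorem invariant_mem (z : O) (hz : z ∈ IsLocalRing.maximalIdeal O) (hzρ : ρ (Θ z) = Θ z) :
    ∃ g : O, Θ z = e * Θ g := by
  obtain ⟨p, q, N, c, hN, hp, hh, hc⟩ := repr j γ t e heq Φ hΦj hΦt hΦe x ψ hψ2 hψ3 Θ hΘ z
  have : Infinite k := IsAlgClosed.instInfinite
  obtain ⟨D, u, v, hD, hD1, hD2⟩ := NsInv.exists_const j γ hγ t e ind heq σ hσ ρ hρj hρt hρe P1 P2
    p q N hN c hp (Θ z) hh hzρ
  obtain ⟨D, u, v, hD, hD1, hD2⟩ := reduce (k := k) (N.map (algebraMap A K))
    (p.map (algebraMap A K)) (q.map (algebraMap A K)) (by rw [coeff_map, hN, map_one]) _ D u v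
    le_rfl hD hD1 hD2
  have hu : u.coeff 0 = 0 := by
    have := congrArg (fun z => coeff z 0) hD1
    simp only [mul_coeff_zero, coeff_map, hp, hN, hc hz, map_zero, zero_mul, map_one,
      one_mul] at this
    exact (map_eq_zero (algebraMap k K)).mp this.symm
  obtain ⟨u', rfl⟩ := X_dvd_iff.mpr hu
  -- the equation in `L`
  let m : A →+* A := RingHom.id A
  have hmap : ∀ w : k[X], NsInv.ev A j t (w.map (algebraMap k A)) =
      (w.map (algebraMap k K)).eval₂ j t := by
    intro w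
    rw [NsInv.ev_def, Polynomial.map_map, ← IsScalarTower.algebraMap_eq]
  have h1 : Θ z * NsInv.ev A j t (D.map (algebraMap k A)) =
      t * NsInv.ev A j t (u'.map (algebraMap k A)) + NsInv.ev A j t (v.map (algebraMap k A)) * e := by
    apply mul_left_cancel₀ (ev_ne (A := A) j t e ind N hN)
    have e1 := congrArg (eval₂ j t) hD1
    have e2 := congrArg (eval₂ j t) hD2
    simp only [Polynomial.map_mul, map_X, eval₂_mul, eval₂_X, ← hmap, ← NsInv.ev_def] at e1 e2
    linear_combination (NsInv.ev A j t (D.map (algebraMap k A))) * hh + e1 + e * e2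
  -- the quotient
  let nh : cone γ x := ⟨eB γ A * aeval (tB γ A) u' + aeval (tB γ A) v *
    (aeval (tB γ A) (X ^ 2 + C γ) - eB γ A),
    add_mem (mul_mem (e_mem γ x) (aeval_t_mem γ x _)) (mul_mem (aeval_t_mem γ x _)
      (sub_mem (aeval_t_mem γ x _) (e_mem γ x)))⟩
  let dh : cone γ x := ⟨aeval (tB γ A) D * (aeval (tB γ A) (X ^ 2 + C γ) - eB γ A),
    mul_mem (aeval_t_mem γ x _) (sub_mem (aeval_t_mem γ x _) (e_mem γ x))⟩
  have haev : ∀ w : k[X], aeval (tB γ A) w = aeval (tB γ A) (w.map (algebraMap k A)) := by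
    intro w; rw [aeval_map_algebraMap]
  have hdh : dh ∉ vert γ x := by
    rw [mem_vert]
    simp only [dh]
    rw [map_mul, map_sub, res_e, sub_zero, haev, haev, res_aeval, res_aeval, coeff_map, coeff_map,
      ← map_mul, map_eq_zero_iff _ (FaithfulSMul.algebraMap_injective k A)]
    simp [hD, hγ]
  obtain ⟨w, hw⟩ := hψ1 dh hdh
  refine ⟨ψ nh * ↑w⁻¹, ?_⟩
  have hw' : Θ ↑w⁻¹ * Θ (ψ dh) = 1 := by
    rw [← map_mul, ← hw, Units.inv_mul, map_one]
  have hd0 : Θ (ψ dh) ≠ 0 := right_ne_zero_of_mul_eq_one hw'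
  apply mul_right_cancel₀ hd0
  rw [map_mul, mul_assoc e, mul_assoc (Θ _), hw', mul_one, hΘ, hΘ]
  simp only [nh, dh]
  simp only [map_mul, map_add, map_sub, hΦe]
  simp only [haev, Φ_aeval j γ t Φ hΦj hΦt]
  have e3 : NsInv.ev A j t ((X ^ 2 : k[X]).map (algebraMap k A)) = t ^ 2 := by
    rw [Polynomial.map_pow, map_X, map_pow, NsInv.ev_X]
  have e4 : NsInv.ev A j t ((C γ : k[X]).map (algebraMap k A)) = j (algebraMap k K γ) := by
    rw [map_C, NsInv.ev_C, ← IsScalarTower.algebraMap_apply]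
  rw [e3, e4]
  linear_combination (t ^ 2 + j (algebraMap k K γ) - e) * h1 -
    (NsInv.ev A j t (u'.map (algebraMap k A))) * heq

include hγ ind heq hσ hρj hρt hρe P1 P2 hΦj hΦt hΦe hψ1 hψ2 hψ3 hΘ hx in
/-- **the algebraic contradiction** -/
theorem contra (s : Set O) (hs1 : ∀ z ∈ s, z ∈ IsLocalRing.maximalIdeal O)
    (hs2 : ∀ z ∈ s, ρ (Θ z) = Θ z) (hs3 : IsLocalRing.maximalIdeal O ≤ Ideal.span s) : False := by
  have hmem : ∀ z ∈ IsLocalRing.maximalIdeal O, ∃ g : O, Θ z = e * Θ g := by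
    intro z hz0
    have := hs3 hz0
    clear hz0
    induction this using Submodule.span_induction with
    | mem z hz =>
      exact invariant_mem j γ hγ t e ind heq σ hσ ρ hρj hρt hρe P1 P2 Φ hΦj hΦt hΦe x ψ
        hψ1 hψ2 hψ3 Θ hΘ z (hs1 z hz) (hs2 z hz)
    | zero => exact ⟨0, by rw [map_zero, mul_zero]⟩
    | add a b ha hb iha ihb =>
      obtain ⟨g, hg⟩ := iha
      obtain ⟨g', hg'⟩ := ihb
      exact ⟨g + g', by rw [map_add, hg, hg', map_add]; ring⟩
    | smul c a ha iha =>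
      obtain ⟨g, hg⟩ := iha
      exact ⟨c * g, by rw [smul_eq_mul, map_mul, hg, map_mul]; ring⟩
  have ht := NsInv.t_ne j t e ind
  have he : e ≠ 0 := by
    intro h0
    have := (ev_indep (A := A) j t e ind 0 1 (by rw [map_zero, map_one, h0, mul_zero, add_zero])).2
    exact one_ne_zero this
  -- `tξ`
  let tx : cone γ x := ⟨tB γ A * algebraMap A (B γ A) x, tx_mem γ x⟩
  have htx : ψ tx ∈ IsLocalRing.maximalIdeal O := by
    rw [hψ3, mem_vert]
    change res γ A (tB γ A * algebraMap A (B γ A) x) = 0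
    rw [map_mul, res_t, zero_mul]
  have hΘtx : Θ (ψ tx) = t * j (algebraMap A K x) := by
    rw [hΘ]
    change Φ (tB γ A * algebraMap A (B γ A) x) = _
    rw [map_mul, hΦt, hΦj]
  obtain ⟨g₁, hg₁⟩ := hmem _ htx
  rw [hΘtx] at hg₁
  have hg₁m : g₁ ∈ IsLocalRing.maximalIdeal O := by
    by_contra hcon
    rw [IsLocalRing.mem_maximalIdeal, mem_nonunits_iff, not_not] at hcon
    obtain ⟨w, rfl⟩ := hcon
    obtain ⟨p, q, N, c, hN, hp, hh, -⟩ := repr j γ t e heq Φ hΦj hΦt hΦe x ψ hψ2 hψ3 Θ hΘ ↑w⁻¹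
    have hw' : Θ ↑w * Θ ↑w⁻¹ = 1 := by rw [← map_mul, Units.mul_inv, map_one]
    have h1 : NsInv.ev A j t (-(X * C x * p)) + NsInv.ev A j t (N - X * C x * q) * e = 0 := by
      simp only [map_neg, map_mul, map_sub, NsInv.ev_X, NsInv.ev_C]
      linear_combination (t * j (algebraMap A K x)) * hh -
        (NsInv.ev A j t N * Θ ↑w⁻¹) * hg₁ - e * NsInv.ev A j t N * hw'
    have h2 := (ev_indep (A := A) j t e ind _ _ h1).2
    have h3 := congrArg (fun z => coeff z 0) h2
    simp only [coeff_sub, mul_assoc, coeff_X_mul_zero, sub_zero, hN, coeff_zero] at h3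
    exact one_ne_zero h3
  obtain ⟨g₂, hg₂⟩ := hmem _ hg₁m
  obtain ⟨p, q, N, c, hN, hp, hh, -⟩ := repr j γ t e heq Φ hΦj hΦt hΦe x ψ hψ2 hψ3 Θ hΘ g₂
  have h1 : NsInv.ev A j t ((X ^ 2 + C (algebraMap k A γ)) * p -
      q * (X ^ 3 + C (algebraMap k A γ) * X) - C x * N) +
      NsInv.ev A j t ((X ^ 2 + C (algebraMap k A γ)) * q - p + X * q) * e = 0 := by
    simp only [map_mul, map_sub, map_add, map_pow, NsInv.ev_X, NsInv.ev_C,
      ← IsScalarTower.algebraMap_apply]
    apply mul_left_cancel₀ ht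
    rw [hg₂] at hg₁
    linear_combination (-(t * (t ^ 2 + j (algebraMap k K γ) - e))) * hh -
      (NsInv.ev A j t N) * hg₁ + (t * NsInv.ev A j t q - NsInv.ev A j t N * Θ g₂) * heq
  have h2 := (ev_indep (A := A) j t e ind _ _ h1).1
  have h3 := congrArg (fun z => coeff z 0) h2
  simp only [coeff_sub, mul_coeff_zero, coeff_add, coeff_X_zero, mul_zero, coeff_C_zero, hN, hp,
    mul_one, coeff_zero, add_zero] at h3
  apply hx
  refine ⟨γ * c, ?_⟩
  rw [map_mul]
  have h4 : (X ^ 2 : A[X]).coeff 0 = 0 := by simp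
  have h5 : (X ^ 3 : A[X]).coeff 0 = 0 := by simp
  rw [h4, h5] at h3
  linear_combination h3

end Contra

end K629.NsCone
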