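import Groth.Agent.AlgSp.K629.NsYo
import Groth.Agent.Mor.K384.NormRing
import Groth.Agent.S0573

/-!
# Properties of the cone ring
-/

set_option autoImplicit false
universe u
open CategoryTheory CategoryTheory.Limits AlgebraicGeometry TensorProduct Polynomial

namespace K629.NsConeR

open NsCone NsLam NsFun NsWeier NsCurve NsNormal NsYo Groth.Agent

variable {k : Type u} [Field k] (γ : k) [IsAlgClosed k] (P : NsParam.Param k)

/-- `B = A ⊗ R` is normal -/
theorem isIntegrallyClosed_B (hγ : γ ≠ 0) (hγ' : 64 * γ ≠ 1) :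
    IsIntegrallyClosed (B γ (A P)) := by
  have hic := NsNormal.isIntegrallyClosed P
  have h0 := NsSm.smooth γ hγ hγ'
  have h1 : Smooth (Spec.map (CommRingCat.ofHom (algebraMap (A P) (B γ (A P))))) := by
    have h := (CommRingCat.isPushout_tensorProduct k (A P) (R γ)).op.map Scheme.Spec
    exact MorphismProperty.of_isPullback h h0
  apply IsIntegrallyClosed.of_localization_maximal
  intro p hp0 hp
  have h2 := Ega4dA.SmoothStalk.stalk_of_smooth
    (Lefpen.H416.NormalBase.isNormalScheme_spec (A P))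
    (Spec.map (CommRingCat.ofHom (algebraMap (A P) (B γ (A P))))) ⟨p, hp.isPrime⟩
  let e : (Spec (CommRingCat.of (B γ (A P)))).presheaf.stalk ⟨p, hp.isPrime⟩ ≃+*
      Localization.AtPrime p :=
    (Spec.stalkIso (CommRingCat.of (B γ (A P))) ⟨p, hp.isPrime⟩).commRingCatIsoToRingEquiv
  have := h2.2
  exact IsIntegrallyClosed.of_equiv e

noncomputable abbrev cn : Subalgebra k (B γ (A P)) := cone γ (xA P)

theorem isIntegrallyClosed_cone (hγ : γ ≠ 0) (hγ' : 64 * γ ≠ 1) : IsIntegrallyClosed (cn γ P) := by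
  have := isIntegrallyClosed_B γ P hγ hγ'
  exact K384.NormRing.isIntegrallyClosed_integralClosure (cone₀ γ (xA P)) (B γ (A P))

instance : Algebra.FiniteType k (B γ (A P)) := by
  have h1 : Algebra.FiniteType (A P) (B γ (A P)) := inferInstance
  exact Algebra.FiniteType.trans (S := A P) inferInstance h1

theorem finiteType_cone₀ : Algebra.FiniteType k (cone₀ γ (xA P)) := by
  rw [← Subalgebra.fg_iff_finiteType]
  exact Subalgebra.fg_def.mpr ⟨_, by simp, rfl⟩

instance : Algebra.FiniteType k (cn γ P) := by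
  have h1 := finiteType_cone₀ γ P
  have h2 : CAlg.IsNagata (cone₀ γ (xA P)) := S0566.result k (isNagata_field k) _
  have h3 : Algebra.FiniteType (cone₀ γ (xA P)) (B γ (A P)) :=
    Algebra.FiniteType.of_restrictScalars_finiteType k (cone₀ γ (xA P)) (B γ (A P))
  have h4 : Module.Finite (cone₀ γ (xA P)) (integralClosure (cone₀ γ (xA P)) (B γ (A P))) :=
    S0573.result _ h2 _
  have h5 : Algebra.FiniteType k (integralClosure (cone₀ γ (xA P)) (B γ (A P))) :=
    Algebra.FiniteType.trans (S := cone₀ γ (xA P)) h1 inferInstance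
  exact h5

/-! ### localization at `t` -/

theorem mem_x : ∃ n : ℕ, tB γ (A P) ^ n * algebraMap (A P) (B γ (A P)) (xA P) ∈ cn γ P :=
  ⟨1, by rw [pow_one]; exact tx_mem γ (xA P)⟩

theorem mem_y : ∃ n : ℕ, tB γ (A P) ^ n * algebraMap (A P) (B γ (A P)) (yA P) ∈ cn γ P := by
  refine ⟨2, ?_⟩
  rw [mem_cone]
  let t0 : cone₀ γ (xA P) := ⟨tB γ (A P), Algebra.subset_adjoin (by simp)⟩
  let z0 : cone₀ γ (xA P) := ⟨tB γ (A P) * algebraMap (A P) (B γ (A P)) (xA P),
    Algebra.subset_adjoin (by simp)⟩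
  let c1 : cone₀ γ (xA P) := algebraMap k _ (W P).a₁
  let c2 : cone₀ γ (xA P) := algebraMap k _ (W P).a₂
  let c3 : cone₀ γ (xA P) := algebraMap k _ (W P).a₃
  let c4 : cone₀ γ (xA P) := algebraMap k _ (W P).a₄
  refine ⟨X ^ 2 + C (c1 * t0 * z0 + c3 * t0 ^ 2) * X -
    C (t0 * z0 ^ 3 + c2 * t0 ^ 2 * z0 ^ 2 + c4 * t0 ^ 3 * z0), ?_, ?_⟩
  · monicity!
  · rw [eval₂_sub, eval₂_add, eval₂_mul, eval₂_pow, eval₂_X, eval₂_C, eval₂_C]
    have h := congrArg (algebraMap (A P) (B γ (A P))) (eqnA P)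
    simp only [map_add, map_mul, map_pow, ← IsScalarTower.algebraMap_apply] at h
    have e1 : ∀ c : k, algebraMap (cone₀ γ (xA P)) (B γ (A P)) (algebraMap k _ c) =
        algebraMap k (B γ (A P)) c := fun c => rfl
    have e2 : algebraMap (cone₀ γ (xA P)) (B γ (A P)) t0 = tB γ (A P) := rfl
    have e3 : algebraMap (cone₀ γ (xA P)) (B γ (A P)) z0 =
      tB γ (A P) * algebraMap (A P) (B γ (A P)) (xA P) := rfl
    simp only [map_add, map_mul, map_pow, e2, e3, c1, c2, c3, c4, e1]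
    linear_combination (tB γ (A P) ^ 4) * h

/-- the elements with a multiple by a power of `t` in the cone ring -/
noncomputable def sat : Subalgebra k (B γ (A P)) where
  carrier := {b | ∃ n : ℕ, tB γ (A P) ^ n * b ∈ cn γ P}
  mul_mem' := by
    rintro a b ⟨n, hn⟩ ⟨m, hm⟩
    refine ⟨n + m, ?_⟩
    have : tB γ (A P) ^ (n + m) * (a * b) = (tB γ (A P) ^ n * a) * (tB γ (A P) ^ m * b) := by
      rw [pow_add]; ring
    rw [this]
    exact mul_mem hn hm
  add_mem' := by
    rintro a b ⟨n, hn⟩ ⟨m, hm⟩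
    refine ⟨n + m, ?_⟩
    have : tB γ (A P) ^ (n + m) * (a + b) = tB γ (A P) ^ m * (tB γ (A P) ^ n * a) +
        tB γ (A P) ^ n * (tB γ (A P) ^ m * b) := by
      rw [pow_add]; ring
    rw [this]
    exact add_mem (mul_mem (pow_mem (t_mem γ (xA P)) _) hn)
      (mul_mem (pow_mem (t_mem γ (xA P)) _) hm)
  algebraMap_mem' := fun c => ⟨0, by rw [pow_zero, one_mul]; exact algebraMap_mem _ c⟩

theorem mem_sat (b : B γ (A P)) : b ∈ sat γ P := by
  have hA : ∀ a : A P, algebraMap (A P) (B γ (A P)) a ∈ sat γ P := by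
    intro a
    obtain ⟨p, q, rfl⟩ := form P a
    have h1 : ∀ p : k[X], algebraMap (A P) (B γ (A P)) (aeval (xA P) p) ∈ sat γ P := by
      intro p
      have : algebraMap (A P) (B γ (A P)) (aeval (xA P) p) =
          aeval (algebraMap (A P) (B γ (A P)) (xA P)) p :=
        (aeval_algebraMap_apply (B γ (A P)) (xA P) p).symm
      rw [this]
      have h2 : aeval (algebraMap (A P) (B γ (A P)) (xA P)) p =
          ((aeval (⟨_, mem_x γ P⟩ : sat γ P) p : sat γ P) : B γ (A P)) := by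
        change _ = (sat γ P).val _
        rw [← aeval_algHom_apply]; rfl
      rw [h2]; exact SetLike.coe_mem _
    rw [map_add, map_mul]
    exact add_mem (h1 p) (mul_mem (h1 q) (mem_y γ P))
  have hle : cn γ P ≤ sat γ P := fun b hb => ⟨0, by rw [pow_zero, one_mul]; exact hb⟩
  have ht := hle (t_mem γ (xA P))
  have he := hle (e_mem γ (xA P))
  have h3 : ∀ p : (A P)[X], aeval (tB γ (A P)) p ∈ sat γ P := by
    intro p
    induction p using Polynomial.induction_on with
    | C a => rw [aeval_C]; exact hA a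
    | add p q hp hq => rw [map_add]; exact add_mem hp hq
    | monomial n a _ =>
      rw [map_mul, aeval_C, map_pow, aeval_X]
      exact mul_mem (hA a) (pow_mem ht _)
  obtain ⟨p, q, rfl⟩ := formB γ (A P) b
  exact add_mem (h3 p) (mul_mem (h3 q) he)

/-- `cone → A ⊗ Λ` -/
noncomputable def cA : cn γ P →ₐ[k] (A P ⊗[k] Lam γ) := (ιB γ P).comp (cn γ P).val

theorem ιB_inj : Function.Injective (ιB γ P) := by
  have h1 := Module.Flat.lTensor_preserves_injective_linearMap (M := A P)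
    (IsScalarTower.toAlgHom k (R γ) (Lam γ)).toLinearMap (R_inj γ)
  exact h1

theorem ιB_t : ιB γ P (tB γ (A P)) = 1 ⊗ₜ[k] tL γ := by
  rw [tB, ιB, Algebra.TensorProduct.map_tmul, map_one]; rfl

theorem isUnit_ιB_t : IsUnit (ιB γ P (tB γ (A P))) := by
  rw [ιB_t]
  refine IsUnit.of_mul_eq_one (1 ⊗ₜ[k] ti γ) ?_
  rw [Algebra.TensorProduct.tmul_mul_tmul, one_mul, t_ti, Algebra.TensorProduct.one_def]

theorem surjB (z : A P ⊗[k] Lam γ) : ∃ (n : ℕ) (b : B γ (A P)),
    z * ιB γ P (tB γ (A P)) ^ n = ιB γ P b := by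
  induction z using TensorProduct.induction_on with
  | zero => exact ⟨0, 0, by rw [map_zero, zero_mul]⟩
  | tmul a l =>
    obtain ⟨n, r, hr⟩ := IsLocalization.Away.surj (tR γ) l
    refine ⟨n, a ⊗ₜ r, ?_⟩
    rw [ιB_t, Algebra.TensorProduct.tmul_pow, one_pow, Algebra.TensorProduct.tmul_mul_tmul,
      mul_one, tL, hr, ιB, Algebra.TensorProduct.map_tmul]
    rfl
  | add z z' hz hz' =>
    obtain ⟨n, b, hb⟩ := hz
    obtain ⟨m, b', hb'⟩ := hz'
    refine ⟨n + m, tB γ (A P) ^ m * b + tB γ (A P) ^ n * b', ?_⟩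
    rw [map_add, map_mul, map_mul, ← hb, ← hb', map_pow, map_pow, pow_add]
    ring

noncomputable def tC : cn γ P := ⟨tB γ (A P), t_mem γ (xA P)⟩

theorem isLocalization :
    letI := (cA γ P).toRingHom.toAlgebra
    IsLocalization.Away (tC γ P) (A P ⊗[k] Lam γ) := by
  let _ := (cA γ P).toRingHom.toAlgebra
  have hcA : ∀ b : cn γ P, algebraMap (cn γ P) (A P ⊗[k] Lam γ) b = ιB γ P b := fun b => rfl
  refine ⟨?_, ?_, ?_⟩
  · rintro ⟨_, n, rfl⟩
    rw [map_pow]
    exact (isUnit_ιB_t γ P).pow n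
  · intro z
    obtain ⟨n, b, hb⟩ := surjB γ P z
    obtain ⟨m, hm⟩ := mem_sat γ P b
    refine ⟨⟨⟨_, hm⟩, ⟨tC γ P ^ (n + m), n + m, rfl⟩⟩, ?_⟩
    rw [map_pow, hcA, hcA]
    change z * ιB γ P (tB γ (A P)) ^ (n + m) = ιB γ P (tB γ (A P) ^ m * b)
    rw [map_mul, ← hb, map_pow, pow_add]
    ring
  · intro x y hxy
    refine ⟨1, ?_⟩
    rw [hcA, hcA] at hxy
    have := ιB_inj γ P hxy
    rw [Subtype.ext this]

noncomputable abbrev SC : Scheme.{u} := Spec (CommRingCat.of (cn γ P))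

noncomputable abbrev cmap : SAL γ P ⟶ SC γ P := Spec.map (CommRingCat.ofHom (cA γ P).toRingHom)

instance isOpenImmersion_cmap : IsOpenImmersion (cmap γ P) := by
  let _ := (cA γ P).toRingHom.toAlgebra
  have := isLocalization γ P
  exact IsOpenImmersion.of_isLocalization (tC γ P)

theorem mem_range_cmap (x : SC γ P) : x ∈ Set.range (cmap γ P) ↔ tC γ P ∉ x.asIdeal := by
  let _ := (cA γ P).toRingHom.toAlgebra
  have := isLocalization γ P
  have h : Set.range (cmap γ P) =
      ((PrimeSpectrum.basicOpen (tC γ P) : TopologicalSpace.Opens (PrimeSpectrum (cn γ P))) :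
        Set (PrimeSpectrum (cn γ P))) :=
    PrimeSpectrum.localization_away_comap_range (A P ⊗[k] Lam γ) (tC γ P)
  rw [h]
  rfl

end K629.NsConeR
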