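import Groth.Agent.AlgSp.K629.NsWeier

/-!
# The coordinate ring is normal, of finite type, finite over `k[x]`
-/

set_option autoImplicit false
universe u
open Polynomial WeierstrassCurve.Affine
open scoped Polynomial.Bivariate

namespace K629.NsNormal

open NsWeier

variable {k : Type u} [Field k] (P : NsParam.Param k)

theorem no_singular (a b : k)
    (h1 : b ^ 2 + (W P).a₁ * a * b + (W P).a₃ * b = a ^ 3 + (W P).a₂ * a ^ 2 + (W P).a₄ * a)
    (h2 : (W P).a₁ * b - (3 * a ^ 2 + 2 * (W P).a₂ * a + (W P).a₄) = 0)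
    (h3 : 2 * b + (W P).a₁ * a + (W P).a₃ = 0) : False := by
  have e1 : (W P).a₁ = 1 := rfl
  have e2 : (W P).a₂ = 2 * (P.al * P.be) := rfl
  have e3 : (W P).a₃ = -(P.al * P.be) := rfl
  have e4 : (W P).a₄ = (P.al * P.be) ^ 2 + P.al * P.be - P.la := rfl
  set mu : k := P.al * P.be with hmu
  have hmuE : mu ∈ P.E := mul_mem P.hal P.hbe
  have hmu0 : mu ≠ 0 := mul_ne_zero P.hal0 P.hbe0
  rw [e1, e2, e3] at h1
  rw [e1, e3] at h3
  rw [e1, e2] at h2
  have h4 : (W P).a₄ = b - 3 * a ^ 2 - 4 * mu * a := by linear_combination -h2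
  rw [h4] at h1
  have h5 : b ^ 2 - mu * b + 2 * a ^ 3 + 2 * mu * a ^ 2 = 0 := by linear_combination h1
  have h6 : 8 * a ^ 3 + (1 + 8 * mu) * a ^ 2 - mu ^ 2 = 0 := by
    linear_combination 4 * h5 - (2 * b - a - mu) * h3
  have haE : a ∈ P.E := by
    apply P.hE
    obtain ⟨c0, hc0⟩ : ∃ c : P.E, (c : k) = mu ^ 2 := ⟨⟨mu, hmuE⟩ ^ 2, rfl⟩
    obtain ⟨c1, hc1⟩ : ∃ c : P.E, (c : k) = 1 + 8 * mu := ⟨1 + 8 * ⟨mu, hmuE⟩, rfl⟩
    refine ⟨8 * X ^ 3 + C c1 * X ^ 2 - C c0, ?_, ?_⟩
    · intro h0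
      have := congrArg (fun z => coeff z 0) h0
      simp at this
      rw [this] at hc0
      exact pow_ne_zero 2 hmu0 hc0.symm
    · simp only [map_sub, map_add, map_mul, map_pow, aeval_X, aeval_C, map_ofNat]
      change 8 * a ^ 3 + (c1 : k) * a ^ 2 - (c0 : k) = 0
      rw [hc0, hc1]
      exact h6
  have hbE : b ∈ P.E := by
    apply P.hE
    obtain ⟨c1, hc1⟩ : ∃ c : P.E, (c : k) = mu := ⟨⟨mu, hmuE⟩, rfl⟩
    obtain ⟨c0, hc0⟩ : ∃ c : P.E, (c : k) = 2 * a ^ 3 + 2 * mu * a ^ 2 :=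
      ⟨2 * ⟨a, haE⟩ ^ 3 + 2 * ⟨mu, hmuE⟩ * ⟨a, haE⟩ ^ 2, rfl⟩
    refine ⟨X ^ 2 - C c1 * X + C c0, ?_, ?_⟩
    · intro h0
      have := congrArg (fun z => coeff z 2) h0
      simp [coeff_X, coeff_C] at this
    · simp only [map_sub, map_add, map_mul, map_pow, aeval_X, aeval_C]
      change b ^ 2 - (c1 : k) * b + (c0 : k) = 0
      rw [hc0, hc1]
      linear_combination h5
  apply P.hlaE
  have h7 : P.la = mu ^ 2 + mu - b + 3 * a ^ 2 + 4 * mu * a := by
    rw [e4] at h4
    linear_combination -h4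
  rw [h7]
  have h3' : (3 : k) ∈ P.E := by exact_mod_cast natCast_mem P.E 3
  have h4' : (4 : k) ∈ P.E := by exact_mod_cast natCast_mem P.E 4
  exact add_mem (add_mem (sub_mem (add_mem (pow_mem hmuE 2) hmuE) hbE)
    (mul_mem h3' (pow_mem haE 2))) (mul_mem (mul_mem h4' hmuE) haE)

theorem finite_kx : Module.Finite k[X] (A P) :=
  Module.Finite.of_basis (CoordinateRing.basis (W P))

instance : Algebra.FiniteType k (A P) := by
  have h1 : Algebra.FiniteType k[X] (A P) := by
    have := finite_kx P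
    infer_instance
  exact Algebra.FiniteType.trans (S := k[X]) inferInstance h1

instance : IsNoetherianRing (A P) := Algebra.FiniteType.isNoetherianRing k (A P)

theorem partial_notMem [IsAlgClosed k] (Q : Ideal (A P)) [Q.IsPrime] :
    CoordinateRing.mk (W P) (W P).polynomialX ∉ Q ∨
      CoordinateRing.mk (W P) (W P).polynomialY ∉ Q := by
  by_contra hcon
  push Not at hcon
  obtain ⟨M, hM, hQM⟩ := Q.exists_le_maximal Ideal.IsPrime.ne_top'
  let _ : Field (A P ⧸ M) := Ideal.Quotient.field M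
  have hfin : Module.Finite k (A P ⧸ M) := finite_of_finite_type_of_isJacobsonRing k (A P ⧸ M)
  have hbij : Function.Bijective (algebraMap k (A P ⧸ M)) :=
    IsAlgClosed.algebraMap_bijective_of_isIntegral
  obtain ⟨a, ha⟩ := hbij.2 (Ideal.Quotient.mk M (xA P))
  obtain ⟨b, hb⟩ := hbij.2 (Ideal.Quotient.mk M (yA P))
  have h1 := Ideal.Quotient.eq_zero_iff_mem.mpr (hQM hcon.1)
  have h2 := Ideal.Quotient.eq_zero_iff_mem.mpr (hQM hcon.2)
  have h3 := congrArg (Ideal.Quotient.mk M) (eqnA P)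
  have e0 : ∀ c : k, Ideal.Quotient.mk M (algebraMap k (A P) c) = algebraMap k (A P ⧸ M) c :=
    fun c => rfl
  have e1 : ∀ c : k, CoordinateRing.mk (W P) (C (C c)) = algebraMap k (A P) c := fun c => rfl
  have e2 : CoordinateRing.mk (W P) (C X) = xA P := rfl
  have e3 : CoordinateRing.mk (W P) X = yA P := rfl
  simp only [map_add, map_mul, map_pow, e0, ← ha, ← hb] at h3
  simp only [polynomialX, polynomialY, map_sub, map_add, map_mul, map_pow, e1, e2, e3, e0, ← ha,
    ← hb] at h1 h2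
  apply no_singular P a b
  · apply hbij.1
    simp only [map_add, map_mul, map_pow]
    exact h3
  · apply hbij.1
    simp only [map_add, map_mul, map_pow, map_sub, map_zero, map_ofNat] at h1 ⊢
    exact h1
  · apply hbij.1
    simp only [map_add, map_mul, map_zero, map_ofNat] at h2 ⊢
    linear_combination h2

theorem isRegularLocalRing [IsAlgClosed k] (Q : Ideal (A P)) [Q.IsPrime] :
    IsRegularLocalRing (Localization.AtPrime Q) := by
  have : IsRegularRing k := inferInstance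
  exact K485.WeierReg.isRegularLocalRing_of_partial (W P) Q (partial_notMem P Q)

theorem isIntegrallyClosed [IsAlgClosed k] : IsIntegrallyClosed (A P) := by
  apply IsIntegrallyClosed.of_localization_maximal
  intro p hp0 hp
  have := isRegularLocalRing P p
  exact Groth.Agent.S9829.result _

end K629.NsNormal
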