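import Groth.Agent.AlgSp.K629.NsNC
import Groth.Agent.AlgSp.K629.NsNormal
import Groth.Agent.VarietyB.DimSch
import Groth.Agent.FlatA.DimFin
import Groth.Agent.S2344
import Groth.Agent.Lefpen.H416.NormalBase

/-!
# The complete curve and its involution
-/

set_option autoImplicit false
universe u
open Polynomial CategoryTheory CategoryTheory.Limits AlgebraicGeometry TopologicalSpace

namespace K629.NsCurve

open NsWeier NsNormal Groth.Agent

/-- the dimension of an integral scheme of finite type over a field is the dimension of any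
nonempty affine open -/
theorem dim_eq (k : Type u) [Field k] {X : Scheme.{u}} (f : X ⟶ Spec (CommRingCat.of k))
    [LocallyOfFiniteType f] [IsIntegral X] (R : Type u) [CommRing R] [Nontrivial R]
    (j : Spec (CommRingCat.of R) ⟶ X) [IsOpenImmersion j] :
    topologicalKrullDim X = ringKrullDim R := by
  let : X.Over (Spec (CommRingCat.of k)) := ⟨f⟩
  have : LocallyOfFiniteType (X ↘ Spec (CommRingCat.of k)) := ‹LocallyOfFiniteType f›
  have hne : (j.opensRange : Set X).Nonempty := by
    rw [Scheme.Hom.coe_opensRange]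
    exact Set.range_nonempty _
  rw [VarietyB.DimSch.topologicalKrullDim_eq_trd k,
    ← VarietyB.DimSch.topologicalKrullDim_opens_eq_trd k j.opensRange hne,
    ← PrimeSpectrum.topologicalKrullDim_eq_ringKrullDim]
  exact (IsHomeomorph.topologicalKrullDim_eq _
    (Scheme.homeoOfIso (Scheme.Hom.isoOpensRange j)).isHomeomorph).symm

/-- local rings at closed points -/
theorem ringKrullDim_stalk_eq (k : Type u) [Field k] {X : Scheme.{u}}
    (f : X ⟶ Spec (CommRingCat.of k)) [LocallyOfFiniteType f] [IsIntegral X] (x : X)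
    (hx : IsClosed ({x} : Set X)) :
    ringKrullDim (X.presheaf.stalk x) = topologicalKrullDim X := by
  let : X.Over (Spec (CommRingCat.of k)) := ⟨f⟩
  have : LocallyOfFiniteType (X ↘ Spec (CommRingCat.of k)) := ‹LocallyOfFiniteType f›
  have h1 := VarietyB.DimSch.localDim_eq k x
  rw [VarietyB.DimSch.localDim_eq_of_irreducible k,
    VarietyB.DimSch.trd_eq_zero_of_isClosed k hx] at h1
  rw [VarietyB.DimSch.topologicalKrullDim_eq_trd k, h1]
  simp

theorem isNagata_field (k : Type u) [Field k] : CAlg.IsNagata k := by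
  refine ⟨inferInstance, ?_⟩
  intro p hp L _ _ _ _ hfin
  have hp' : p = ⊥ := by
    rcases Ideal.eq_bot_or_top p with h | h
    · exact h
    · exact absurd h hp.ne_top
  have hmax : p.IsMaximal := by rw [hp']; exact Ideal.bot_isMaximal
  let : Field (k ⧸ p) := Ideal.Quotient.field p
  have hsurj : Function.Surjective (algebraMap (k ⧸ p) (FractionRing (k ⧸ p))) :=
    IsField.localization_map_bijective (M := nonZeroDivisors (k ⧸ p)) zero_notMem_nonZeroDivisors
      (Field.toIsField (k ⧸ p)) |>.2
  have h1 : Module.Finite (k ⧸ p) (FractionRing (k ⧸ p)) :=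
    Module.Finite.of_surjective (Algebra.linearMap (k ⧸ p) (FractionRing (k ⧸ p))) hsurj
  have h2 : Module.Finite (k ⧸ p) L := Module.Finite.trans (FractionRing (k ⧸ p)) L
  exact Module.Finite.of_injective (Subalgebra.val (integralClosure (k ⧸ p) L)).toLinearMap
    Subtype.val_injective

theorem isNagata_spec (R : Type u) [CommRing R] (hR : CAlg.IsNagata R)
    (V : (Spec (CommRingCat.of R)).Opens) (hV : IsAffineOpen V) :
    CAlg.IsNagata Γ(Spec (CommRingCat.of R), V) := by
  have h1 := Scheme.Hom.finiteType_appLE (𝟙 (Spec (CommRingCat.of R))) (isAffineOpen_top _) hV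
    le_top
  have h2 : ((Scheme.ΓSpecIso (CommRingCat.of R)).inv.hom).FiniteType :=
    RingHom.FiniteType.of_surjective _
      (ConcreteCategory.bijective_of_isIso (Scheme.ΓSpecIso (CommRingCat.of R)).inv).2
  have h3 := h1.comp h2
  let : Algebra R Γ(Spec (CommRingCat.of R), V) := RingHom.toAlgebra
    ((Scheme.Hom.appLE (𝟙 (Spec (CommRingCat.of R))) ⊤ V le_top).hom.comp
      (Scheme.ΓSpecIso (CommRingCat.of R)).inv.hom)
  have : Algebra.FiniteType R Γ(Spec (CommRingCat.of R), V) := h3
  exact S0566.result R hR _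

section

variable {k : Type u} [Field k] (P : NsParam.Param k)

noncomputable abbrev SA : Scheme.{u} := Spec (CommRingCat.of (A P))

noncomputable abbrev fA : SA P ⟶ Spec (CommRingCat.of k) := Spec.map (CommRingCat.ofHom (algebraMap k (A P)))

/-- the generic point -/
noncomputable abbrev gA : Spec (CommRingCat.of (K P)) ⟶ SA P :=
  Spec.map (CommRingCat.ofHom (algebraMap (A P) (K P)))

theorem algebraMap_injective : Function.Injective (algebraMap k[X] (A P)) := by
  rw [injective_iff_map_eq_zero]
  intro p hp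
  have h1 : aeval (xA P) p = 0 := by
    rw [aevalA, ← Algebra.algebraMap_eq_smul_one, hp]
  exact (indepA P p 0 (by rw [h1, map_zero, zero_mul, add_zero])).1

theorem dim_A : ringKrullDim (A P) = 1 := by
  have := finite_kx P
  have h1 : ringKrullDim (A P) = ringKrullDim k[X] :=
    FlatA.DimFin.ringKrullDim_eq_of_isIntegral_of_injective k[X] (A P)
      (algebraMap_injective P)
  rw [h1, Polynomial.ringKrullDim_of_isNoetherianRing, ringKrullDim_eq_zero_of_field, zero_add]

/-- the data of the complete curve -/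
structure Dat (k : Type u) [Field k] [IsAlgClosed k] (P : NsParam.Param k) where
  E : Scheme.{u}
  pE : E ⟶ Spec (CommRingCat.of k)
  j : SA P ⟶ E
  s : E ⟶ E
  [proper : IsProper pE]
  [integral : IsIntegral E]
  normal : Pi1.IsNormalScheme E
  [openImm : IsOpenImmersion j]
  jp : j ≫ pE = fA P
  sp : s ≫ pE = pE
  ss : s ≫ s = CategoryStruct.id E
  gs : gA P ≫ j ≫ s = Spec.map (CommRingCat.ofHom ((σ P : K P →+* K P))) ≫ gA P ≫ j

/-! ### the chart `x ≠ 0` -/

abbrev SS := Localization.Away (xA P)

noncomputable def ι : SS P →+* K P :=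
  IsLocalization.Away.lift (xA P) (g := algebraMap (A P) (K P)) (Ne.isUnit (x_ne P))

theorem ι_alg (a : A P) : ι P (algebraMap (A P) (SS P) a) = algebraMap (A P) (K P) a :=
  IsLocalization.Away.lift_eq _ _ _

theorem ι_inj : Function.Injective (ι P) := by
  rw [injective_iff_map_eq_zero]
  intro z hz
  obtain ⟨n, a, ha⟩ := IsLocalization.Away.surj (xA P) z
  have h1 := congrArg (ι P) ha
  rw [map_mul, hz, zero_mul, ι_alg] at h1
  have h2 : a = 0 := (IsFractionRing.to_map_eq_zero_iff (R := A P) (K := K P)).mp h1.symm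
  rw [h2, map_zero] at ha
  have h3 : IsUnit (algebraMap (A P) (SS P) (xA P) ^ n) :=
    (IsLocalization.Away.algebraMap_isUnit (xA P)).pow n
  exact (h3.mul_left_eq_zero).mp ha

noncomputable def xi : SS P := IsLocalization.Away.invSelf (xA P)

theorem ι_xi : ι P (xi P) = (NsWeier.x P)⁻¹ := by
  apply eq_inv_of_mul_eq_one_left
  rw [NsWeier.x, ← ι_alg, ← map_mul, mul_comm]
  have : algebraMap (A P) (SS P) (xA P) * xi P = 1 := IsLocalization.Away.mul_invSelf _
  rw [this, map_one]

noncomputable def xS : SS P := algebraMap (A P) (SS P)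
  (algebraMap k (A P) (W P).a₄ * xA P - algebraMap k (A P) (W P).a₃ * yA P) * xi P ^ 2

noncomputable def yS : SS P := algebraMap (A P) (SS P) (yA P) * xi P * xS P

theorem ι_xS : ι P (xS P) = x' P := by
  rw [xS, map_mul, ι_alg, map_pow, ι_xi, x', s]
  simp only [map_sub, map_mul, ← IsScalarTower.algebraMap_apply]
  change (_ * NsWeier.x P - _ * NsWeier.y P) * _ = _
  have := x_ne P
  field_simp

theorem ι_yS : ι P (yS P) = s P * x' P := by
  rw [yS, map_mul, map_mul, ι_xS, ι_alg, ι_xi]
  rfl

/-- the involution on the chart -/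
noncomputable def τ : A P →ₐ[k] SS P :=
  AdjoinRoot.liftAlgHom (W P).polynomial (aeval (xS P)) (yS P) (by
    apply ι_inj P
    have h := (W P)
    have h6 : (W P).a₆ = 0 := rfl
    simp only [WeierstrassCurve.Affine.polynomial, eval₂_sub, eval₂_add, eval₂_mul, eval₂_pow,
      eval₂_X, eval₂_C, map_add, map_mul, map_pow, h6, map_zero, add_zero]
    change ι P ((yS P) ^ 2 + (aeval (xS P) (C (W P).a₁) * aeval (xS P) X +
      aeval (xS P) (C (W P).a₃)) * (yS P) - (aeval (xS P) X ^ 3 +
      aeval (xS P) (C (W P).a₂) * aeval (xS P) X ^ 2 +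
      aeval (xS P) (C (W P).a₄) * aeval (xS P) X)) = 0
    simp only [aeval_C, aeval_X, map_sub, map_add, map_mul, map_pow, ι_xS, ι_yS]
    have e : ∀ c : k, ι P (algebraMap k (SS P) c) = algebraMap k (K P) c := by
      intro c
      rw [IsScalarTower.algebraMap_apply k (A P) (SS P), ι_alg, ← IsScalarTower.algebraMap_apply]
    simp only [e]
    linear_combination -(x' P) * rel' P)

theorem ι_algk (c : k) : ι P (algebraMap k (SS P) c) = algebraMap k (K P) c := by
  rw [IsScalarTower.algebraMap_apply k (A P) (SS P), ι_alg, ← IsScalarTower.algebraMap_apply]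

theorem ι_τ [IsAlgClosed k] (a : A P) : ι P (τ P a) = σ P (algebraMap (A P) (K P) a) := by
  have e1 : τ P (xA P) = xS P := by
    change AdjoinRoot.liftAlgHom (W P).polynomial (aeval (xS P)) (yS P) _ (AdjoinRoot.of _ X) = _
    rw [AdjoinRoot.liftAlgHom_of, aeval_X]
  have e2 : τ P (yA P) = yS P := by
    change AdjoinRoot.liftAlgHom (W P).polynomial (aeval (xS P)) (yS P) _ (AdjoinRoot.root _) = _
    rw [AdjoinRoot.liftAlgHom_root]
  have e3 : ∀ p : k[X], ι P (aeval (xS P) p) = aeval (x' P) p := by
    intro p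
    rw [← ι_xS]
    let ι' : SS P →ₐ[k] K P := { ι P with commutes' := ι_algk P }
    exact (aeval_algHom_apply ι' (xS P) p).symm
  change ι P (τ P a) = σ₀ P (algebraMap (A P) (K P) a)
  rw [σ₀_alg]
  obtain ⟨p, q, rfl⟩ := form P a
  rw [map_add, map_mul, ← aeval_algHom_apply, ← aeval_algHom_apply, e1, e2, map_add, map_mul, e3,
    e3, ι_yS, map_add, map_mul, ← aeval_algHom_apply, ← aeval_algHom_apply, σA_x, σA_y]

/-- the generic point of an open subscheme is dominant -/
theorem isDominant_gen {E : Scheme.{u}} [IsIntegral E] (j : SA P ⟶ E) [IsOpenImmersion j] :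
    IsDominant (gA P ≫ j) := by
  refine ⟨?_⟩
  have h1 : (gA P ≫ j) (IsLocalRing.closedPoint (K P)) = genericPoint E := by
    rw [Scheme.Hom.comp_apply, ← genericPoint_eq_of_isOpenImmersion j]
    congr 1
    have h2 := Lefpen.H416.NormalBase.range_specMap (A P) (K P) (IsFractionRing.injective (A P) (K P))
    have h3 : (gA P) (IsLocalRing.closedPoint (K P)) ∈
      Set.range (Spec.map (CommRingCat.ofHom (algebraMap (A P) (K P)))) := ⟨_, rfl⟩
    rw [h2] at h3
    exact h3
  rw [DenseRange, dense_iff_closure_eq]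
  refine Set.eq_univ_of_univ_subset ?_
  rw [← genericPoint_closure (α := E)]
  apply closure_mono
  rintro _ rfl
  exact ⟨_, h1⟩

theorem exists_dat [IsAlgClosed k] : Nonempty (Dat k P) := by
  have hft : LocallyOfFiniteType (fA P) := by
    rw [HasRingHomProperty.Spec_iff (P := @LocallyOfFiniteType)]
    exact RingHom.finiteType_algebraMap.mpr inferInstance
  have hic := isIntegrallyClosed P
  obtain ⟨E, j, pE, hj, hpE, hjp, hint, hnorm⟩ := NsNC.exists_nc (fA P)
    (Lefpen.H416.NormalBase.isNormalScheme_spec (A P)) (isNagata_spec k (isNagata_field k))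
  have hcurve : ∀ x : E, IsClosed ({x} : Set E) → ringKrullDim (E.presheaf.stalk x) = 1 := by
    intro x hx
    rw [ringKrullDim_stalk_eq k pE x hx, dim_eq k pE (A P) j, dim_A]
  -- the open
  let v : Spec (CommRingCat.of (SS P)) ⟶ SA P :=
    Spec.map (CommRingCat.ofHom (algebraMap (A P) (SS P)))
  have hv : IsOpenImmersion v := by
    exact (inferInstance : IsOpenImmersion (Spec.map (CommRingCat.ofHom
      (algebraMap (A P) (Localization.Away (xA P))))))
  let i : Spec (CommRingCat.of (SS P)) ⟶ E := v ≫ j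
  let g : (i.opensRange : Scheme.{u}) ⟶ E :=
    (Scheme.Hom.isoOpensRange i).inv ≫ Spec.map (CommRingCat.ofHom (τ P).toRingHom) ≫ j
  have hi : (Scheme.Hom.isoOpensRange i).inv ≫ i = i.opensRange.ι :=
    Scheme.Hom.isoOpensRange_inv_comp i
  let : E.Over (Spec (CommRingCat.of k)) := ⟨pE⟩
  have : IsProper (E ↘ (Spec (CommRingCat.of k))) := hpE
  have hU : Dense (i.opensRange : Set E) := by
    apply i.opensRange.2.dense
    have : Nonempty (Spec (CommRingCat.of (SS P))) := by
      have : Nontrivial (SS P) := (ι P).domain_nontrivial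
      infer_instance
    exact (inferInstance : Nonempty (Spec (CommRingCat.of (SS P)))).elim fun x => ⟨i x, x, rfl⟩
  have hg : g ≫ (E ↘ (Spec (CommRingCat.of k))) = i.opensRange.ι ≫ (E ↘ (Spec (CommRingCat.of k))) := by
    change g ≫ pE = i.opensRange.ι ≫ pE
    rw [← hi]
    simp only [g, i, Category.assoc]
    rw [hjp, ← Spec.map_comp, ← Spec.map_comp]
    congr 2
    ext c
    exact (τ P).commutes c
  obtain ⟨s, ⟨hs1, hs2⟩, -⟩ := S2344.result k E E hcurve hnorm i.opensRange hU g hg
  have hgen : gA P = Spec.map (CommRingCat.ofHom (ι P)) ≫ v := by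
    have : CommRingCat.ofHom (algebraMap (A P) (K P)) =
        CommRingCat.ofHom (algebraMap (A P) (SS P)) ≫ CommRingCat.ofHom (ι P) := by
      apply CommRingCat.hom_ext
      apply RingHom.ext
      intro a
      exact (ι_alg P a).symm
    rw [← Spec.map_comp, ← this]
  have hgs : gA P ≫ j ≫ s = Spec.map (CommRingCat.ofHom ((σ P : K P →+* K P))) ≫ gA P ≫ j := by
    have e1 : i ≫ s = Spec.map (CommRingCat.ofHom (τ P).toRingHom) ≫ j := by
      rw [← Scheme.Hom.isoOpensRange_hom_ι i, Category.assoc, hs1]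
      simp only [g]
      rw [Iso.hom_inv_id_assoc]
    have e2 : gA P ≫ j ≫ s = Spec.map (CommRingCat.ofHom (ι P)) ≫ i ≫ s := by
      rw [hgen]
      simp only [i, Category.assoc]
    have e3 : CommRingCat.ofHom (τ P).toRingHom ≫ CommRingCat.ofHom (ι P) =
        CommRingCat.ofHom (algebraMap (A P) (K P)) ≫
          CommRingCat.ofHom ((σ P : K P →+* K P)) := by
      apply CommRingCat.hom_ext
      apply RingHom.ext
      intro a
      exact ι_τ P a
    rw [e2, e1, ← Category.assoc, ← Category.assoc, ← Spec.map_comp, ← Spec.map_comp, e3]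
  refine ⟨⟨E, pE, j, s, hnorm, hjp, hs2, ?_, hgs⟩⟩
  have := isDominant_gen P j
  apply ext_of_isDominant_of_isSeparated pE _ (gA P ≫ j)
  · rw [Category.assoc, Category.comp_id, reassoc_of% hgs, hgs, ← Category.assoc,
      ← Spec.map_comp]
    have : CommRingCat.ofHom ((σ P : K P →+* K P)) ≫ CommRingCat.ofHom ((σ P : K P →+* K P)) =
        𝟙 _ := by
      ext z
      exact (dat P).σσ z
    rw [this, Spec.map_id, Category.id_comp]
  · rw [Category.id_comp, Category.assoc]
    erw [hs2, hs2]
    rfl

end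

end K629.NsCurve
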