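import Groth.Agent.AlgSp.K629.NsY

/-!
# The surface has dimension two
-/

set_option autoImplicit false
universe u
open CategoryTheory CategoryTheory.Limits AlgebraicGeometry TensorProduct Polynomial

namespace K629.NsDim

open NsCone NsLam NsFun NsWeier NsCurve NsNormal NsYo NsConeR NsU NsY Groth.Agent

variable {k : Type u} [Field k] (γ : k) [IsAlgClosed k] (P : NsParam.Param k)

theorem aeval_injective :
    Function.Injective (aeval (tB γ (A P)) : (A P)[X] →ₐ[A P] B γ (A P)) := by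
  rw [injective_iff_map_eq_zero]
  intro p hp
  have h1 := congrArg (Φ γ P) hp
  have h2 : Φ γ P (aeval (tB γ (A P)) p) =
      (p.map (algebraMap (A P) (K P))).eval₂ (jK γ P) (jΛ γ P (tL γ)) := by
    rw [aeval_def, hom_eval₂, eval₂_map, Φ_t]
    congr 1
    apply RingHom.ext
    intro a
    exact Φ_j γ P a
  have h3 := (ind γ P (p.map (algebraMap (A P) (K P))) 0
    (by rw [← h2, h1, map_zero, eval₂_zero, zero_mul, add_zero])).1
  exact (Polynomial.map_eq_zero_iff (IsFractionRing.injective (A P) (K P))).mp h3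

theorem dim_B : ringKrullDim (B γ (A P)) = 2 := by
  let _ : Algebra (A P)[X] (B γ (A P)) :=
    (aeval (tB γ (A P)) : (A P)[X] →ₐ[A P] B γ (A P)).toRingHom.toAlgebra
  have ha : ∀ p : (A P)[X], algebraMap (A P)[X] (B γ (A P)) p = aeval (tB γ (A P)) p :=
    fun p => rfl
  have he : IsIntegral (A P)[X] (eB γ (A P)) := by
    let t0 : (A P)[X] := X
    let g0 : (A P)[X] := C (algebraMap k (A P) γ)
    refine ⟨X ^ 2 + C t0 * X - C (t0 ^ 3 + g0 * t0), ?_, ?_⟩
    · monicity!
    · rw [eval₂_sub, eval₂_add, eval₂_mul, eval₂_pow, eval₂_X, eval₂_C, eval₂_C, ha, ha, map_add,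
        map_mul, map_pow]
      have e1 : aeval (tB γ (A P)) t0 = tB γ (A P) := aeval_X _
      have e2 : aeval (tB γ (A P)) g0 = algebraMap k (B γ (A P)) γ := by
        simp only [g0]
        rw [aeval_C, ← IsScalarTower.algebraMap_apply]
      rw [e1, e2]
      linear_combination eqnB γ (A P)
  have hint : Algebra.IsIntegral (A P)[X] (B γ (A P)) := by
    refine ⟨fun b => ?_⟩
    obtain ⟨p, q, rfl⟩ := formB γ (A P) b
    rw [← ha, ← ha]
    exact isIntegral_algebraMap.add (isIntegral_algebraMap.mul he)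
  rw [FlatA.DimFin.ringKrullDim_eq_of_isIntegral_of_injective (A P)[X] (B γ (A P))
    (aeval_injective γ P), Polynomial.ringKrullDim_of_isNoetherianRing, dim_A]
  norm_num

noncomputable abbrev bmap : SAL γ P ⟶ Spec (CommRingCat.of (B γ (A P))) :=
  Spec.map (CommRingCat.ofHom (ιB γ P).toRingHom)

instance isOpenImmersion_bmap : IsOpenImmersion (bmap γ P) := by
  let _ := (ιB γ P).toRingHom.toAlgebra
  have : IsLocalization.Away (tB γ (A P)) (A P ⊗[k] Lam γ) := by
    have hcA : ∀ b : B γ (A P), algebraMap (B γ (A P)) (A P ⊗[k] Lam γ) b = ιB γ P b :=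
      fun b => rfl
    refine ⟨?_, ?_, ?_⟩
    · rintro ⟨_, n, rfl⟩
      rw [map_pow]
      exact (isUnit_ιB_t γ P).pow n
    · intro z
      obtain ⟨n, b, hb⟩ := surjB γ P z
      refine ⟨⟨b, ⟨tB γ (A P) ^ n, n, rfl⟩⟩, ?_⟩
      rw [map_pow, hcA, hcA]
      exact hb
    · intro x y hxy
      refine ⟨1, ?_⟩
      rw [hcA, hcA] at hxy
      rw [ιB_inj γ P hxy]
  exact IsOpenImmersion.of_isLocalization (tB γ (A P))

theorem dim_AL : ringKrullDim (A P ⊗[k] Lam γ) = 2 := by
  have h2 : LocallyOfFiniteType (Spec.map (CommRingCat.ofHom (algebraMap k (B γ (A P))))) := by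
    rw [HasRingHomProperty.Spec_iff (P := @LocallyOfFiniteType)]
    exact RingHom.finiteType_algebraMap.mpr inferInstance
  have h3 := NsCurve.dim_eq k (Spec.map (CommRingCat.ofHom (algebraMap k (B γ (A P)))))
    (A P ⊗[k] Lam γ) (bmap γ P)
  rw [← h3, ← dim_B γ P]
  exact PrimeSpectrum.topologicalKrullDim_eq_ringKrullDim _

variable {γ P}

attribute [instance] NsY.YDat.proper NsY.YDat.integral NsY.YDat.openI

theorem dim_Y {D : NsCurve.Dat k P} {V : UDat k γ P D} {hγ : γ ≠ 0} (YD : YDat hγ V) :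
    topologicalKrullDim YD.Y = 2 := by
  rw [NsCurve.dim_eq k YD.p (A P ⊗[k] Lam γ) (a γ D ≫ V.y ≫ YD.i₁), dim_AL]

end K629.NsDim
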