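import Mathlib

/-!
# Functions on a nodal cubic with a non-torsion point: the special fibre of the unit argument
-/

set_option autoImplicit false
universe u
open Polynomial

namespace K629.NsNodal

variable {κ : Type u} [Field κ]

/-- The polynomial of degree even plus odd attached to `p + q * Y`. -/
noncomputable def U (mu : κ) (p q : κ[X]) : κ[X] :=
  p.comp (X ^ 2 + X) + q.comp (X ^ 2 + X) * ((X ^ 2 + C mu) * (X + 1))

theorem natDegree_X2X : (X ^ 2 + X : κ[X]).natDegree = 2 := by
  compute_degree!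

theorem natDegree_cubic (mu : κ) : ((X ^ 2 + C mu) * (X + 1) : κ[X]).natDegree = 3 := by
  have h1 : (X ^ 2 + C mu : κ[X]).natDegree = 2 := by compute_degree!
  have h2 : (X + 1 : κ[X]).natDegree = 1 := by compute_degree!
  rw [natDegree_mul, h1, h2]
  · intro h; rw [h] at h1; simp at h1
  · intro h; rw [h] at h2; simp at h2

theorem comp_ne_zero {p : κ[X]} (hp : p ≠ 0) : p.comp (X ^ 2 + X) ≠ 0 := by
  intro h
  rcases comp_eq_zero_iff.mp h with h | ⟨_, h⟩
  · exact hp h
  · have := congrArg natDegree h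
    rw [natDegree_X2X] at this
    simp at this

theorem U_ne_zero (mu : κ) {p q : κ[X]} (h : p ≠ 0 ∨ q ≠ 0) : U mu p q ≠ 0 := by
  intro h0
  by_cases hq : q = 0
  · subst hq
    have hp : p ≠ 0 := by simpa using h
    rw [U, zero_comp, zero_mul, add_zero] at h0
    exact comp_ne_zero hp h0
  · have hc : ((X ^ 2 + C mu) * (X + 1) : κ[X]) ≠ 0 := by
      intro h1
      have := natDegree_cubic mu
      rw [h1] at this
      simp at this
    have e1 : p.comp (X ^ 2 + X) = -(q.comp (X ^ 2 + X) * ((X ^ 2 + C mu) * (X + 1))) :=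
      eq_neg_of_add_eq_zero_left h0
    have e2 := congrArg natDegree e1
    rw [natDegree_neg, natDegree_mul (comp_ne_zero hq) hc, natDegree_comp, natDegree_comp,
      natDegree_X2X, natDegree_cubic] at e2
    omega

theorem U_eval_zero (mu : κ) (p q : κ[X]) : (U mu p q).eval 0 = p.eval 0 + q.eval 0 * mu := by
  simp [U, eval_comp]

theorem U_eval_eq {al be : κ} (hab : al + be = -1) (p q : κ[X]) :
    (U (al * be) p q).eval al = (U (al * be) p q).eval be := by
  have hbe : be = -1 - al := by linear_combination hab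
  subst hbe
  simp only [U, eval_add, eval_mul, eval_comp, eval_pow, eval_X, eval_C, eval_one]
  have e1 : (-1 - al) ^ 2 + (-1 - al) = al ^ 2 + al := by ring
  rw [e1]
  ring

variable (κ) in
/-- the function field of the line -/
abbrev F := FractionRing κ[X]

variable (κ) in
noncomputable def m : F κ := algebraMap κ[X] (F κ) X

theorem m_ne_zero : m κ ≠ 0 := by
  rw [m, Ne, IsFractionRing.to_map_eq_zero_iff]
  exact X_ne_zero

theorem aeval_m (f : κ[X]) : aeval (m κ) f = algebraMap κ[X] (F κ) f := by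
  rw [m, aeval_algebraMap_apply, aeval_X_left_apply]

/-- coordinates of the nodal curve -/
noncomputable def s (mu : κ) : F κ := m κ + algebraMap κ (F κ) mu / m κ

noncomputable def x : F κ := m κ ^ 2 + m κ

noncomputable def x' (mu : κ) : F κ :=
  (algebraMap κ (F κ) mu / m κ) ^ 2 + algebraMap κ (F κ) mu / m κ

theorem x_rel (mu : κ) : (x : F κ) ^ 2 = ((s mu) ^ 2 + 1 * s mu - algebraMap κ (F κ) (2 * mu)) * x -
    (algebraMap κ (F κ) (mu ^ 2 + mu) - algebraMap κ (F κ) (-mu) * s mu) := by
  have := m_ne_zero (κ := κ)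
  simp only [x, s, map_add, map_mul, map_neg, map_pow, map_ofNat]
  field_simp
  ring

theorem x'_eq (mu : κ) : x' mu = (s mu) ^ 2 + 1 * s mu - algebraMap κ (F κ) (2 * mu) - x := by
  have := m_ne_zero (κ := κ)
  simp only [x, x', s, map_mul, map_ofNat]
  field_simp
  ring

theorem val_x (mu : κ) (p q : κ[X]) :
    aeval x p + aeval x q * (s mu * x) = algebraMap κ[X] (F κ) (U mu p q) := by
  have hm := m_ne_zero (κ := κ)
  have e1 : (x : F κ) = aeval (m κ) (X ^ 2 + X : κ[X]) := by simp [x]
  have e2 : s mu * x = aeval (m κ) ((X ^ 2 + C mu) * (X + 1) : κ[X]) := by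
    simp only [s, x, map_mul, map_add, map_pow, aeval_X, aeval_C, map_one]
    field_simp
  rw [e2, e1, ← aeval_comp, ← aeval_comp, ← map_mul, ← map_add, aeval_m]
  rfl

theorem val_x' {mu : κ} (hmu : mu ≠ 0) (p q : κ[X]) :
    aeval (x' mu) p + aeval (x' mu) q * (s mu * x' mu) =
      aeval (algebraMap κ (F κ) mu / m κ) (U mu p q) := by
  have hm := m_ne_zero (κ := κ)
  have hmu' : algebraMap κ (F κ) mu ≠ 0 := by
    rw [Ne, map_eq_zero]; exact hmu
  have e1 : x' mu = aeval (algebraMap κ (F κ) mu / m κ) (X ^ 2 + X : κ[X]) := by simp [x']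
  have e2 : s mu * x' mu =
      aeval (algebraMap κ (F κ) mu / m κ) ((X ^ 2 + C mu) * (X + 1) : κ[X]) := by
    simp only [s, x', map_mul, map_add, map_pow, aeval_X, aeval_C, map_one]
    field_simp
    ring
  rw [e2, e1, ← aeval_comp, ← aeval_comp, ← map_mul, ← map_add]
  rfl

theorem main {al be : κ} (hab : al + be = -1) (hal : al ≠ 0) (hbe : be ≠ 0)
    (hpow : ∀ n : ℕ, 0 < n → al ^ n ≠ be ^ n) {p q : κ[X]} (hpq : p ≠ 0 ∨ q ≠ 0) (c : κ)
    (h : (aeval x p + aeval x q * (s (al * be) * x)) *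
      (aeval (x' (al * be)) p + aeval (x' (al * be)) q * (s (al * be) * x' (al * be))) =
        algebraMap κ (F κ) c) :
    p.eval 0 + q.eval 0 * (al * be) ≠ 0 := by
  have hmu : al * be ≠ 0 := mul_ne_zero hal hbe
  have hm := m_ne_zero (κ := κ)
  have hinj : Function.Injective (algebraMap κ[X] (F κ)) := IsFractionRing.injective _ _
  rw [val_x, val_x' hmu] at h
  have hU := U_ne_zero (al * be) hpq
  set f := U (al * be) p q with hf
  -- the second factor
  let g : κ[X] := f.comp (C (al * be) * X)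
  have e1 : aeval (algebraMap κ (F κ) (al * be) / m κ) f = aeval (m κ)⁻¹ g := by
    rw [aeval_comp]
    congr 2
    simp [div_eq_mul_inv]
  have hg : g ≠ 0 := by
    intro h0
    rcases comp_eq_zero_iff.mp h0 with h0 | ⟨_, h0⟩
    · exact hU h0
    · have := congrArg natDegree h0
      rw [natDegree_C_mul_X _ hmu] at this
      simp at this
  have e2 : aeval (m κ)⁻¹ g * m κ ^ g.natDegree = algebraMap κ[X] (F κ) g.reverse := by
    letI : Invertible (m κ)⁻¹ := invertibleOfNonzero (inv_ne_zero hm)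
    have := eval₂_reverse_mul_pow (algebraMap κ (F κ)) (m κ)⁻¹ g
    rw [invOf_eq_inv, inv_inv] at this
    rw [← aeval_def, ← aeval_def, aeval_m] at this
    rw [← this, mul_assoc, ← mul_pow, inv_mul_cancel₀ hm, one_pow, mul_one]
  have e3 : f * g.reverse = C c * X ^ g.natDegree := by
    apply hinj
    rw [map_mul, ← e2, ← mul_assoc, ← e1, h, map_mul, map_pow]
    rfl
  have hgr : g.reverse ≠ 0 := by rwa [Ne, reverse_eq_zero]
  have hc : c ≠ 0 := by
    rintro rfl
    rw [map_zero, zero_mul] at e3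
    exact mul_ne_zero hU hgr e3
  have hdvd : f ∣ X ^ g.natDegree := by
    refine ⟨C c⁻¹ * g.reverse, ?_⟩
    rw [mul_left_comm, e3, ← mul_assoc, ← C_mul, inv_mul_cancel₀ hc, C_1, one_mul]
  obtain ⟨i, -, hi⟩ := (dvd_prime_pow prime_X _).mp hdvd
  obtain ⟨u, hu⟩ := hi.symm
  obtain ⟨r, hr, hr'⟩ := Polynomial.isUnit_iff.mp u.isUnit
  have hf' : f = X ^ i * C r := by rw [← hu, hr']
  have hr0 : r ≠ 0 := hr.ne_zero
  have hi0 : i = 0 := by
    by_contra hi0
    have h1 := U_eval_eq hab p q
    rw [← hf, hf'] at h1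
    simp only [eval_mul, eval_pow, eval_X, eval_C] at h1
    exact hpow i (Nat.pos_of_ne_zero hi0) (mul_right_cancel₀ hr0 h1)
  rw [← U_eval_zero, ← hf, hf', hi0]
  simpa using hr0

end K629.NsNodal
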