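import Mathlib

/-!
# Reduction of polynomials modulo a quadratic relation `x² = τ(s) x - ν(s)`
-/

set_option autoImplicit false
universe u
open Polynomial

namespace K629.NsPair

variable {R : Type u} [CommRing R]

/-- `f(x) = A(s) + B(s) x` whenever `x² = (s² + a₁ s - a₂) x - (a₄ - a₃ s)`. -/
def Red (a₁ a₂ a₃ a₄ : R) (f A B : R[X]) : Prop :=
  ∀ (T : Type u) [CommRing T] (φ : R →+* T) (s x : T),
    x ^ 2 = (s ^ 2 + φ a₁ * s - φ a₂) * x - (φ a₄ - φ a₃ * s) →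
      f.eval₂ φ x = A.eval₂ φ s + B.eval₂ φ s * x

theorem exists_red (a₁ a₂ a₃ a₄ : R) (f : R[X]) : ∃ A B : R[X], Red a₁ a₂ a₃ a₄ f A B := by
  induction f using Polynomial.induction_on with
  | C a =>
    refine ⟨C a, 0, fun T _ φ s x h => ?_⟩
    simp
  | add p q hp hq =>
    obtain ⟨A, B, h1⟩ := hp
    obtain ⟨A', B', h2⟩ := hq
    refine ⟨A + A', B + B', fun T _ φ s x h => ?_⟩
    rw [eval₂_add, h1 T φ s x h, h2 T φ s x h, eval₂_add, eval₂_add]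
    ring
  | monomial n a ih =>
    obtain ⟨A, B, h1⟩ := ih
    refine ⟨-B * (C a₄ - C a₃ * X), A + B * (X ^ 2 + C a₁ * X - C a₂), fun T _ φ s x h => ?_⟩
    have e : (C a * X ^ (n + 1) : R[X]) = C a * X ^ n * X := by ring
    rw [e, eval₂_mul_X, h1 T φ s x h]
    simp only [eval₂_add, eval₂_mul, eval₂_neg, eval₂_sub, eval₂_pow, eval₂_X, eval₂_C]
    linear_combination (eval₂ φ s B) * h

theorem exists_pair (a₁ a₂ a₃ a₄ : R) (p q : R[X]) : ∃ A B : R[X],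
    ∀ (T : Type u) [CommRing T] (φ : R →+* T) (s x : T),
      x ^ 2 = (s ^ 2 + φ a₁ * s - φ a₂) * x - (φ a₄ - φ a₃ * s) →
        p.eval₂ φ x + q.eval₂ φ x * (s * x) = A.eval₂ φ s + B.eval₂ φ s * x := by
  obtain ⟨A, B, h1⟩ := exists_red a₁ a₂ a₃ a₄ p
  obtain ⟨A', B', h2⟩ := exists_red a₁ a₂ a₃ a₄ (q * X)
  refine ⟨A + X * A', B + X * B', fun T _ φ s x h => ?_⟩
  have e : q.eval₂ φ x * (s * x) = s * (q * X).eval₂ φ x := by rw [eval₂_mul_X]; ring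
  rw [e, h1 T φ s x h, h2 T φ s x h]
  simp only [eval₂_add, eval₂_mul, eval₂_X]
  ring

/-- the norm `A² + AB(x + x') + B² x x'` -/
noncomputable def nm (a₁ a₂ a₃ a₄ : R) (A B : R[X]) : R[X] :=
  A ^ 2 + A * B * (X ^ 2 + C a₁ * X - C a₂) + B ^ 2 * (C a₄ - C a₃ * X)

/-- the two roots -/
theorem rel' {a₁ a₂ a₃ a₄ : R} {T : Type u} [CommRing T] {φ : R →+* T} {s x x' : T}
    (h : x ^ 2 = (s ^ 2 + φ a₁ * s - φ a₂) * x - (φ a₄ - φ a₃ * s))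
    (h' : x' = s ^ 2 + φ a₁ * s - φ a₂ - x) :
    x' ^ 2 = (s ^ 2 + φ a₁ * s - φ a₂) * x' - (φ a₄ - φ a₃ * s) := by
  subst h'
  linear_combination h

theorem exists_norm (a₁ a₂ a₃ a₄ : R) (p q : R[X]) : ∃ N : R[X],
    ∀ (T : Type u) [CommRing T] (φ : R →+* T) (s x x' : T),
      x ^ 2 = (s ^ 2 + φ a₁ * s - φ a₂) * x - (φ a₄ - φ a₃ * s) →
      x' = s ^ 2 + φ a₁ * s - φ a₂ - x →
        (p.eval₂ φ x + q.eval₂ φ x * (s * x)) * (p.eval₂ φ x' + q.eval₂ φ x' * (s * x')) =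
          N.eval₂ φ s := by
  obtain ⟨A, B, h1⟩ := exists_pair a₁ a₂ a₃ a₄ p q
  refine ⟨nm a₁ a₂ a₃ a₄ A B, fun T _ φ s x x' h h' => ?_⟩
  rw [h1 T φ s x h, h1 T φ s x' (rel' h h')]
  subst h'
  simp only [nm, eval₂_add, eval₂_mul, eval₂_sub, eval₂_pow, eval₂_X, eval₂_C]
  linear_combination -(eval₂ φ s B ^ 2) * h

end K629.NsPair
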