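import Groth.Agent.AlgSp.K629.NsParam
import Groth.Agent.AlgSp.K629.NsNodal
import Groth.Agent.AlgSp.K629.NsPair

/-!
# A function field with an involution and no sigma-units
-/

set_option autoImplicit false
universe u
open Polynomial

namespace K629.NsField

variable {k K : Type u} [Field k] [Field K] [Algebra k K]

/-- elements lying in every valuation ring over an algebraically closed field are constants -/
theorem mem_range_of_forall [IsAlgClosed k] (z : K)
    (h : ∀ V : ValuationSubring K, (∀ a : k, algebraMap k K a ∈ V) → z ∈ V) :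
    z ∈ (algebraMap k K).range := by
  have h1 : z ∈ (⨅ V : {V : ValuationSubring K // ((algebraMap k K).range : Set K) ⊆ V.toSubring},
      V.1.toSubring) := by
    rw [Subring.mem_iInf]
    intro V
    exact h V.1 (fun a => V.2 ⟨a, rfl⟩)
  rw [iInf_valuationSubring_superset] at h1
  have h2 : IsIntegral (Subring.closure ((algebraMap k K).range : Set K)) z := h1
  have h3 : IsIntegral k z := by
    obtain ⟨p, hp, hp'⟩ := h2
    have hc : ∀ a : Subring.closure ((algebraMap k K).range : Set K),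
        (a : K) ∈ (algebraMap k K).range := by
      intro a
      exact (Subring.closure_le.mpr (le_refl ((algebraMap k K).range : Set K))) a.2
    have : ∃ q : k[X], q.map (RingHom.codRestrict (algebraMap k K)
        (Subring.closure ((algebraMap k K).range : Set K))
        (fun a => Subring.subset_closure ⟨a, rfl⟩)) = p ∧ q.Monic := by
      have hl : p ∈ lifts (RingHom.codRestrict (algebraMap k K)
        (Subring.closure ((algebraMap k K).range : Set K))
        (fun a => Subring.subset_closure ⟨a, rfl⟩)) := by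
        rw [lifts_iff_coeff_lifts]
        intro n
        obtain ⟨a, ha⟩ := hc (p.coeff n)
        exact ⟨a, Subtype.ext ha⟩
      obtain ⟨q, hq, -, hq'⟩ := lifts_and_degree_eq_and_monic hl hp
      exact ⟨q, hq, hq'⟩
    obtain ⟨q, rfl, hq⟩ := this
    refine ⟨q, hq, ?_⟩
    rw [eval₂_map] at hp'
    exact hp'
  have h4 := IsAlgClosed.degree_eq_one_of_irreducible k (minpoly.irreducible h3)
  obtain ⟨a, ha⟩ := minpoly.mem_range_of_degree_eq_one k z h4
  exact ⟨a, ha⟩

section val

variable (V : ValuationSubring K)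

theorem lt_one_of_mul {a b : K} (ha : V.valuation a < 1) (hb : V.valuation b ≤ 1) :
    V.valuation (a * b) < 1 := by
  rw [map_mul]
  exact mul_lt_one_of_lt_of_le ha hb

theorem aeval_le_one (hk : ∀ a : k, V.valuation (algebraMap k K a) ≤ 1) {z : K}
    (hz : V.valuation z ≤ 1) (p : k[X]) : V.valuation (aeval z p) ≤ 1 := by
  induction p using Polynomial.induction_on with
  | C a => rw [aeval_C]; exact hk a
  | add p q hp hq => rw [map_add]; exact Valuation.map_add_le _ hp hq
  | monomial n a _ =>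
    rw [map_mul, aeval_C, map_pow, aeval_X, map_mul, map_pow]
    exact mul_le_one' (hk a) (pow_le_one' hz _)

theorem aeval_sub_lt_one (hk : ∀ a : k, V.valuation (algebraMap k K a) ≤ 1) {z : K}
    (hz : V.valuation z < 1) (p : k[X]) :
    V.valuation (aeval z p - algebraMap k K (p.eval 0)) < 1 := by
  induction p using Polynomial.induction_on with
  | C a => simp
  | add p q hp hq =>
    have : aeval z (p + q) - algebraMap k K ((p + q).eval 0) =
      (aeval z p - algebraMap k K (p.eval 0)) + (aeval z q - algebraMap k K (q.eval 0)) := by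
      rw [map_add, eval_add, map_add]; ring
    rw [this]
    exact Valuation.map_add_lt _ hp hq
  | monomial n a _ =>
    have : aeval z (C a * X ^ (n + 1)) - algebraMap k K ((C a * X ^ (n + 1) : k[X]).eval 0) =
      z * (algebraMap k K a * z ^ n) := by
      simp
      ring
    rw [this]
    refine lt_one_of_mul V hz ?_
    rw [map_mul, map_pow]
    exact mul_le_one' (hk a) (pow_le_one' hz.le _)

end val

/-- A Weierstrass cubic through the origin, generating the field `K`. -/
structure Dat (k K : Type u) [Field k] [Field K] [Algebra k K] where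
  x : K
  y : K
  a₁ : k
  a₂ : k
  a₃ : k
  a₄ : k
  ha3 : a₃ ≠ 0
  eqn : y ^ 2 + algebraMap k K a₁ * x * y + algebraMap k K a₃ * y =
    x ^ 3 + algebraMap k K a₂ * x ^ 2 + algebraMap k K a₄ * x
  indep : ∀ p q : k[X], aeval x p + aeval x q * y = 0 → p = 0 ∧ q = 0
  σ : K ≃ₐ[k] K
  σx : σ x = (algebraMap k K a₄ - algebraMap k K a₃ * (y / x)) / x
  σy : σ y = y / x * σ x
  σσ : ∀ z, σ (σ z) = z

namespace Dat

variable (D : Dat k K)

/-- the coordinate ring -/
def InA (f : K) : Prop := ∃ p q : k[X], f = aeval D.x p + aeval D.x q * D.y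

theorem x_ne : D.x ≠ 0 := by
  intro h
  have := (D.indep X 0 (by rw [aeval_X, map_zero, h, zero_mul, add_zero])).1
  exact X_ne_zero this

noncomputable def s : K := D.y / D.x

noncomputable def x' : K := D.σ D.x

theorem x'_eq : D.x' = (algebraMap k K D.a₄ - algebraMap k K D.a₃ * D.s) / D.x := D.σx

theorem y'_eq : D.σ D.y = D.s * D.x' := D.σy

theorem σs : D.σ D.s = D.s := by
  have h1 : D.x' ≠ 0 := by
    intro h
    exact D.x_ne (by rw [← D.σσ D.x]; change D.σ D.x' = 0; rw [h, map_zero])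
  rw [s, map_div₀, D.y'_eq]
  change D.s * D.x' / D.x' = _
  rw [mul_div_cancel_right₀ _ h1]
  rfl

theorem y_eq : D.y = D.s * D.x := by
  rw [s, div_mul_cancel₀ _ D.x_ne]

theorem x_mul_x' : D.x * D.x' = algebraMap k K D.a₄ - algebraMap k K D.a₃ * D.s := by
  rw [x'_eq, mul_div_cancel₀ _ D.x_ne]

theorem rel : D.x ^ 2 = (D.s ^ 2 + algebraMap k K D.a₁ * D.s - algebraMap k K D.a₂) * D.x -
    (algebraMap k K D.a₄ - algebraMap k K D.a₃ * D.s) := by
  have h := D.eqn
  rw [D.y_eq] at h
  have h2 := D.x_ne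
  apply mul_right_cancel₀ h2
  linear_combination -h

theorem x'_eq' : D.x' = D.s ^ 2 + algebraMap k K D.a₁ * D.s - algebraMap k K D.a₂ - D.x := by
  apply mul_left_cancel₀ D.x_ne
  rw [D.x_mul_x']
  linear_combination D.rel

theorem s_trans [IsAlgClosed k] (p : k[X]) (hp : aeval D.s p = 0) : p = 0 := by
  by_contra h0
  have h3 : IsIntegral k D.s := IsAlgebraic.isIntegral ⟨p, h0, hp⟩
  have h4 := IsAlgClosed.degree_eq_one_of_irreducible k (minpoly.irreducible h3)
  obtain ⟨a, ha⟩ := minpoly.mem_range_of_degree_eq_one k _ h4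
  have := (D.indep (C a * X) (-1) (by
    rw [map_mul, aeval_C, aeval_X, map_neg, map_one, D.y_eq, ← ha]
    ring)).2
  exact one_ne_zero (neg_eq_zero.mp this)

variable (V : ValuationSubring K)

theorem y_mem (hk : ∀ a : k, V.valuation (algebraMap k K a) ≤ 1) (hx : V.valuation D.x ≤ 1) :
    V.valuation D.y ≤ 1 := by
  by_contra h
  have hy0 : D.y ≠ 0 := by
    intro h0; rw [h0, map_zero] at h; exact h zero_le
  have hw : V.valuation D.y⁻¹ < 1 := by
    rw [map_inv₀]
    exact inv_lt_one_of_one_lt₀ (not_le.mp h)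
  have e : (1 : K) = D.y⁻¹ * ((D.x ^ 3 + algebraMap k K D.a₂ * D.x ^ 2 + algebraMap k K D.a₄ * D.x)
      * D.y⁻¹ - (algebraMap k K D.a₁ * D.x + algebraMap k K D.a₃)) := by
    rw [← D.eqn]
    field_simp
    ring
  have h2 : V.valuation (1 : K) < 1 := by
    rw [e]
    apply lt_one_of_mul V hw
    refine Valuation.map_sub_le _ ?_ ?_
    · rw [map_mul]
      refine mul_le_one' ?_ hw.le
      refine Valuation.map_add_le _ (Valuation.map_add_le _ ?_ ?_) ?_
      · rw [map_pow]; exact pow_le_one' hx _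
      · rw [map_mul, map_pow]; exact mul_le_one' (hk _) (pow_le_one' hx _)
      · rw [map_mul]; exact mul_le_one' (hk _) hx
    · refine Valuation.map_add_le _ ?_ (hk _)
      rw [map_mul]; exact mul_le_one' (hk _) hx
  rw [map_one] at h2
  exact lt_irrefl _ h2

/-- values at the point at infinity -/
theorem x'_lt (hk : ∀ a : k, V.valuation (algebraMap k K a) ≤ 1) (hx : ¬ V.valuation D.x ≤ 1) :
    V.valuation D.x' < 1 ∧ V.valuation (D.s * D.x' + algebraMap k K D.a₃) < 1 := by
  have hx0 := D.x_ne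
  set w := D.x⁻¹ with hw
  set q := D.s * w with hq
  have hwv : V.valuation w < 1 := by
    rw [hw, map_inv₀]
    exact inv_lt_one_of_one_lt₀ (not_le.mp hx)
  have hxw : D.x * w = 1 := mul_inv_cancel₀ hx0
  have rel1 : q * D.s = 1 + algebraMap k K D.a₂ * w + algebraMap k K D.a₄ * w ^ 2
      - algebraMap k K D.a₁ * q - algebraMap k K D.a₃ * w * q := by
    have h1 := D.rel
    have h2 : D.s ^ 2 * D.x = D.x ^ 2 - algebraMap k K D.a₁ * D.s * D.x +
      algebraMap k K D.a₂ * D.x + algebraMap k K D.a₄ - algebraMap k K D.a₃ * D.s := by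
      linear_combination -h1
    have h3 : q * D.s = (D.s ^ 2 * D.x) * w ^ 2 := by
      rw [hq]; linear_combination (-D.s ^ 2 * w) * hxw
    rw [h3, h2, hq]
    linear_combination (D.x * w + 1 - algebraMap k K D.a₁ * D.s * w + algebraMap k K D.a₂ * w) * hxw
  have hs : ¬ V.valuation D.s ≤ 1 := by
    intro hs
    apply hx
    have e : D.x = D.s ^ 2 + algebraMap k K D.a₁ * D.s - algebraMap k K D.a₂
        - algebraMap k K D.a₄ * w + algebraMap k K D.a₃ * (D.s * w) := by
      have h1 := D.rel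
      linear_combination w * h1 - (D.x - D.s ^ 2 - algebraMap k K D.a₁ * D.s
        + algebraMap k K D.a₂) * hxw
    rw [e]
    refine Valuation.map_add_le _ (Valuation.map_sub_le _ (Valuation.map_sub_le _
      (Valuation.map_add_le _ ?_ ?_) (hk _)) ?_) ?_
    · rw [map_pow]; exact pow_le_one' hs _
    · rw [map_mul]; exact mul_le_one' (hk _) hs
    · rw [map_mul]; exact mul_le_one' (hk _) hwv.le
    · rw [map_mul, map_mul]; exact mul_le_one' (hk _) (mul_le_one' hs hwv.le)
  have hs0 : D.s ≠ 0 := by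
    intro h0; rw [h0, map_zero] at hs; exact hs zero_le
  have hw0 : w ≠ 0 := inv_ne_zero hx0
  have hq0 : q ≠ 0 := mul_ne_zero hs0 hw0
  have hqinv : ¬ V.valuation q⁻¹ ≤ 1 := by
    intro hqi
    apply hs
    have e : D.s = q⁻¹ * (1 + algebraMap k K D.a₂ * w + algebraMap k K D.a₄ * w ^ 2)
      - algebraMap k K D.a₁ - algebraMap k K D.a₃ * w := by
      apply mul_left_cancel₀ hq0
      rw [rel1]
      field_simp
    rw [e]
    refine Valuation.map_sub_le _ (Valuation.map_sub_le _ ?_ (hk _)) ?_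
    · rw [map_mul]
      refine mul_le_one' hqi (Valuation.map_add_le _ (Valuation.map_add_le _ (by simp) ?_) ?_)
      · rw [map_mul]; exact mul_le_one' (hk _) hwv.le
      · rw [map_mul, map_pow]; exact mul_le_one' (hk _) (pow_le_one' hwv.le _)
    · rw [map_mul]; exact mul_le_one' (hk _) hwv.le
  have hqv : V.valuation q < 1 := by
    rw [map_inv₀, not_le, one_lt_inv₀ ((Valuation.pos_iff _).mpr hq0)] at hqinv
    exact hqinv
  constructor
  · have e : D.x' = w * algebraMap k K D.a₄ - q * algebraMap k K D.a₃ := by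
      rw [x'_eq, div_eq_mul_inv, ← hw, hq]; ring
    rw [e]
    exact Valuation.map_sub_lt _ (lt_one_of_mul V hwv (hk _)) (lt_one_of_mul V hqv (hk _))
  · have e : D.s * D.x' + algebraMap k K D.a₃ = q * (algebraMap k K D.a₄
        + algebraMap k K D.a₃ * (algebraMap k K D.a₁ + algebraMap k K D.a₃ * w)) -
        w * (algebraMap k K D.a₃ * (algebraMap k K D.a₂ + algebraMap k K D.a₄ * w)) := by
      rw [x'_eq, div_eq_mul_inv, ← hw]
      linear_combination (-algebraMap k K D.a₃) * rel1
    rw [e]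
    refine Valuation.map_sub_lt _ (lt_one_of_mul V hqv ?_) (lt_one_of_mul V hwv ?_)
    · refine Valuation.map_add_le _ (hk _) ?_
      rw [map_mul]
      refine mul_le_one' (hk _) (Valuation.map_add_le _ (hk _) ?_)
      rw [map_mul]; exact mul_le_one' (hk _) hwv.le
    · rw [map_mul]
      refine mul_le_one' (hk _) (Valuation.map_add_le _ (hk _) ?_)
      rw [map_mul]; exact mul_le_one' (hk _) hwv.le

theorem inA_mem (hk : ∀ a : k, V.valuation (algebraMap k K a) ≤ 1) (hx : V.valuation D.x ≤ 1)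
    {f : K} (hf : D.InA f) : V.valuation f ≤ 1 := by
  obtain ⟨p, q, rfl⟩ := hf
  refine Valuation.map_add_le _ (aeval_le_one V hk hx p) ?_
  rw [map_mul]
  exact mul_le_one' (aeval_le_one V hk hx q) (D.y_mem V hk hx)

theorem σ_aeval (p q : k[X]) : D.σ (aeval D.x p + aeval D.x q * D.y) =
    aeval D.x' p + aeval D.x' q * (D.s * D.x') := by
  rw [map_add, map_mul, D.y'_eq, ← aeval_algHom_apply, ← aeval_algHom_apply]
  rfl

theorem σ_sub_lt (hk : ∀ a : k, V.valuation (algebraMap k K a) ≤ 1)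
    (hx : ¬ V.valuation D.x ≤ 1) (p q : k[X]) :
    V.valuation (D.σ (aeval D.x p + aeval D.x q * D.y) -
      algebraMap k K (p.eval 0 - D.a₃ * q.eval 0)) < 1 := by
  obtain ⟨h1, h2⟩ := D.x'_lt V hk hx
  rw [σ_aeval]
  have e : aeval D.x' p + aeval D.x' q * (D.s * D.x') -
      algebraMap k K (p.eval 0 - D.a₃ * q.eval 0) =
      (aeval D.x' p - algebraMap k K (p.eval 0)) +
      (D.s * D.x' + algebraMap k K D.a₃) * aeval D.x' q -
      (aeval D.x' q - algebraMap k K (q.eval 0)) * algebraMap k K D.a₃ := by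
    rw [map_sub, map_mul]; ring
  rw [e]
  refine Valuation.map_sub_lt _ (Valuation.map_add_lt _ (aeval_sub_lt_one V hk h1 p) ?_) ?_
  · exact lt_one_of_mul V h2 (aeval_le_one V hk h1.le q)
  · exact lt_one_of_mul V (aeval_sub_lt_one V hk h1 q) (hk _)

theorem σ_inA_mem (hk : ∀ a : k, V.valuation (algebraMap k K a) ≤ 1)
    (hx : ¬ V.valuation D.x ≤ 1) {f : K} (hf : D.InA f) : V.valuation (D.σ f) ≤ 1 := by
  obtain ⟨p, q, rfl⟩ := hf
  have h := D.σ_sub_lt V hk hx p q
  have := Valuation.map_add_le _ h.le (hk (p.eval 0 - D.a₃ * q.eval 0))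
  rwa [sub_add_cancel] at this

/-- (P1) -/
theorem const_of_inA [IsAlgClosed k] {f : K} (h1 : D.InA f) (h2 : D.InA (D.σ f)) :
    f ∈ (algebraMap k K).range := by
  apply mem_range_of_forall
  intro V hk
  have hk' : ∀ a : k, V.valuation (algebraMap k K a) ≤ 1 := fun a =>
    (V.valuation_le_one_iff _).mpr (hk a)
  rw [← V.valuation_le_one_iff]
  by_cases hx : V.valuation D.x ≤ 1
  · exact D.inA_mem V hk' hx h1
  · have := D.σ_inA_mem V hk' hx h2
    rwa [D.σσ] at this

/-- scaling two polynomials so that they become integral and primitive -/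
theorem exists_scale (V : ValuationSubring k) (p q : k[X]) (h : p ≠ 0 ∨ q ≠ 0) :
    ∃ (c : k) (p₀ q₀ : V[X]), c ≠ 0 ∧ p = C c * p₀.map V.subtype ∧ q = C c * q₀.map V.subtype ∧
      (p₀.map (IsLocalRing.residue V) ≠ 0 ∨ q₀.map (IsLocalRing.residue V) ≠ 0) := by
  classical
  let S : Finset k := p.support.image p.coeff ∪ q.support.image q.coeff
  have hS : S.Nonempty := by
    rcases h with h | h
    · obtain ⟨n, hn⟩ := (Polynomial.support_nonempty.mpr h)
      exact ⟨p.coeff n, Finset.mem_union_left _ (Finset.mem_image_of_mem _ hn)⟩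
    · obtain ⟨n, hn⟩ := (Polynomial.support_nonempty.mpr h)
      exact ⟨q.coeff n, Finset.mem_union_right _ (Finset.mem_image_of_mem _ hn)⟩
  obtain ⟨c, hcS, hc⟩ := S.exists_max_image V.valuation hS
  have hcne : c ≠ 0 ∧ ((∃ n, p.coeff n = c) ∨ ∃ n, q.coeff n = c) := by
    rcases Finset.mem_union.mp hcS with h1 | h1 <;>
      obtain ⟨n, hn, hn'⟩ := Finset.mem_image.mp h1
    · exact ⟨by rw [← hn']; exact Polynomial.mem_support_iff.mp hn, Or.inl ⟨n, hn'⟩⟩
    · exact ⟨by rw [← hn']; exact Polynomial.mem_support_iff.mp hn, Or.inr ⟨n, hn'⟩⟩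
  obtain ⟨hc0, hcc⟩ := hcne
  have hmem : ∀ z ∈ S, c⁻¹ * z ∈ V := by
    intro z hz
    rw [← V.valuation_le_one_iff, map_mul, map_inv₀]
    exact inv_mul_le_one_of_le₀ (hc z hz) zero_le
  have key : ∀ r : k[X], (∀ n ∈ r.support, r.coeff n ∈ S) →
      ∃ r₀ : V[X], r = C c * r₀.map V.subtype := by
    intro r hr
    have : C c⁻¹ * r ∈ lifts V.subtype := by
      rw [lifts_iff_coeff_lifts]
      intro n
      rw [coeff_C_mul]
      by_cases hn : n ∈ r.support
      · exact ⟨⟨_, hmem _ (hr n hn)⟩, rfl⟩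
      · rw [Polynomial.notMem_support_iff] at hn
        exact ⟨0, by rw [hn, mul_zero, map_zero]⟩
    obtain ⟨r₀, hr₀⟩ := (mem_lifts _).mp this
    refine ⟨r₀, ?_⟩
    rw [hr₀, ← mul_assoc, ← C_mul, mul_inv_cancel₀ hc0, C_1, one_mul]
  obtain ⟨p₀, hp₀⟩ := key p (fun n hn => Finset.mem_union_left _ (Finset.mem_image_of_mem _ hn))
  obtain ⟨q₀, hq₀⟩ := key q (fun n hn => Finset.mem_union_right _ (Finset.mem_image_of_mem _ hn))
  refine ⟨c, p₀, q₀, hc0, hp₀, hq₀, ?_⟩
  have key2 : ∀ (r : k[X]) (r₀ : V[X]), r = C c * r₀.map V.subtype → (∃ n, r.coeff n = c) →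
      r₀.map (IsLocalRing.residue V) ≠ 0 := by
    rintro r r₀ hr ⟨n, hn⟩ h0
    have h1 : r₀.coeff n = 1 := by
      rw [hr, coeff_C_mul, coeff_map] at hn
      have h2 : V.subtype (r₀.coeff n) = 1 := by
        apply mul_left_cancel₀ hc0
        rw [hn, mul_one]
      exact Subtype.ext h2
    have h2 := congrArg (fun z => coeff z n) h0
    simp only [coeff_map, h1, map_one, coeff_zero] at h2
    exact one_ne_zero h2
  rcases hcc with hcc | hcc
  · exact Or.inl (key2 p p₀ hp₀ hcc)
  · exact Or.inr (key2 q q₀ hq₀ hcc)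

theorem norm_eq (p q : k[X]) : ∃ N : k[X],
    (aeval D.x p + aeval D.x q * D.y) * D.σ (aeval D.x p + aeval D.x q * D.y) = aeval D.s N := by
  obtain ⟨N, hN⟩ := NsPair.exists_norm D.a₁ D.a₂ D.a₃ D.a₄ p q
  refine ⟨N, ?_⟩
  rw [σ_aeval, D.y_eq]
  exact hN K (algebraMap k K) D.s D.x D.x' D.rel D.x'_eq'

/-- the value at the second point is not zero -/
theorem value_ne_zero [IsAlgClosed k] (P : NsParam.Param k) (h1 : D.a₁ = 1)
    (h2 : D.a₂ = 2 * (P.al * P.be)) (h3 : D.a₃ = -(P.al * P.be))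
    (h4 : D.a₄ = (P.al * P.be) ^ 2 + P.al * P.be - P.la) (p q : k[X]) (hpq : p ≠ 0 ∨ q ≠ 0)
    (c : k) (hc : (aeval D.x p + aeval D.x q * D.y) * D.σ (aeval D.x p + aeval D.x q * D.y) =
      algebraMap k K c) : p.eval 0 - D.a₃ * q.eval 0 ≠ 0 := by
  obtain ⟨d, p₀, q₀, hd, hp, hq, hne⟩ := exists_scale P.V p q hpq
  have halV : P.al ∈ P.V := P.hEV _ P.hal
  have hbeV : P.be ∈ P.V := P.hEV _ P.hbe
  have hlaV : P.la ∈ P.V := P.V.nonunits_subset P.hla
  let al : P.V := ⟨P.al, halV⟩
  let be : P.V := ⟨P.be, hbeV⟩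
  let la : P.V := ⟨P.la, hlaV⟩
  have hlam : IsLocalRing.residue P.V la = 0 := by
    rw [IsLocalRing.residue_eq_zero_iff, ← ValuationSubring.coe_mem_nonunits_iff]
    exact P.hla
  obtain ⟨N, hN⟩ := NsPair.exists_norm (1 : P.V) (2 * (al * be)) (-(al * be))
    ((al * be) ^ 2 + al * be - la) p₀ q₀
  -- over K
  have e1 : N.map P.V.subtype = C (d⁻¹ ^ 2 * c) := by
    have hs := hN K ((algebraMap k K).comp P.V.subtype) D.s D.x D.x' (by
      rw [D.rel, h1, h2, h3, h4]
      simp only [RingHom.comp_apply, map_one, map_mul, map_ofNat, map_neg, map_sub, map_add,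
        map_pow]
      rfl) (by
      rw [D.x'_eq', h1, h2]
      simp only [RingHom.comp_apply, map_one, map_mul, map_ofNat]
      rfl)
    rw [← eval₂_map, ← eval₂_map, ← eval₂_map, ← eval₂_map, ← eval₂_map, ← aeval_def, ← aeval_def,
      ← aeval_def, ← aeval_def, ← aeval_def, ← σ_aeval, ← D.y_eq] at hs
    rw [← sub_eq_zero]
    apply D.s_trans
    rw [map_sub, ← hs, sub_eq_zero, aeval_C, map_mul, map_pow, ← hc, hp, hq]
    simp only [map_mul, aeval_C, map_add, AlgEquiv.commutes]
    have hd' : algebraMap k K d ≠ 0 := by rwa [Ne, map_eq_zero]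
    rw [map_inv₀]
    field_simp
  have e2 : N = C (N.coeff 0) := by
    apply Polynomial.map_injective P.V.subtype Subtype.val_injective
    rw [map_C, e1]
    congr 1
    have := congrArg (fun z => coeff z 0) e1
    simpa using this.symm
  -- over the residue field
  have hval : ∀ z : k, z ∈ P.E → z ≠ 0 → ∀ hz : z ∈ P.V, IsLocalRing.residue P.V ⟨z, hz⟩ ≠ 0 := by
    intro z hzE hz0 hz h0
    rw [IsLocalRing.residue_eq_zero_iff, ← ValuationSubring.coe_mem_nonunits_iff] at h0
    rw [ValuationSubring.mem_nonunits_iff_or] at h0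
    rcases h0 with h0 | h0
    · exact hz0 h0
    · exact h0 (P.hEV _ (inv_mem hzE))
  have hs := hN (NsNodal.F (IsLocalRing.ResidueField P.V)) ((algebraMap (IsLocalRing.ResidueField P.V) (NsNodal.F (IsLocalRing.ResidueField P.V))).comp (IsLocalRing.residue P.V))
    (NsNodal.s (IsLocalRing.residue P.V al * IsLocalRing.residue P.V be)) NsNodal.x
    (NsNodal.x' (IsLocalRing.residue P.V al * IsLocalRing.residue P.V be)) (by
      rw [NsNodal.x_rel (IsLocalRing.residue P.V al * IsLocalRing.residue P.V be)]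
      simp only [RingHom.comp_apply, map_one, map_mul, map_ofNat, map_neg, map_sub, map_add,
        map_pow, hlam, map_zero, sub_zero]) (by
      rw [NsNodal.x'_eq]
      simp only [RingHom.comp_apply, map_one, map_mul, map_ofNat])
  rw [e2, eval₂_C, ← eval₂_map, ← eval₂_map, ← eval₂_map, ← eval₂_map, ← aeval_def, ← aeval_def,
    ← aeval_def, ← aeval_def] at hs
  have key := NsNodal.main (κ := IsLocalRing.ResidueField P.V) (al := IsLocalRing.residue P.V al)
    (be := IsLocalRing.residue P.V be) (by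
      rw [← map_add, ← map_one (IsLocalRing.residue P.V), ← map_neg]
      congr 1
      exact Subtype.ext P.hab)
    (hval _ P.hal P.hal0 _) (hval _ P.hbe P.hbe0 _) (by
      intro n hn h
      rw [← map_pow, ← map_pow, ← sub_eq_zero, ← map_sub] at h
      exact hval (P.al ^ n - P.be ^ n) (sub_mem (pow_mem P.hal n) (pow_mem P.hbe n))
        (sub_ne_zero.mpr (P.hpow n hn)) (P.V.toSubring.sub_mem (pow_mem halV n) (pow_mem hbeV n)) h)
    hne _ hs
  intro h0
  apply key
  have e3 : p₀.eval 0 + q₀.eval 0 * (al * be) = 0 := by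
    apply Subtype.val_injective
    apply mul_left_cancel₀ hd
    have e4 : p.eval 0 = d * P.V.subtype (p₀.eval 0) := by
      rw [hp, eval_mul, eval_C, ← map_zero P.V.subtype, eval_map_apply]
    have e5 : q.eval 0 = d * P.V.subtype (q₀.eval 0) := by
      rw [hq, eval_mul, eval_C, ← map_zero P.V.subtype, eval_map_apply]
    rw [e4, e5, h3] at h0
    change d * P.V.subtype (p₀.eval 0 + q₀.eval 0 * (al * be)) = d * 0
    rw [map_add, map_mul, mul_zero, ← h0]
    change _ = d * P.V.subtype (p₀.eval 0) - -(P.V.subtype (al * be)) * (d * P.V.subtype (q₀.eval 0))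
    ring
  have e6 := congrArg (IsLocalRing.residue P.V) e3
  rw [map_add, map_mul, map_mul, map_zero] at e6
  rw [← map_zero (IsLocalRing.residue P.V), eval_map_apply, eval_map_apply]
  exact e6

/-- (P2) -/
theorem const_of_unit [IsAlgClosed k] (P : NsParam.Param k) (h1 : D.a₁ = 1)
    (h2 : D.a₂ = 2 * (P.al * P.be)) (h3 : D.a₃ = -(P.al * P.be))
    (h4 : D.a₄ = (P.al * P.be) ^ 2 + P.al * P.be - P.la) {u : K} (hu0 : u ≠ 0) (hu : D.InA u)
    (hv : D.InA (D.σ u)⁻¹) : u ∈ (algebraMap k K).range := by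
  obtain ⟨p, q, hpq⟩ := hu
  obtain ⟨p₂, q₂, hpq₂⟩ := hv
  obtain ⟨N, hN⟩ := D.norm_eq p q
  obtain ⟨N₂, hN₂⟩ := D.norm_eq p₂ q₂
  rw [← hpq] at hN
  rw [← hpq₂] at hN₂
  have hσu : D.σ u ≠ 0 := by rwa [Ne, map_eq_zero]
  have hNN : N * N₂ = 1 := by
    rw [← sub_eq_zero]
    apply D.s_trans
    rw [map_sub, map_mul, ← hN, ← hN₂, map_one, map_inv₀, D.σσ]
    field_simp
    ring
  have hNu : IsUnit N := IsUnit.of_mul_eq_one _ hNN
  obtain ⟨c, hc, rfl⟩ := Polynomial.isUnit_iff.mp hNu
  have hc0 : c ≠ 0 := hc.ne_zero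
  rw [aeval_C] at hN
  have hne : p ≠ 0 ∨ q ≠ 0 := by
    by_contra hcon
    push Not at hcon
    rw [hcon.1, hcon.2, map_zero, zero_mul, add_zero] at hpq
    exact hu0 hpq
  have hval := D.value_ne_zero P h1 h2 h3 h4 p q hne c (by rw [← hpq]; exact hN)
  apply mem_range_of_forall
  intro V hk
  have hk' : ∀ a : k, V.valuation (algebraMap k K a) ≤ 1 := fun a =>
    (V.valuation_le_one_iff _).mpr (hk a)
  rw [← V.valuation_le_one_iff]
  by_cases hx : V.valuation D.x ≤ 1
  · exact D.inA_mem V hk' hx ⟨p, q, hpq⟩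
  · have hlt := D.σ_sub_lt V hk' hx p q
    rw [← hpq] at hlt
    have e : u = algebraMap k K c * (D.σ u)⁻¹ := by
      rw [← hN]; field_simp
    have h5 : V.valuation (algebraMap k K (p.eval 0 - D.a₃ * q.eval 0)) = 1 := by
      apply le_antisymm (hk' _)
      have h6 := hk' (p.eval 0 - D.a₃ * q.eval 0)⁻¹
      rw [map_inv₀, map_inv₀] at h6
      have h7 : 0 < V.valuation (algebraMap k K (p.eval 0 - D.a₃ * q.eval 0)) := by
        rw [Valuation.pos_iff, Ne, map_eq_zero]; exact hval
      exact (inv_le_one₀ h7).mp h6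
    have h6 : V.valuation (D.σ u) = 1 := by
      have h7 : D.σ u = algebraMap k K (p.eval 0 - D.a₃ * q.eval 0) +
        (D.σ u - algebraMap k K (p.eval 0 - D.a₃ * q.eval 0)) := by ring
      rw [h7, Valuation.map_add_eq_of_lt_left, h5]
      rw [h5]; exact hlt
    rw [e, map_mul, map_inv₀, h6, inv_one, mul_one]
    exact hk' c

end Dat

end K629.NsField
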