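import Groth.Agent.AlgSp.K629.NsY

/-!
# The quotient is not a scheme
-/

set_option autoImplicit false
universe u
open CategoryTheory CategoryTheory.Limits AlgebraicGeometry TensorProduct Polynomial

namespace K629.NsNonRep

open NsCone NsLam NsFun NsWeier NsCurve NsNormal NsYo NsConeR NsU NsY Groth.Agent

variable {k : Type u} [Field k] {γ : k} [IsAlgClosed k] {P : NsParam.Param k}
  {D : NsCurve.Dat k P} {V : UDat k γ P D} {hγ : γ ≠ 0}

omit [IsAlgClosed k] in
theorem ιΛ_inj (γ : k) (P : NsParam.Param k) : Function.Injective (ιΛ γ P) := by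
  have h1 := Module.Flat.rTensor_preserves_injective_linearMap (M := Lam γ)
    (IsScalarTower.toAlgHom k (A P) (K P)).toLinearMap (IsFractionRing.injective (A P) (K P))
  exact h1

theorem Φ_inj (γ : k) (P : NsParam.Param k) : Function.Injective (Φ γ P) :=
  (IsFractionRing.injective (KΛ γ P) (L γ P)).comp ((ιΛ_inj γ P).comp (ιB_inj γ P))

/-- the restriction of `Φ` to the cone ring -/
noncomputable def Φc (γ : k) (P : NsParam.Param k) : cn γ P →+* L γ P :=
  (Φ γ P).comp (cn γ P).val.toRingHom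

theorem gY_y (V : UDat k γ P D) : gY γ D ≫ V.y = Spec.map (CommRingCat.ofHom (Φc γ P)) ≫ V.c := by
  rw [gY, Category.assoc, ← V.w, ← Category.assoc, ← Spec.map_comp, ← CommRingCat.ofHom_comp]
  rfl

omit [IsAlgClosed k] in
theorem xA_notMem (P : NsParam.Param k) : xA P ∉ (algebraMap k (A P)).range := by
  rintro ⟨c, hc⟩
  have h := (indepA P (X - C c) 0 (by
    rw [map_sub, aeval_X, aeval_C, hc, sub_self, map_zero, zero_mul, add_zero])).1
  exact X_sub_C_ne_zero c h

attribute [instance] YDat.proper YDat.integral YDat.openI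

theorem no_etale (YD : YDat hγ V) (Z : Scheme.{u}) (p : YD.Y ⟶ Z) [Etale p]
    (h : YD.τ ≫ p = p) : False := by
  let v₀ : SC γ P := ⟨vert γ (xA P), inferInstance⟩
  let m : SC γ P ⟶ YD.Y := V.c ≫ YD.i₁
  let p' : SC γ P ⟶ Z := m ≫ p
  let O := (SC γ P).presheaf.stalk v₀
  let _ : Algebra (cn γ P) O := StructureSheaf.stalkAlgebra (cn γ P) v₀
  have hloc : IsLocalization.AtPrime O (vert γ (xA P)) :=
    StructureSheaf.IsLocalization.to_stalk (cn γ P) v₀
  have hΦc : Function.Injective (Φc γ P) := (Φ_inj γ P).comp Subtype.val_injective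
  let Θ : O →+* L γ P := IsLocalization.lift (M := (vert γ (xA P)).primeCompl) (g := Φc γ P) (by
    rintro ⟨G, hG⟩
    apply Ne.isUnit
    change Φc γ P G ≠ 0
    rw [Ne, map_eq_zero_iff _ hΦc]
    rintro rfl
    exact hG (zero_mem _))
  have hΘ : ∀ b : cn γ P, Θ (algebraMap (cn γ P) O b) = Φ γ P b := fun b =>
    IsLocalization.lift_eq _ b
  -- the generic point
  have hgen : Spec.map (CommRingCat.ofHom Θ) ≫ (SC γ P).fromSpecStalk v₀ =
      Spec.map (CommRingCat.ofHom (Φc γ P)) := by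
    have h1 : (SC γ P).fromSpecStalk v₀ =
        Spec.map (CommRingCat.ofHom (algebraMap (cn γ P) O)) := Spec.fromSpecStalk_eq' _ _
    rw [h1, specMap_comp]
    congr 2
    apply RingHom.ext
    intro b
    exact hΘ b
  let st := p'.stalkMap v₀
  have hst : Spec.map (CommRingCat.ofHom (Θ.comp st.hom)) ≫ Z.fromSpecStalk (p' v₀) =
      gY γ D ≫ V.y ≫ YD.i₁ ≫ p := by
    have h1 : Spec.map st ≫ Z.fromSpecStalk (p' v₀) = (SC γ P).fromSpecStalk v₀ ≫ p' :=
      Scheme.SpecMap_stalkMap_fromSpecStalk p'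
    rw [← specMap_comp]
    change (Spec.map (CommRingCat.ofHom Θ) ≫ Spec.map st) ≫ _ = _
    rw [Category.assoc, h1, ← Category.assoc, hgen, ← Category.assoc (gY γ D), gY_y]
    simp only [p', m, Category.assoc]
  have hinv : (ρL γ P hγ).comp (Θ.comp st.hom) = Θ.comp st.hom := by
    apply specMap_inj
    apply (cancel_mono (Z.fromSpecStalk (p' v₀))).mp
    rw [← specMap_comp, Category.assoc, hst, ← Category.assoc, ← gY_ρ, Category.assoc,
      ← Category.assoc (ρ γ D hγ), ← Category.assoc (ρ γ D hγ ≫ V.y), Category.assoc (ρ γ D hγ),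
      ← YD.w, Category.assoc, Category.assoc, h]
  -- the unramified property
  have hmax : (IsLocalRing.maximalIdeal (Z.presheaf.stalk (p' v₀))).map st.hom =
      IsLocalRing.maximalIdeal O := by
    have hess : st.hom.EssFiniteType := LocallyOfFiniteType.stalkMap p' v₀
    have hunr : st.hom.FormallyUnramified := FormallyUnramified.stalkMap p' v₀
    let _ : Algebra (Z.presheaf.stalk (p' v₀)) O := st.hom.toAlgebra
    have : IsLocalHom (algebraMap (Z.presheaf.stalk (p' v₀)) O) :=
      inferInstanceAs (IsLocalHom st.hom)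
    have : Algebra.EssFiniteType (Z.presheaf.stalk (p' v₀)) O := hess
    have : Algebra.FormallyUnramified (Z.presheaf.stalk (p' v₀)) O := hunr
    exact Algebra.FormallyUnramified.map_maximalIdeal (R := Z.presheaf.stalk (p' v₀)) (S := O)
  have hic := NsNormal.isIntegrallyClosed P
  apply contra (jK γ P) γ hγ (jΛ γ P (tL γ)) (jΛ γ P (eL γ)) (ind γ P) (heq γ P) (σ P)
    (fun z => (dat P).σσ z) (ρL γ P hγ) (ρL_jK γ P hγ) (ρt γ P hγ) (ρe γ P hγ)
    (const_of_inA P) (const_of_unit P) (Φ γ P) (Φ_j γ P) (Φ_t γ P) (Φ_e γ P) (xA P) (xA_notMem P)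
    (algebraMap (cn γ P) O) (fun G hG => IsLocalization.map_units O (⟨G, hG⟩ :
      (vert γ (xA P)).primeCompl)) (fun z => by
        obtain ⟨⟨H, G⟩, hHG⟩ := IsLocalization.surj (vert γ (xA P)).primeCompl z
        exact ⟨H, G, G.2, hHG⟩)
    (fun H => IsLocalization.AtPrime.to_map_mem_maximal_iff O (vert γ (xA P)) H) Θ hΘ
    (st.hom '' (IsLocalRing.maximalIdeal (Z.presheaf.stalk (p' v₀)) : Set _))
  · rintro _ ⟨w, hw, rfl⟩
    rw [← hmax]
    exact Ideal.mem_map_of_mem _ hw
  · rintro _ ⟨w, hw, rfl⟩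
    exact congrArg (fun z : _ →+* L γ P => z w) hinv
  · rw [← hmax]
    exact le_rfl

end K629.NsNonRep
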