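import Groth.Agent.AlgSp.K629.NsQuot
import Groth.Agent.AlgSp.K629.NsDim
import Groth.Agent.AlgSp.K629.NsNonRep
import Groth.Agent.AlgSp.K625.LqfField
import Groth.Agent.AlgSp.K608.SepAbs
import Groth.Agent.AlgSp.K596.QC2
import Groth.Agent.AlgSp.K596.SepSurj
import Groth.Agent.S10250
import Groth.Agent.S10345
import Groth.Agent.S10350

/-!
# The non-schematic normal proper surface
-/

set_option autoImplicit false
universe u
open CategoryTheory CategoryTheory.Limits AlgebraicGeometry Topology TopologicalSpace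
open AlgSp

namespace K629.NsFin

open NsCone NsLam NsFun NsWeier NsCurve NsNormal NsYo NsConeR NsU NsY Groth.Agent

theorem dim_yon {S : Scheme.{u}} (U : Over S) [QuasiSeparated U.hom] :
    AlgSp.dim ((yon S).obj U) = topologicalKrullDim U.left := by
  have h1 := S10345.result ((ofScheme S).obj U) (S10350.result ((ofScheme S).obj U)
    ((repWith_diag_yon_iff @QuasiCompact U).2 inferInstance))
  refine h1.symm.trans ?_
  exact (IsHomeomorph.topologicalKrullDim_eq _ (Points.schemeHomeo U).isHomeomorph).symm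

theorem dim_of_chart {S : Scheme.{u}} (U : Over S) [QuasiSeparated U.hom] (Z : AlgSp.Space S)
    (π : (yon S).obj U ⟶ Z.obj) (he : RepWith @Etale π) (hs : RepWith @Surjective π) :
    AlgSp.dim Z.obj = topologicalKrullDim U.left := by
  rw [← dim_yon U]
  let f : (ofScheme S).obj U ⟶ Z := ⟨π⟩
  have hf : IsEtaleMor f.hom := fun W φ hφ => (RepWith @Etale).comp_mem _ _ hφ he
  exact (S10250.result f hf (K596.Pts.surjective_of_repWith hs)).symm

theorem irreducible_of_chart {S : Scheme.{u}} (U : Over S) [IrreducibleSpace U.left]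
    (Z : AlgSp.Space S) (π : (yon S).obj U ⟶ Z.obj) (hs : RepWith @Surjective π) :
    IrreducibleSpace (Points Z.obj) := by
  have h1 : Function.Surjective (Points.ofPt π) := by
    intro z
    obtain ⟨x, rfl⟩ := K596.Pts.surjective_of_repWith hs z
    refine ⟨Points.toScheme U x, ?_⟩
    rw [Points.ofPt_eq_map_ofScheme, Points.ofScheme_toScheme]
  exact h1.irreducibleSpace (Points.continuous_ofPt π)

theorem main {k : Type u} [Field k] [IsAlgClosed k] {γ : k} {P : NsParam.Param k}
    {D : NsCurve.Dat k P} {V : UDat k γ P D} {hγ : γ ≠ 0} (YD : YDat hγ V) :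
    ∃ (X : AlgSp.Space (Spec (CommRingCat.of k)))
      (q : X.obj ⟶ (AlgSp.yon (Spec (CommRingCat.of k))).obj (Over.mk (𝟙 _))),
      AlgSp.IsProperMor q ∧ AlgSp.IsIntegralSp X.obj ∧ AlgSp.dim X.obj = 2 ∧
      AlgSp.EtaleLocally (fun U => ∀ u : ↥U, IsDomain ↥(U.presheaf.stalk u) ∧
        IsIntegrallyClosed ↥(U.presheaf.stalk u)) X.obj ∧
      ¬ X.obj.obj.IsRepresentable := by
  have := YD.proper
  have := YD.integral
  let U : Over (Spec (CommRingCat.of k)) := Over.mk YD.p
  have hUp : IsProper U.hom := YD.proper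
  have hUi : IsIntegral U.left := YD.integral
  let τ : U ⟶ U := Over.homMk YD.τ YD.τp
  have hτ : τ ≫ τ = 𝟙 U := by
    ext1
    exact YD.ττ
  obtain ⟨Z, π, he, hs, hπ, hsep, hqs⟩ := NsQuot.exists_quot U inferInstance τ hτ
    (fun F _ x => YD.free F x)
  have hsurj := K596.Pts.surjective_of_repWith hs
  let q : Z.obj ⟶ (AlgSp.yon (Spec (CommRingCat.of k))).obj (Over.mk (𝟙 _)) :=
    (K596.QC2.isTerminalYon _).from Z.obj
  have hcpt : CompactSpace U.left := QuasiCompact.compactSpace_of_compactSpace U.hom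
  refine ⟨Z, q, ⟨K608.SepAbs.isSeparatedMor_of_isSeparatedSp q hsep, ⟨?_, ?_⟩, ?_⟩,
    ⟨⟨U, π, he, hs, inferInstance⟩, S10350.result Z hqs, irreducible_of_chart U Z π hs⟩, ?_,
    ⟨U, π, he, hs, YD.normal⟩, ?_⟩
  · exact K625.LqfField.locP_base_of_chart K597.etLoc_lft q π he hs
      (inferInstanceAs (LocallyOfFiniteType U.hom))
  · exact K596.QC2.isQuasiCompactMor_toBase Z.property ⟨U, π, he, hs, hcpt⟩ q
  · apply K596.SepSurj.isUnivClosedMor_of_precomp hsurj
    obtain ⟨g, hg⟩ := (yon (Spec (CommRingCat.of k))).map_surjective (π ≫ q)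
    rw [← hg, ← K596.Univ.repWith_universallyClosed_iff (representable_yon_map g),
      repWith_yon_map_iff]
    have h1 : g.left = U.hom := by
      have := Over.w g
      simpa using this
    rw [h1]
    infer_instance
  · rw [dim_of_chart U Z π he hs]
    exact NsDim.dim_Y YD
  · rintro ⟨Z', ⟨e⟩⟩
    let i := isoOfRepresentableBy e
    obtain ⟨g, hg⟩ := (yon (Spec (CommRingCat.of k))).map_surjective (π ≫ i.inv)
    have hge : Etale g.left := by
      rw [← repWith_yon_map_iff @Etale g, hg]
      exact MorphismProperty.RespectsIso.postcomp (RepWith @Etale) i.inv π he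
    have hgτ : τ ≫ g = g := by
      apply (yon (Spec (CommRingCat.of k))).map_injective
      rw [Functor.map_comp, hg, ← Category.assoc, hπ]
    exact NsNonRep.no_etale YD Z'.left g.left (congrArg (fun z => z.left) hgτ)

end K629.NsFin
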