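import Groth.Agent.AlgSp.K629.NsLam
import Groth.Agent.Fdesc.TensorDomain

/-!
# The function field of the surface
-/

set_option autoImplicit false
universe u
open Polynomial TensorProduct WeierstrassCurve.Affine

namespace K629.NsFun

open NsCone NsLam NsWeier

variable {k : Type u} [Field k] (γ : k)

section Indep

variable (K : Type u) [Field K] [Algebra k K]

/-- the `k`-basis `t ^ i, t ^ i e` -/
noncomputable def bas : Module.Basis (ℕ × Fin 2) k (R γ) :=
  (Polynomial.basisMonomials k).smulTower (CoordinateRing.basis (WB γ))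

theorem bas_zero (i : ℕ) : bas γ (i, 0) = tR γ ^ i := by
  rw [bas, Module.Basis.smulTower_apply, CoordinateRing.basis_zero, Polynomial.coe_basisMonomials]
  change (monomial i (1 : k)) • (1 : R γ) = _
  rw [← X_pow_eq_monomial, ← aevalR, map_pow, aeval_X]

theorem bas_one (i : ℕ) : bas γ (i, 1) = tR γ ^ i * eR γ := by
  rw [bas, Module.Basis.smulTower_apply, CoordinateRing.basis_one, Polynomial.coe_basisMonomials]
  change (monomial i (1 : k)) • (CoordinateRing.mk (WB γ) X) = _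
  rw [← X_pow_eq_monomial]
  have h : (X ^ i : k[X]) • (CoordinateRing.mk (WB γ) X) =
    ((X ^ i : k[X]) • (1 : R γ)) * CoordinateRing.mk (WB γ) X := by
    rw [smul_mul_assoc, one_mul]
  rw [h, ← aevalR, map_pow, aeval_X]
  rfl

theorem indep (p q : K[X])
    (h : aeval ((1 : K) ⊗ₜ[k] tR γ) p + aeval ((1 : K) ⊗ₜ[k] tR γ) q * ((1 : K) ⊗ₜ[k] eR γ) = 0) :
    p = 0 ∧ q = 0 := by
  classical
  let b := Algebra.TensorProduct.basis K (bas γ)
  have hb := b.linearIndependent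
  rw [linearIndependent_iff'] at hb
  let n := p.natDegree + q.natDegree + 1
  let c : ℕ × Fin 2 → K := fun ij => if ij.2 = 0 then p.coeff ij.1 else q.coeff ij.1
  have h1 : ∑ ij ∈ Finset.range n ×ˢ (Finset.univ : Finset (Fin 2)), c ij • b ij = 0 := by
    rw [Finset.sum_product]
    simp only [Fin.sum_univ_two, c]
    rw [← h]
    rw [aeval_eq_sum_range' (show p.natDegree < n by omega),
      aeval_eq_sum_range' (show q.natDegree < n by omega), Finset.sum_mul, ← Finset.sum_add_distrib]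
    refine Finset.sum_congr rfl fun i _ => ?_
    simp only [b, Algebra.TensorProduct.basis_apply, bas_zero, bas_one, if_true, one_ne_zero,
      if_false]
    rw [Algebra.TensorProduct.tmul_pow, one_pow, smul_mul_assoc,
      Algebra.TensorProduct.tmul_mul_tmul, one_mul]
  have h2 := hb _ c h1
  constructor
  · ext i
    by_cases hi : i < n
    · have := h2 (i, 0) (by simp [hi])
      simpa [c] using this
    · rw [coeff_eq_zero_of_natDegree_lt (by omega), coeff_zero]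
  · ext i
    by_cases hi : i < n
    · have := h2 (i, 1) (by simp [hi])
      simpa [c] using this
    · rw [coeff_eq_zero_of_natDegree_lt (by omega), coeff_zero]

end Indep

section field

variable [IsAlgClosed k] (P : NsParam.Param k) (hγ : γ ≠ 0)

abbrev KΛ := K P ⊗[k] Lam γ

instance : IsDomain (R γ) := inferInstance

omit [IsAlgClosed k] in
theorem t_ne : tR γ ≠ 0 := by
  intro h
  have := (indepR γ X 0 (by rw [aeval_X, h, map_zero, zero_mul, add_zero])).1
  exact X_ne_zero this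

instance : IsDomain (Lam γ) :=
  IsLocalization.isDomain_localization (powers_le_nonZeroDivisors_of_noZeroDivisors (t_ne γ))

theorem R_inj : Function.Injective (algebraMap (R γ) (Lam γ)) :=
  IsLocalization.injective _ (powers_le_nonZeroDivisors_of_noZeroDivisors (t_ne γ))

instance : IsDomain (KΛ γ P) := Groth.Agent.Fdesc.TensorDomain.isDomain_tensorProduct

instance : IsDomain (A P ⊗[k] Lam γ) := Groth.Agent.Fdesc.TensorDomain.isDomain_tensorProduct

instance : IsDomain (B γ (A P)) := Groth.Agent.Fdesc.TensorDomain.isDomain_tensorProduct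

/-- the function field -/
abbrev L := FractionRing (KΛ γ P)

noncomputable def jK : K P →+* L γ P :=
  (algebraMap (KΛ γ P) (L γ P)).comp
    (Algebra.TensorProduct.includeLeft : K P →ₐ[k] KΛ γ P).toRingHom

noncomputable def jΛ : Lam γ →+* L γ P :=
  (algebraMap (KΛ γ P) (L γ P)).comp
    (Algebra.TensorProduct.includeRight : Lam γ →ₐ[k] KΛ γ P).toRingHom

theorem jK_def (z : K P) : jK γ P z =
    algebraMap (KΛ γ P) (L γ P) (z ⊗ₜ[k] (1 : Lam γ)) := rfl

theorem jΛ_def (z : Lam γ) : jΛ γ P z =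
    algebraMap (KΛ γ P) (L γ P) ((1 : K P) ⊗ₜ[k] z) := rfl

theorem jK_algebraMap (c : k) : jK γ P (algebraMap k (K P) c) = jΛ γ P (algebraMap k (Lam γ) c) := by
  simp only [jK, jΛ, RingHom.comp_apply]
  congr 1
  exact ((Algebra.TensorProduct.includeLeft : K P →ₐ[k] KΛ γ P).commutes c).trans
    ((Algebra.TensorProduct.includeRight : Lam γ →ₐ[k] KΛ γ P).commutes c).symm

/-- the involution of `K ⊗ Λ` -/
noncomputable def ρT : KΛ γ P →ₐ[k] KΛ γ P :=
  Algebra.TensorProduct.map (σ P : K P →ₐ[k] K P) (δ γ hγ)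

theorem ρT_inj : Function.Injective (ρT γ P hγ) := by
  have h : (ρT γ P hγ).comp (ρT γ P hγ) = AlgHom.id k _ := by
    apply Algebra.TensorProduct.ext
    · refine AlgHom.ext fun z => ?_
      change ρT γ P hγ (ρT γ P hγ (z ⊗ₜ 1)) = z ⊗ₜ 1
      rw [ρT, Algebra.TensorProduct.map_tmul, Algebra.TensorProduct.map_tmul, map_one, map_one]
      congr 1
      exact (dat P).σσ z
    · refine AlgHom.ext fun z => ?_
      change ρT γ P hγ (ρT γ P hγ (1 ⊗ₜ z)) = 1 ⊗ₜ z
      rw [ρT, Algebra.TensorProduct.map_tmul, Algebra.TensorProduct.map_tmul, map_one, map_one]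
      congr 1
      exact DFunLike.congr_fun (δδ γ hγ) z
  intro x y hxy
  have := congrArg (ρT γ P hγ) hxy
  change (ρT γ P hγ).comp (ρT γ P hγ) x = (ρT γ P hγ).comp (ρT γ P hγ) y at this
  rwa [h] at this

noncomputable def ρL : L γ P →+* L γ P :=
  IsFractionRing.lift (g := (algebraMap (KΛ γ P) (L γ P)).comp (ρT γ P hγ).toRingHom)
    ((IsFractionRing.injective (KΛ γ P) (L γ P)).comp (ρT_inj γ P hγ))

theorem ρL_alg (z : KΛ γ P) : ρL γ P hγ (algebraMap _ _ z) = algebraMap _ _ (ρT γ P hγ z) :=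
  IsFractionRing.lift_algebraMap _ z

theorem ρL_jK (z : K P) : ρL γ P hγ (jK γ P z) = jK γ P (σ P z) := by
  rw [jK_def, jK_def, ρL_alg, ρT, Algebra.TensorProduct.map_tmul, map_one]
  rfl

theorem ρL_jΛ (z : Lam γ) : ρL γ P hγ (jΛ γ P z) = jΛ γ P (δ γ hγ z) := by
  rw [jΛ_def, jΛ_def, ρL_alg, ρT, Algebra.TensorProduct.map_tmul, map_one]

/-- `A ⊗ Λ → K ⊗ Λ` -/
noncomputable def ιΛ : (A P ⊗[k] Lam γ) →ₐ[k] KΛ γ P :=
  Algebra.TensorProduct.map (IsScalarTower.toAlgHom k (A P) (K P)) (AlgHom.id k (Lam γ))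

/-- `A ⊗ R → A ⊗ Λ` -/
noncomputable def ιB : B γ (A P) →ₐ[k] (A P ⊗[k] Lam γ) :=
  Algebra.TensorProduct.map (AlgHom.id k (A P)) (IsScalarTower.toAlgHom k (R γ) (Lam γ))

noncomputable def Φ : B γ (A P) →+* L γ P :=
  (algebraMap (KΛ γ P) (L γ P)).comp ((ιΛ γ P).toRingHom.comp (ιB γ P).toRingHom)

theorem Φ_def (b : B γ (A P)) : Φ γ P b =
    algebraMap (KΛ γ P) (L γ P) (ιΛ γ P (ιB γ P b)) := rfl

theorem ιΛB_tmul (a : A P) (r : R γ) : ιΛ γ P (ιB γ P (a ⊗ₜ[k] r)) =
    algebraMap (A P) (K P) a ⊗ₜ[k] algebraMap (R γ) (Lam γ) r := by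
  rw [ιB, Algebra.TensorProduct.map_tmul, ιΛ, Algebra.TensorProduct.map_tmul]
  rfl

theorem Φ_tmul (a : A P) (r : R γ) : Φ γ P (a ⊗ₜ[k] r) =
    jK γ P (algebraMap (A P) (K P) a) * jΛ γ P (algebraMap (R γ) (Lam γ) r) := by
  rw [Φ_def, ιΛB_tmul, jK_def, jΛ_def, ← map_mul, Algebra.TensorProduct.tmul_mul_tmul, mul_one,
    one_mul]

theorem Φ_j (a : A P) : Φ γ P (algebraMap (A P) (B γ (A P)) a) =
    jK γ P (algebraMap (A P) (K P) a) := by
  have h : algebraMap (A P) (B γ (A P)) a = a ⊗ₜ[k] (1 : R γ) := rfl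
  rw [h, Φ_tmul, map_one, map_one, mul_one]

theorem Φ_t : Φ γ P (tB γ (A P)) = jΛ γ P (tL γ) := by
  rw [tB, Φ_tmul, map_one, map_one, one_mul]
  rfl

theorem Φ_e : Φ γ P (eB γ (A P)) = jΛ γ P (eL γ) := by
  rw [eB, Φ_tmul, map_one, map_one, one_mul]
  rfl

theorem ind (p q : (K P)[X])
    (h : p.eval₂ (jK γ P) (jΛ γ P (tL γ)) + q.eval₂ (jK γ P) (jΛ γ P (tL γ)) * jΛ γ P (eL γ) = 0) :
    p = 0 ∧ q = 0 := by
  apply indep γ (K P) p q
  -- the injection `K ⊗ R → L`
  let m : K P ⊗[k] R γ →ₐ[K P] KΛ γ P :=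
    Algebra.TensorProduct.map (AlgHom.id (K P) (K P)) (IsScalarTower.toAlgHom k (R γ) (Lam γ))
  have hm : Function.Injective m := by
    have h1 := Module.Flat.lTensor_preserves_injective_linearMap (M := K P)
      (IsScalarTower.toAlgHom k (R γ) (Lam γ)).toLinearMap (R_inj γ)
    exact h1
  have hj : ∀ p : (K P)[X], algebraMap (KΛ γ P) (L γ P) (m (aeval ((1 : K P) ⊗ₜ[k] tR γ) p)) =
      p.eval₂ (jK γ P) (jΛ γ P (tL γ)) := by
    intro p
    have h1 : m ((1 : K P) ⊗ₜ[k] tR γ) = 1 ⊗ₜ tL γ := by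
      simp only [m]
      rw [Algebra.TensorProduct.map_tmul, map_one]; rfl
    rw [← aeval_algHom_apply, h1, aeval_def, hom_eval₂]
    rfl
  apply hm
  apply IsFractionRing.injective (KΛ γ P) (L γ P)
  rw [map_add, map_add, map_mul, map_mul, hj, hj, map_zero, map_zero, ← h]
  congr 2

theorem heq : jΛ γ P (eL γ) ^ 2 + jΛ γ P (tL γ) * jΛ γ P (eL γ) =
    jΛ γ P (tL γ) ^ 3 + jK γ P (algebraMap k (K P) γ) * jΛ γ P (tL γ) := by
  rw [jK_algebraMap, ← map_pow, ← map_mul, ← map_add, eqnL, map_add, map_mul, map_pow]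

theorem ρt : ρL γ P hγ (jΛ γ P (tL γ)) * jΛ γ P (tL γ) = jK γ P (algebraMap k (K P) γ) := by
  rw [ρL_jΛ, ← map_mul, δ_t', jK_algebraMap]

theorem ρe : ρL γ P hγ (jΛ γ P (eL γ)) * jΛ γ P (tL γ) ^ 2 =
    -(jK γ P (algebraMap k (K P) γ) * (jΛ γ P (tL γ) + jΛ γ P (eL γ))) := by
  rw [ρL_jΛ, ← map_pow, ← map_mul, δ_e', jK_algebraMap, map_neg, map_mul, map_add]

end field

end K629.NsFun
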