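import Mathlib

/-!
# Rational functions regular at two cone vertices (Gauss lemma argument)
-/

set_option autoImplicit false
universe u
open Polynomial

namespace K629.NsGauss

variable {k A K : Type u} [Field k] [CommRing A] [IsDomain A] [IsIntegrallyClosed A] [Algebra k A]
  [Field K] [Algebra A K] [IsFractionRing A K] [Algebra k K] [IsScalarTower k A K]

theorem reverse_map_inj {R S : Type u} [CommRing R] [CommRing S] (f : R →+* S)
    (hf : Function.Injective f) (p : R[X]) : (p.map f).reverse = p.reverse.map f := by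
  rw [reverse, reverse, natDegree_map_eq_of_injective hf, reflect_map]

theorem leadingCoeff_reverse_of {R : Type u} [CommRing R] [Nontrivial R] (p : R[X])
    (h : p.coeff 0 = 1) : p.reverse.leadingCoeff = 1 := by
  rw [reverse_leadingCoeff, trailingCoeff]
  have : p.natTrailingDegree = 0 := natTrailingDegree_eq_zero.mpr (Or.inr (by rw [h]; exact one_ne_zero))
  rw [this, h]

omit [Algebra k A] [Algebra k K] [IsScalarTower k A K] [Field k] in
theorem coeff_of_dvd (G : A[X]) (hG : G.coeff 0 = 1) (D : K[X]) (hD : D.coeff 0 = 1)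
    (h : D ∣ G.map (algebraMap A K)) (i : ℕ) : ∃ a : A, algebraMap A K a = D.coeff i := by
  obtain ⟨E, hE⟩ := h
  have h1 : D.reverse ∣ G.reverse.map (algebraMap A K) := by
    rw [← reverse_map_inj _ (IsFractionRing.injective A K), hE, reverse_mul_of_domain]
    exact dvd_mul_right _ _
  obtain ⟨g', hg'⟩ := IsIntegrallyClosed.eq_map_mul_C_of_dvd K
    (f := G.reverse) (leadingCoeff_reverse_of G hG) h1
  rw [leadingCoeff_reverse_of D hD, C_1, mul_one] at hg'
  refine ⟨g'.coeff (revAt D.natDegree i), ?_⟩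
  rw [← coeff_map, hg', coeff_reverse, revAt_invol]

variable (σ : K ≃ₐ[k] K) (hσ : ∀ z, σ (σ z) = z)

omit [Algebra k A] [IsScalarTower k A K] in
include hσ in
theorem coeff_of_dvd' (H : A[X]) (hH : H.Monic) (D : K[X])
    (h : D ∣ (H.map (algebraMap A K)).map (σ : K →+* K)) (i : ℕ) :
    ∃ a : A, algebraMap A K a = σ (D.coeff i / D.leadingCoeff) := by
  have hD0 : D ≠ 0 := by
    rintro rfl
    rw [zero_dvd_iff, Polynomial.map_eq_zero_iff σ.injective,
      Polynomial.map_eq_zero_iff (IsFractionRing.injective A K)] at h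
    exact hH.ne_zero h
  have h1 : D.map (σ : K →+* K) ∣ H.map (algebraMap A K) := by
    have h2 := Polynomial.map_dvd (σ : K →+* K) h
    rw [Polynomial.map_map, Polynomial.map_map] at h2
    have h3 : ((σ : K →+* K).comp ((σ : K →+* K).comp (algebraMap A K))) = algebraMap A K := by
      ext z; exact hσ _
    rwa [RingHom.comp_assoc, h3] at h2
  obtain ⟨g', hg'⟩ := IsIntegrallyClosed.eq_map_mul_C_of_dvd K hH h1
  refine ⟨g'.coeff i, ?_⟩
  have h2 := congrArg (fun z => coeff z i) hg'
  simp only [coeff_mul_C, coeff_map] at h2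
  have h3 : (D.map (σ : K →+* K)).leadingCoeff = σ D.leadingCoeff :=
    leadingCoeff_map_of_injective σ.injective _
  rw [h3] at h2
  rw [map_div₀, eq_div_iff (by rw [Ne, map_eq_zero]; exact leadingCoeff_ne_zero.mpr hD0)]
  exact h2

variable (P1 : ∀ f g : A, σ (algebraMap A K f) = algebraMap A K g → f ∈ (algebraMap k A).range)
  (P2 : ∀ f g : A, f ≠ 0 → (σ (algebraMap A K f))⁻¹ = algebraMap A K g →
    f ∈ (algebraMap k A).range)

include hσ P1 P2 in
theorem exists_const_of_dvd (G : A[X]) (hG : G.coeff 0 = 1) (H : A[X]) (hH : H.Monic)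
    (D : K[X]) (hD : D.coeff 0 = 1) (h1 : D ∣ G.map (algebraMap A K))
    (h2 : D ∣ (H.map (algebraMap A K)).map (σ : K →+* K)) :
    ∃ d : k[X], d.map (algebraMap k K) = D := by
  have hD0 : D ≠ 0 := by
    rintro rfl
    rw [coeff_zero] at hD
    exact zero_ne_one hD
  have hl : D.leadingCoeff ≠ 0 := leadingCoeff_ne_zero.mpr hD0
  obtain ⟨u, hu⟩ := coeff_of_dvd G hG D hD h1 D.natDegree
  have hu' : algebraMap A K u = D.leadingCoeff := hu
  have hu0 : u ≠ 0 := by
    rintro rfl
    rw [map_zero] at hu'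
    exact hl hu'.symm
  obtain ⟨v, hv⟩ := coeff_of_dvd' σ hσ H hH D h2 0
  rw [hD, one_div, map_inv₀, ← hu'] at hv
  obtain ⟨c, hc⟩ := P2 u v hu0 hv.symm
  have key : ∀ i, D.coeff i ∈ (algebraMap k K).range := by
    intro i
    obtain ⟨a, ha⟩ := coeff_of_dvd G hG D hD h1 i
    obtain ⟨b, hb⟩ := coeff_of_dvd' σ hσ H hH D h2 i
    have hc' : D.leadingCoeff = algebraMap k K c := by
      rw [← hu', ← hc, ← IsScalarTower.algebraMap_apply]
    have h3 : σ (algebraMap A K a) = algebraMap A K (algebraMap k A c * b) := by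
      rw [map_mul, hb, map_div₀, ha, hc', ← IsScalarTower.algebraMap_apply, AlgEquiv.commutes,
        mul_div_cancel₀]
      rw [← hc']; exact hl
    obtain ⟨c', hc'⟩ := P1 a _ h3
    refine ⟨c', ?_⟩
    rw [← ha, ← hc', ← IsScalarTower.algebraMap_apply]
  have : D ∈ lifts (algebraMap k K) := by
    rw [lifts_iff_coeff_lifts]
    exact key
  exact (mem_lifts _).mp this

include hσ P1 P2 in
/-- the reduced denominator has constant coefficients -/
theorem exists_den (G : A[X]) (hG : G.coeff 0 = 1) (H : A[X]) (hH : H.Monic)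
    (F F₁ : K[X]) (h : F * (H.map (algebraMap A K)).map (σ : K →+* K) =
      G.map (algebraMap A K) * F₁) :
    ∃ (d : k[X]) (E : K[X]), d.coeff 0 = 1 ∧ IsCoprime E (d.map (algebraMap k K)) ∧
      F * d.map (algebraMap k K) = G.map (algebraMap A K) * E := by
  classical
  set G' := G.map (algebraMap A K) with hG'
  have hG'0 : G' ≠ 0 := by
    intro h0
    have := congrArg (fun z => coeff z 0) h0
    simp only [hG', coeff_map, hG, map_one, coeff_zero] at this
    exact one_ne_zero this
  obtain ⟨g, F₀, D₀, a, b, hF₀, hD₀, hab⟩ : ∃ g F₀ D₀ a b : K[X],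
      F = g * F₀ ∧ G' = g * D₀ ∧ F * a + G' * b = g := by
    obtain ⟨F₀, hF₀⟩ := EuclideanDomain.gcd_dvd_left F G'
    obtain ⟨D₀, hD₀⟩ := EuclideanDomain.gcd_dvd_right F G'
    exact ⟨_, F₀, D₀, _, _, hF₀, hD₀, (EuclideanDomain.gcd_eq_gcd_ab F G').symm⟩
  have hg0 : g ≠ 0 := by
    intro h0
    rw [h0, zero_mul] at hD₀
    exact hG'0 hD₀
  have hcop : IsCoprime F₀ D₀ := by
    refine ⟨a, b, ?_⟩
    apply mul_left_cancel₀ hg0
    linear_combination hab - a * hF₀ - b * hD₀
  have hD₀c : D₀.coeff 0 ≠ 0 := by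
    intro h0
    have := congrArg (fun z => coeff z 0) hD₀
    simp only [mul_coeff_zero, h0, mul_zero, hG', coeff_map, hG, map_one] at this
    exact one_ne_zero this
  let e : K := (D₀.coeff 0)⁻¹
  have he : e ≠ 0 := inv_ne_zero hD₀c
  let D : K[X] := C e * D₀
  have hDc : D.coeff 0 = 1 := by
    simp only [D, coeff_C_mul]
    exact inv_mul_cancel₀ hD₀c
  have hDG : D ∣ G' := by
    refine ⟨C e⁻¹ * g, ?_⟩
    have : (C e * C e⁻¹ : K[X]) = 1 := by rw [← C_mul, mul_inv_cancel₀ he, C_1]
    simp only [D]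
    linear_combination hD₀ - (g * D₀) * this
  have hDH : D ∣ (H.map (algebraMap A K)).map (σ : K →+* K) := by
    have h1 : D₀ ∣ F₀ * (H.map (algebraMap A K)).map (σ : K →+* K) := by
      refine ⟨F₁, ?_⟩
      apply mul_left_cancel₀ hg0
      linear_combination h - ((H.map (algebraMap A K)).map (σ : K →+* K)) * hF₀ + F₁ * hD₀
    have h2 := hcop.symm.dvd_of_dvd_mul_left h1
    have h3 : IsUnit (C e : K[X]) := isUnit_C.mpr (Ne.isUnit he)
    exact (h3.mul_left_dvd).mpr h2
  obtain ⟨d, hd⟩ := exists_const_of_dvd σ hσ P1 P2 G hG H hH D hDc hDG hDH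
  refine ⟨d, C e * F₀, ?_, ?_, ?_⟩
  · have := congrArg (fun z => coeff z 0) hd
    simp only [coeff_map, hDc] at this
    exact (algebraMap k K).injective (by rw [this, map_one])
  · rw [hd]
    have h3 : IsUnit (C e : K[X]) := isUnit_C.mpr (Ne.isUnit he)
    exact (isCoprime_mul_unit_left h3 F₀ D₀).mpr hcop
  · rw [hd]
    have e1 : F * D₀ = G' * F₀ := by
      linear_combination D₀ * hF₀ - F₀ * hD₀
    simp only [D]
    linear_combination (C e) * e1

include hσ P1 P2 in
/-- **Gauss lemma argument**: a rational function of the form `F/G = F₁/H^σ` is constant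
in the direction of `K`. -/
theorem main [Infinite k] (G F : A[X]) (hG : G.coeff 0 = 1) (c₀ : k)
    (hF : F.coeff 0 = algebraMap k A c₀) (H F₁ : A[X]) (hH : H.Monic) (c₁ : k)
    (hdeg : F₁.natDegree ≤ H.natDegree) (hF₁ : F₁.coeff H.natDegree = algebraMap k A c₁)
    (h : F.map (algebraMap A K) * (H.map (algebraMap A K)).map (σ : K →+* K) =
      G.map (algebraMap A K) * (F₁.map (algebraMap A K)).map (σ : K →+* K)) :
    ∃ d e : k[X], d ≠ 0 ∧ F.map (algebraMap A K) * d.map (algebraMap k K) =
      G.map (algebraMap A K) * e.map (algebraMap k K) := by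
  classical
  obtain ⟨d, E, hd, hcop, hdE⟩ := exists_den σ hσ P1 P2 G hG H hH _ _ h
  -- a constant avoiding two values
  obtain ⟨c, hc⟩ : ∃ c : k, c ∉ ({-c₀, -c₁} : Finset k) := Infinite.exists_notMem_finset _
  simp only [Finset.mem_insert, Finset.mem_singleton, not_or] at hc
  have hc0 : c₀ + c ≠ 0 := fun h0 => hc.1 (by linear_combination h0)
  have hc1 : c₁ + c ≠ 0 := fun h0 => hc.2 (by linear_combination h0)
  let a0 : A := algebraMap k A (c₀ + c)⁻¹
  let a1 : A := algebraMap k A (c₁ + c)⁻¹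
  let G₂ : A[X] := C a0 * (F + C (algebraMap k A c) * G)
  let H₂ : A[X] := C a1 * (F₁ + C (algebraMap k A c) * H)
  have hG₂ : G₂.coeff 0 = 1 := by
    simp only [G₂, a0, coeff_C_mul, coeff_add, hF, hG, mul_one]
    rw [← map_add, ← map_mul, inv_mul_cancel₀ hc0, map_one]
  have hHl : H.coeff H.natDegree = 1 := hH
  have hH₂c : H₂.coeff H.natDegree = 1 := by
    simp only [H₂, a1, coeff_C_mul, coeff_add, hF₁, hHl, mul_one]
    rw [← map_add, ← map_mul, inv_mul_cancel₀ hc1, map_one]
  have hH₂d : H₂.natDegree ≤ H.natDegree := by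
    refine (natDegree_C_mul_le _ _).trans ?_
    refine (natDegree_add_le _ _).trans (max_le hdeg (natDegree_C_mul_le _ _))
  have hH₂ : H₂.Monic := monic_of_natDegree_le_of_coeff_eq_one _ hH₂d hH₂c
  -- `G / (F + cG)`
  have key : (C (algebraMap k K (c₀ + c)⁻¹) * G.map (algebraMap A K)) *
      (H₂.map (algebraMap A K)).map (σ : K →+* K) = G₂.map (algebraMap A K) *
        (C (algebraMap k K (c₁ + c)⁻¹) * (H.map (algebraMap A K)).map (σ : K →+* K)) := by
    simp only [G₂, H₂, a0, a1, Polynomial.map_mul, Polynomial.map_add, map_C,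
      ← IsScalarTower.algebraMap_apply, RingHom.coe_coe, AlgEquiv.commutes]
    linear_combination (-(C (algebraMap k K (c₀ + c)⁻¹)) * C (algebraMap k K (c₁ + c)⁻¹)) * h
  obtain ⟨d₂, E₂, hd₂, hcop₂, hdE₂⟩ := exists_den σ hσ P1 P2 G₂ hG₂ H₂ hH₂ _ _ key
  -- comparison
  have hG'0 : G.map (algebraMap A K) ≠ 0 := by
    intro h0
    have := congrArg (fun z => coeff z 0) h0
    simp only [coeff_map, hG, map_one, coeff_zero] at this
    exact one_ne_zero this
  have e1 : C (algebraMap k K (c₀ + c)⁻¹) * d.map (algebraMap k K) * d₂.map (algebraMap k K) =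
      C (algebraMap k K (c₀ + c)⁻¹) * (E + C (algebraMap k K c) * d.map (algebraMap k K)) * E₂ := by
    apply mul_left_cancel₀ hG'0
    have e2 : G₂.map (algebraMap A K) = C (algebraMap k K (c₀ + c)⁻¹) *
        (F.map (algebraMap A K) + C (algebraMap k K c) * G.map (algebraMap A K)) := by
      simp only [G₂, a0, Polynomial.map_mul, Polynomial.map_add, map_C,
        ← IsScalarTower.algebraMap_apply]
    rw [e2] at hdE₂
    linear_combination (d.map (algebraMap k K)) * hdE₂ +
      (C (algebraMap k K (c₀ + c)⁻¹) * E₂) * hdE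
  have hcC : (C (algebraMap k K (c₀ + c)⁻¹) : K[X]) ≠ 0 := by
    rw [Ne, C_eq_zero, map_eq_zero]; exact inv_ne_zero hc0
  have e3 : d.map (algebraMap k K) * d₂.map (algebraMap k K) =
      (E + C (algebraMap k K c) * d.map (algebraMap k K)) * E₂ := by
    apply mul_left_cancel₀ hcC
    linear_combination e1
  have hcop' : IsCoprime (E + C (algebraMap k K c) * d.map (algebraMap k K))
      (d.map (algebraMap k K)) := by
    have := hcop.add_mul_right_left (C (algebraMap k K c))
    simpa [mul_comm] using this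
  have hdvd1 : (E + C (algebraMap k K c) * d.map (algebraMap k K)) ∣ d₂.map (algebraMap k K) :=
    hcop'.dvd_of_dvd_mul_left ⟨E₂, e3⟩
  have hdvd2 : d₂.map (algebraMap k K) ∣
      (E + C (algebraMap k K c) * d.map (algebraMap k K)) :=
    hcop₂.symm.dvd_of_dvd_mul_right ⟨d.map (algebraMap k K), by rw [← e3]; ring⟩
  have hassoc : Associated (d₂.map (algebraMap k K))
      (E + C (algebraMap k K c) * d.map (algebraMap k K)) := associated_of_dvd_dvd hdvd2 hdvd1
  obtain ⟨w, hw⟩ := hassoc
  obtain ⟨r, hr, hr'⟩ := Polynomial.isUnit_iff.mp w.isUnit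
  rw [← hr'] at hw
  -- the constant term
  have hEc : E.coeff 0 = algebraMap k K c₀ := by
    have := congrArg (fun z => coeff z 0) hdE
    simp only [mul_coeff_zero, coeff_map, hF, hG, hd, map_one, mul_one, one_mul,
      ← IsScalarTower.algebraMap_apply] at this
    exact this.symm
  have hrc : r = algebraMap k K (c₀ + c) := by
    have := congrArg (fun z => coeff z 0) hw
    simp only [mul_coeff_zero, coeff_map, hd₂, hd, map_one, coeff_C_zero, coeff_add, hEc,
      mul_one, one_mul] at this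
    rw [this, map_add]
  refine ⟨d, d₂ * C (c₀ + c) - C c * d, ?_, ?_⟩
  · rintro rfl
    rw [coeff_zero] at hd
    exact zero_ne_one hd
  · rw [hdE]
    congr 1
    simp only [Polynomial.map_sub, Polynomial.map_mul, map_C]
    rw [hrc] at hw
    linear_combination -hw

end K629.NsGauss
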