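import Groth.Agent.FlatA.GlueTwo
import Groth.Prelude.Def_Pi1
import Mathlib

/-!
# Gluing two schemes along a common open subscheme
-/

set_option autoImplicit false
universe u
open CategoryTheory CategoryTheory.Limits AlgebraicGeometry TopologicalSpace

namespace K629.NsGlue

section pushout

variable {U X₁ X₂ : Scheme.{u}} (j₁ : U ⟶ X₁) (j₂ : U ⟶ X₂) [IsOpenImmersion j₁]
  [IsOpenImmersion j₂]

attribute [local instance] Groth.Agent.FlatA.GlueTwo.hasPushout
  Groth.Agent.FlatA.GlueTwo.isOpenImmersion_inl Groth.Agent.FlatA.GlueTwo.isOpenImmersion_inr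

/-- Two open immersions with the same source have a pushout, which is a gluing. -/
theorem exists_pushout : ∃ (B : Scheme.{u}) (i₁ : X₁ ⟶ B) (i₂ : X₂ ⟶ B),
    IsOpenImmersion i₁ ∧ IsOpenImmersion i₂ ∧ IsPushout j₁ j₂ i₁ i₂ ∧ IsPullback j₁ j₂ i₁ i₂ ∧
      ∀ b : B, b ∈ Set.range i₁ ∨ b ∈ Set.range i₂ := by
  have {i j : WalkingSpan} (t : i ⟶ j) := Groth.Agent.FlatA.GlueTwo.isOpenImmersion_span_map j₁ j₂ t
  refine ⟨pushout j₁ j₂, pushout.inl _ _, pushout.inr _ _, inferInstance, inferInstance,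
    IsPushout.of_hasPushout _ _, ?_, Groth.Agent.FlatA.GlueTwo.jointly_surjective j₁ j₂⟩
  have key : ∀ (x₁ : X₁) (x₂ : X₂), pushout.inl j₁ j₂ x₁ = pushout.inr j₁ j₂ x₂ →
      ∃ u : U, j₁ u = x₁ ∧ j₂ u = x₂ := by
    intro x₁ x₂ h
    have h' := (Scheme.IsLocallyDirected.ι_eq_ι_iff (span j₁ j₂) (i := WalkingSpan.left)
      (j := WalkingSpan.right) (xi := x₁) (xj := x₂)).1 h
    obtain ⟨k, fi, fj, y, h1, h2⟩ := h'
    obtain (_ | (_ | _)) := k
    · refine ⟨y, ?_, ?_⟩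
      · rw [← h1]
        have : fi = WalkingSpan.Hom.fst := Subsingleton.elim _ _
        rw [this]; rfl
      · rw [← h2]
        have : fj = WalkingSpan.Hom.snd := Subsingleton.elim _ _
        rw [this]; rfl
    · exact nomatch (fj : WidePushoutShape.Hom (some WalkingPair.left) (some WalkingPair.right))
    · exact nomatch (fi : WidePushoutShape.Hom (some WalkingPair.right) (some WalkingPair.left))
  let l : U ⟶ pullback (pushout.inl j₁ j₂) (pushout.inr j₁ j₂) :=
    pullback.lift j₁ j₂ pushout.condition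
  have hl : l ≫ pullback.fst _ _ = j₁ := pullback.lift_fst _ _ _
  have h1 : IsOpenImmersion l := by
    have : IsOpenImmersion (l ≫ pullback.fst (pushout.inl j₁ j₂) (pushout.inr j₁ j₂)) := by
      rw [hl]; infer_instance
    exact .of_comp _ (pullback.fst (pushout.inl j₁ j₂) (pushout.inr j₁ j₂))
  have h2 : Function.Surjective l := by
    intro y
    obtain ⟨u, hu1, hu2⟩ := key (pullback.fst (pushout.inl j₁ j₂) (pushout.inr j₁ j₂) y)
      (pullback.snd (pushout.inl j₁ j₂) (pushout.inr j₁ j₂) y) (by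
        rw [← Scheme.Hom.comp_apply, ← Scheme.Hom.comp_apply, pullback.condition])
    refine ⟨u, ?_⟩
    apply (pullback.fst (pushout.inl j₁ j₂) (pushout.inr j₁ j₂)).isOpenEmbedding.injective
    rw [← Scheme.Hom.comp_apply, hl, hu1]
  have h3 : IsIso l := by
    have : Surjective l := ⟨h2⟩
    exact (isIso_iff_isOpenImmersion_and_epi_base l).2 ⟨h1, (TopCat.epi_iff_surjective _).2 h2⟩
  exact IsPullback.of_iso_pullback ⟨pushout.condition⟩ (asIso l) hl (pullback.lift_snd _ _ _)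

end pushout

section props

variable {W X₁ X₂ B S : Scheme.{u}} {p₁ : W ⟶ X₁} {p₂ : W ⟶ X₂} {i₁ : X₁ ⟶ B} {i₂ : X₂ ⟶ B}
  [IsOpenImmersion i₁] [IsOpenImmersion i₂]
  (hcov : ∀ b : B, b ∈ Set.range i₁ ∨ b ∈ Set.range i₂)

/-- the cover -/
noncomputable def cov : B.OpenCover :=
  Scheme.Cover.mkOfCovers (ULift.{u} Bool)
    (fun b => match b with
      | ⟨false⟩ => X₁
      | ⟨true⟩ => X₂)
    (fun b => match b with
      | ⟨false⟩ => i₁
      | ⟨true⟩ => i₂)
    (fun x => by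
      rcases hcov x with ⟨y, hy⟩ | ⟨y, hy⟩
      · exact ⟨⟨false⟩, y, hy⟩
      · exact ⟨⟨true⟩, y, hy⟩)
    (fun b => match b with
      | ⟨false⟩ => inferInstanceAs (IsOpenImmersion i₁)
      | ⟨true⟩ => inferInstanceAs (IsOpenImmersion i₂))

include hcov in
theorem of_source (P : MorphismProperty Scheme.{u}) [IsZariskiLocalAtSource P] (f : B ⟶ S)
    (h1 : P (i₁ ≫ f)) (h2 : P (i₂ ≫ f)) : P f := by
  refine IsZariskiLocalAtSource.of_openCover (cov hcov) ?_
  rintro ⟨_ | _⟩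
  · exact h1
  · exact h2

omit [IsOpenImmersion i₁] [IsOpenImmersion i₂] in
include hcov in
theorem compactSpace [CompactSpace X₁] [CompactSpace X₂] : CompactSpace B := by
  refine ⟨?_⟩
  have : (Set.univ : Set B) = Set.range i₁ ∪ Set.range i₂ := by
    ext b; simpa using hcov b
  rw [this]
  exact (isCompact_range i₁.continuous).union (isCompact_range i₂.continuous)

include hcov in
theorem isReduced [IsReduced X₁] [IsReduced X₂] : IsReduced B := by
  have : ∀ x : B, _root_.IsReduced (B.presheaf.stalk x) := by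
    intro x
    rcases hcov x with ⟨y, rfl⟩ | ⟨y, rfl⟩
    · exact isReduced_of_injective (i₁.stalkMap y).hom
        (ConcreteCategory.bijective_of_isIso (i₁.stalkMap y)).1
    · exact isReduced_of_injective (i₂.stalkMap y).hom
        (ConcreteCategory.bijective_of_isIso (i₂.stalkMap y)).1
  exact isReduced_of_isReduced_stalk B

include hcov in
theorem isNormalScheme (h1 : Pi1.IsNormalScheme X₁) (h2 : Pi1.IsNormalScheme X₂) :
    Pi1.IsNormalScheme B := by
  intro x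
  rcases hcov x with ⟨y, rfl⟩ | ⟨y, rfl⟩
  · obtain ⟨h3, h4⟩ := h1 y
    let e : B.presheaf.stalk (i₁ y) ≃+* X₁.presheaf.stalk y :=
      (asIso (i₁.stalkMap y)).commRingCatIsoToRingEquiv
    exact ⟨e.toMulEquiv.isDomain _, .of_equiv e.symm⟩
  · obtain ⟨h3, h4⟩ := h2 y
    let e : B.presheaf.stalk (i₂ y) ≃+* X₂.presheaf.stalk y :=
      (asIso (i₂.stalkMap y)).commRingCatIsoToRingEquiv
    exact ⟨e.toMulEquiv.isDomain _, .of_equiv e.symm⟩

include hcov in
theorem isIntegral [IsIntegral X₁] [IsIntegral X₂] [Nonempty W] (hw : p₁ ≫ i₁ = p₂ ≫ i₂)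
    [IsOpenImmersion p₂] : IsIntegral B := by
  have hr : IsReduced B := isReduced hcov
  have hne : Nonempty B := ⟨i₁ (Classical.arbitrary X₁)⟩
  have hmeet : ∀ V : Set B, IsOpen V → V.Nonempty → (i₁ ⁻¹' V).Nonempty := by
    rintro V hV ⟨b, hb⟩
    rcases hcov b with ⟨y, rfl⟩ | ⟨y, rfl⟩
    · exact ⟨y, hb⟩
    · have h1 : IsOpen (i₂ ⁻¹' V) := hV.preimage i₂.continuous
      have h2 : IsOpen (Set.range p₂) := p₂.isOpenEmbedding.isOpen_range
      obtain ⟨z, hz1, w, rfl⟩ := nonempty_preirreducible_inter h1 h2 ⟨y, hb⟩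
        (Set.range_nonempty _)
      refine ⟨p₁ w, ?_⟩
      change i₁ (p₁ w) ∈ V
      rw [← Scheme.Hom.comp_apply, hw, Scheme.Hom.comp_apply]
      exact hz1
  have hpre : PreirreducibleSpace B := by
    refine ⟨?_⟩
    rintro U V hU hV ⟨u, -, hu⟩ ⟨v, -, hv⟩
    have h1 := hmeet U hU ⟨u, hu⟩
    have h2 := hmeet V hV ⟨v, hv⟩
    obtain ⟨x, hx1, hx2⟩ := nonempty_preirreducible_inter (hU.preimage i₁.continuous)
      (hV.preimage i₁.continuous) h1 h2
    exact ⟨i₁ x, trivial, hx1, hx2⟩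
  have hirr : IrreducibleSpace B := { toPreirreducibleSpace := hpre, toNonempty := hne }
  exact isIntegral_of_irreducibleSpace_of_isReduced B

end props

section val

/-- a morphism from the spectrum of a local ring whose closed point lands in an open lifts -/
theorem exists_lift {X B : Scheme.{u}} (i : X ⟶ B) [IsOpenImmersion i] (R : Type u) [CommRing R]
    [IsLocalRing R] (l : Spec (CommRingCat.of R) ⟶ B)
    (h : l (IsLocalRing.closedPoint R) ∈ Set.range i) : ∃ a, a ≫ i = l := by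
  have h1 : l ⁻¹ᵁ i.opensRange = ⊤ := by
    apply (IsLocalRing.closed_point_mem_iff (R := R)).mp
    exact h
  refine ⟨IsOpenImmersion.lift i l ?_, IsOpenImmersion.lift_fac _ _ _⟩
  rintro _ ⟨x, rfl⟩
  have : x ∈ l ⁻¹ᵁ i.opensRange := by rw [h1]; trivial
  exact this

theorem eq_of_isSeparated {X S : Scheme.{u}} (g : X ⟶ S) [IsSeparated g] (R K : Type u)
    [CommRing R] [IsDomain R] [ValuationRing R] [Field K] [Algebra R K] [IsFractionRing R K]
    (a b : Spec (CommRingCat.of R) ⟶ X)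
    (h : Spec.map (CommRingCat.ofHom (algebraMap R K)) ≫ a =
      Spec.map (CommRingCat.ofHom (algebraMap R K)) ≫ b) (h' : a ≫ g = b ≫ g) : a = b := by
  let S' : ValuativeCommSq g := ⟨R, K, Spec.map (CommRingCat.ofHom (algebraMap R K)) ≫ a, a ≫ g,
    ⟨by rw [Category.assoc]⟩⟩
  have h1 := IsSeparated.valuativeCriterion g S'
  have h2 : (⟨a, rfl, rfl⟩ : S'.commSq.LiftStruct) = ⟨b, h.symm, h'.symm⟩ := Subsingleton.elim _ _
  exact congrArg CommSq.LiftStruct.l h2

variable {W X₁ X₂ B S : Scheme.{u}} {p₁ : W ⟶ X₁} {p₂ : W ⟶ X₂} {i₁ : X₁ ⟶ B} {i₂ : X₂ ⟶ B}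
  [IsOpenImmersion i₁] [IsOpenImmersion i₂]
  (hcov : ∀ b : B, b ∈ Set.range i₁ ∨ b ∈ Set.range i₂) (hW : IsPullback p₁ p₂ i₁ i₂)

include hcov hW in
/-- separatedness of a gluing -/
theorem isSeparated (f : B ⟶ S) [QuasiSeparated f] (h1 : IsSeparated (i₁ ≫ f))
    (h2 : IsSeparated (i₂ ≫ f))
    (H : ∀ (R K : Type u) [CommRing R] [IsDomain R] [ValuationRing R] [Field K] [Algebra R K]
      [IsFractionRing R K] (a : Spec (CommRingCat.of R) ⟶ X₁) (b : Spec (CommRingCat.of R) ⟶ X₂)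
      (c : Spec (CommRingCat.of K) ⟶ W),
      c ≫ p₁ = Spec.map (CommRingCat.ofHom (algebraMap R K)) ≫ a →
      c ≫ p₂ = Spec.map (CommRingCat.ofHom (algebraMap R K)) ≫ b →
      a ≫ i₁ ≫ f = b ≫ i₂ ≫ f → a (IsLocalRing.closedPoint R) ∈ Set.range p₁) :
    IsSeparated f := by
  have hp₁ : IsOpenImmersion p₁ := MorphismProperty.of_isPullback hW.flip ‹_›
  -- the mixed case
  have key : ∀ (R K : Type u) [CommRing R] [IsDomain R] [ValuationRing R] [Field K] [Algebra R K]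
      [IsFractionRing R K] (a : Spec (CommRingCat.of R) ⟶ X₁) (b : Spec (CommRingCat.of R) ⟶ X₂),
      Spec.map (CommRingCat.ofHom (algebraMap R K)) ≫ a ≫ i₁ =
        Spec.map (CommRingCat.ofHom (algebraMap R K)) ≫ b ≫ i₂ →
      a ≫ i₁ ≫ f = b ≫ i₂ ≫ f → a ≫ i₁ = b ≫ i₂ := by
    intro R K _ _ _ _ _ _ a b hab hab'
    let c : Spec (CommRingCat.of K) ⟶ W :=
      hW.lift (Spec.map (CommRingCat.ofHom (algebraMap R K)) ≫ a)
        (Spec.map (CommRingCat.ofHom (algebraMap R K)) ≫ b) (by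
          rw [Category.assoc, Category.assoc]; exact hab)
    have hc1 : c ≫ p₁ = _ := hW.lift_fst _ _ _
    have hc2 : c ≫ p₂ = _ := hW.lift_snd _ _ _
    obtain ⟨a', ha'⟩ := exists_lift p₁ R a (H R K a b c hc1 hc2 hab')
    have h3 : a' ≫ p₂ = b := by
      apply eq_of_isSeparated (i₂ ≫ f) R K
      · apply (cancel_mono i₂).mp
        rw [Category.assoc, Category.assoc, Category.assoc, ← hW.w, reassoc_of% ha', ← hab]
      · rw [Category.assoc, ← reassoc_of% hW.w, reassoc_of% ha', hab']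
    rw [← ha', ← h3, Category.assoc, Category.assoc, hW.w]
  apply IsSeparated.of_valuativeCriterion
  intro S'
  constructor
  rintro ⟨l₁, hl₁, hl₁'⟩ ⟨l₂, hl₂, hl₂'⟩
  ext : 1
  dsimp at *
  rcases hcov (l₁ (IsLocalRing.closedPoint S'.R)) with h | h <;>
  rcases hcov (l₂ (IsLocalRing.closedPoint S'.R)) with h' | h'
  · obtain ⟨a, rfl⟩ := exists_lift i₁ S'.R l₁ h
    obtain ⟨b, rfl⟩ := exists_lift i₁ S'.R l₂ h'
    congr 1
    apply eq_of_isSeparated (i₁ ≫ f) S'.R S'.K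
    · apply (cancel_mono i₁).mp
      rw [Category.assoc, Category.assoc, hl₁, hl₂]
    · rw [Category.assoc] at hl₁' hl₂'
      rw [hl₁', hl₂']
  · obtain ⟨a, rfl⟩ := exists_lift i₁ S'.R l₁ h
    obtain ⟨b, rfl⟩ := exists_lift i₂ S'.R l₂ h'
    apply key S'.R S'.K a b
    · rw [hl₁, hl₂]
    · rw [Category.assoc] at hl₁' hl₂'
      rw [hl₁', hl₂']
  · obtain ⟨a, rfl⟩ := exists_lift i₂ S'.R l₁ h
    obtain ⟨b, rfl⟩ := exists_lift i₁ S'.R l₂ h'
    symm
    apply key S'.R S'.K b a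
    · rw [hl₁, hl₂]
    · rw [Category.assoc] at hl₁' hl₂'
      rw [hl₁', hl₂']
  · obtain ⟨a, rfl⟩ := exists_lift i₂ S'.R l₁ h
    obtain ⟨b, rfl⟩ := exists_lift i₂ S'.R l₂ h'
    congr 1
    apply eq_of_isSeparated (i₂ ≫ f) S'.R S'.K
    · apply (cancel_mono i₂).mp
      rw [Category.assoc, Category.assoc, hl₁, hl₂]
    · rw [Category.assoc] at hl₁' hl₂'
      rw [hl₁', hl₂']

end val

end K629.NsGlue
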