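import Groth.Agent.AlgSp.K629.NsGauss

/-!
# Invariant rational functions regular at the cone vertex
-/

set_option autoImplicit false
universe u
open Polynomial

namespace K629.NsInv

section Star

variable {R : Type u} [CommRing R]

/-- `t ^ n * P (g / t)` -/
noncomputable def star (g : R) (n : ℕ) (P : R[X]) : R[X] :=
  ∑ i ∈ Finset.range (n + 1), C (P.coeff i * g ^ i) * X ^ (n - i)

theorem coeff_star_top (g : R) (n : ℕ) (P : R[X]) : (star g n P).coeff n = P.coeff 0 := by
  rw [star, finsetSum_coeff, Finset.sum_eq_single 0]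
  · rw [coeff_C_mul, coeff_X_pow, if_pos (by omega), pow_zero, mul_one, mul_one]
  · intro i hi hi0
    rw [coeff_C_mul, coeff_X_pow, if_neg (by rw [Finset.mem_range] at hi; omega), mul_zero]
  · intro h; exact absurd (Finset.mem_range.mpr (by omega)) h

theorem natDegree_star_le (g : R) (n : ℕ) (P : R[X]) : (star g n P).natDegree ≤ n := by
  rw [star]
  refine natDegree_sum_le_of_forall_le _ _ fun i _ => ?_
  exact (natDegree_C_mul_X_pow_le _ _).trans (by omega)

theorem star_sub (g : R) (n : ℕ) (P Q : R[X]) : star g n (P - Q) = star g n P - star g n Q := by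
  simp only [star, coeff_sub, sub_mul, C_sub, Finset.sum_sub_distrib]

theorem star_smul (g c : R) (n : ℕ) (P : R[X]) : star g n (C c * P) = C c * star g n P := by
  simp only [star, coeff_C_mul, Finset.mul_sum, mul_assoc, C_mul]

theorem star_X_mul (g : R) (n : ℕ) (P : R[X]) (hn : P.natDegree + 1 ≤ n) :
    star g n (X * P) * X = C g * star g n P := by
  have hPn : P.coeff n = 0 := coeff_eq_zero_of_natDegree_lt (by omega)
  rw [star, star, Finset.sum_range_succ', Finset.sum_range_succ (n := n), hPn]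
  simp only [coeff_X_mul_zero, zero_mul, C_0, add_zero, Finset.sum_mul, Finset.mul_sum]
  refine Finset.sum_congr rfl fun i hi => ?_
  rw [Finset.mem_range] at hi
  rw [coeff_X_mul, mul_assoc, ← pow_succ, show n - (i + 1) + 1 = n - i by omega, pow_succ g i]
  simp only [C_mul, C_pow]
  ring

theorem star_map {S : Type u} [CommRing S] (f : R →+* S) (g : R) (n : ℕ) (P : R[X]) :
    (star g n P).map f = star (f g) n (P.map f) := by
  simp only [star, Polynomial.map_sum, Polynomial.map_mul, map_C, Polynomial.map_pow, map_X,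
    coeff_map, map_mul, map_pow]

end Star

variable {k A K L : Type u} [Field k] [CommRing A] [IsDomain A] [IsIntegrallyClosed A] [Algebra k A]
  [Field K] [Algebra A K] [IsFractionRing A K] [Algebra k K] [IsScalarTower k A K]
  [Field L] (j : K →+* L) (γ : k) (hγ : γ ≠ 0) (t e : L)
  (ind : ∀ P Q : K[X], P.eval₂ j t + Q.eval₂ j t * e = 0 → P = 0 ∧ Q = 0)
  (heq : e ^ 2 + t * e = t ^ 3 + j (algebraMap k K γ) * t)
  (σ : K ≃ₐ[k] K) (hσ : ∀ z, σ (σ z) = z)
  (ρ : L →+* L) (hρj : ∀ z, ρ (j z) = j (σ z)) (hρt : ρ t * t = j (algebraMap k K γ))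
  (hρe : ρ e * t ^ 2 = -(j (algebraMap k K γ) * (t + e)))
  (P1 : ∀ f g : A, σ (algebraMap A K f) = algebraMap A K g → f ∈ (algebraMap k A).range)
  (P2 : ∀ f g : A, f ≠ 0 → (σ (algebraMap A K f))⁻¹ = algebraMap A K g →
    f ∈ (algebraMap k A).range)

/-- evaluation of polynomials over `A` -/
noncomputable def ev (A : Type u) {K L : Type u} [CommRing A] [Field K] [Algebra A K] [Field L]
    (j : K →+* L) (t : L) : A[X] →+* L :=
  (eval₂RingHom j t).comp (mapRingHom (algebraMap A K))

theorem ev_X {A : Type u} {K L : Type u} [CommRing A] [Field K] [Algebra A K] [Field L]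
    (j : K →+* L) (t : L) : ev A j t X = t := by
  simp [ev]

theorem ev_C {A : Type u} {K L : Type u} [CommRing A] [Field K] [Algebra A K] [Field L]
    (j : K →+* L) (t : L) (a : A) : ev A j t (C a) = j (algebraMap A K a) := by
  simp [ev]

theorem ev_def {A : Type u} {K L : Type u} [CommRing A] [Field K] [Algebra A K] [Field L]
    (j : K →+* L) (t : L) (P : A[X]) : ev A j t P = (P.map (algebraMap A K)).eval₂ j t := rfl

include ind in
theorem t_ne : t ≠ 0 := by
  rintro rfl
  have := (ind X 0 (by simp)).1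
  exact X_ne_zero this

include ind hρj hρt in
omit [IsDomain A] [IsIntegrallyClosed A] [IsFractionRing A K] in
theorem ρ_ev (n : ℕ) (P : A[X]) (hP : P.natDegree ≤ n) :
    ρ (ev A j t P) * t ^ n =
      (((star (algebraMap k A γ) n P).map (algebraMap A K)).map (σ : K →+* K)).eval₂ j t := by
  have ht := t_ne j t e ind
  conv_lhs => rw [P.as_sum_range' (n + 1) (by omega)]
  rw [star]
  simp only [Polynomial.map_sum, Polynomial.map_mul, map_C, Polynomial.map_pow, map_X,
    eval₂_finsetSum, eval₂_mul, eval₂_C, eval₂_pow, eval₂_X, map_sum, Finset.sum_mul,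
    ← C_mul_X_pow_eq_monomial, map_mul, ev_C, ev_X, map_pow]
  refine Finset.sum_congr rfl fun i hi => ?_
  rw [Finset.mem_range] at hi
  have h1 : ρ t = j (algebraMap k K γ) / t := by rw [← hρt, mul_div_cancel_right₀ _ ht]
  have h2 : (t : L) ^ n = t ^ i * t ^ (n - i) := by rw [← pow_add]; congr 1; omega
  rw [hρj, h1, div_pow, h2]
  simp only [RingHom.coe_coe, ← IsScalarTower.algebraMap_apply, AlgEquiv.commutes]
  field_simp

include ind hσ hρj hρt hρe P1 P2 in
/-- the trace of an invariant function is constant -/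
theorem trace [Infinite k] (p q N : A[X]) (hN : N.coeff 0 = 1) (c : k)
    (hp : p.coeff 0 = algebraMap k A c) (h : L)
    (hh : h * ev A j t N = ev A j t p + ev A j t q * e) (hρ : ρ h = h) :
    ∃ d r : k[X], d ≠ 0 ∧ ((2 * p - X * q : A[X]).map (algebraMap A K)) * d.map (algebraMap k K) =
      N.map (algebraMap A K) * r.map (algebraMap k K) := by
  have ht := t_ne j t e ind
  let n : ℕ := N.natDegree + p.natDegree + q.natDegree + 1
  set g : A := algebraMap k A γ with hg
  have h1 := congrArg ρ hh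
  rw [map_mul, hρ, map_add, map_mul] at h1
  have hN' := ρ_ev j γ t e ind σ ρ hρj hρt n N (by omega)
  have hp' := ρ_ev j γ t e ind σ ρ hρj hρt n p (by omega)
  have hq' := ρ_ev j γ t e ind σ ρ hρj hρt n q (by omega)
  set N' := ((star g n N).map (algebraMap A K)).map (σ : K →+* K) with hN'd
  set p' := ((star g n p).map (algebraMap A K)).map (σ : K →+* K) with hp'd
  set q' := ((star g n q).map (algebraMap A K)).map (σ : K →+* K) with hq'd
  set NK := N.map (algebraMap A K)
  set pK := p.map (algebraMap A K)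
  set qK := q.map (algebraMap A K)
  rw [ev_def, ev_def, ev_def] at hh
  have h2 : h * N'.eval₂ j t * t ^ 2 = p'.eval₂ j t * t ^ 2 -
      j (algebraMap k K γ) * q'.eval₂ j t * (t + e) := by
    rw [← hN', ← hp', ← hq']
    linear_combination (t ^ n * t ^ 2) * h1 + (ρ (ev A j t q) * t ^ n) * hρe
  -- comparison of coefficients
  have h3 := ind (pK * X ^ 2 * N' - NK * (X ^ 2 * p' - C (algebraMap k K γ) * X * q'))
    (qK * X ^ 2 * N' + C (algebraMap k K γ) * NK * q') (by
      simp only [eval₂_sub, eval₂_add, eval₂_mul, eval₂_X, eval₂_C, eval₂_pow]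
      linear_combination (-(N'.eval₂ j t) * t ^ 2) * hh + (NK.eval₂ j t) * h2)
  obtain ⟨h4, h5⟩ := h3
  rw [sub_eq_zero] at h4
  -- the trace
  let F : A[X] := 2 * p - X * q
  have hFs : star g n F * X ^ 2 = 2 * star g n p * X ^ 2 - C g * star g n q * X := by
    have e1 : F = C 2 * p - X * q := rfl
    rw [e1, star_sub, star_smul]
    have e2 := star_X_mul g n q (by omega)
    have e3 : (C 2 : A[X]) = 2 := rfl
    rw [e3]
    linear_combination (-X) * e2
  have hFs' : ((star g n F).map (algebraMap A K)).map (σ : K →+* K) * X ^ 2 =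
      2 * p' * X ^ 2 - C (algebraMap k K γ) * q' * X := by
    have := congrArg (fun z => (z.map (algebraMap A K)).map (σ : K →+* K)) hFs
    simp only [Polynomial.map_mul, Polynomial.map_sub, Polynomial.map_pow, map_X, map_C,
      Polynomial.map_ofNat, hg, ← IsScalarTower.algebraMap_apply, RingHom.coe_coe,
      AlgEquiv.commutes] at this
    exact this
  have key : F.map (algebraMap A K) * ((star g n N).map (algebraMap A K)).map (σ : K →+* K) =
      N.map (algebraMap A K) * ((star g n F).map (algebraMap A K)).map (σ : K →+* K) := by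
    apply mul_right_cancel₀ (pow_ne_zero 2 (X_ne_zero (R := K)))
    rw [mul_assoc (N.map _), hFs']
    change F.map (algebraMap A K) * N' * X ^ 2 = NK * _
    have e1 : F.map (algebraMap A K) = 2 * pK - X * qK := by
      simp only [F, Polynomial.map_mul, Polynomial.map_sub, map_X, Polynomial.map_ofNat]; rfl
    rw [e1]
    linear_combination 2 * h4 - X * h5
  have hF0 : F.coeff 0 = algebraMap k A (2 * c) := by
    have e1 : F = C 2 * p - X * q := rfl
    rw [e1, coeff_sub, coeff_C_mul, coeff_X_mul_zero, sub_zero, hp, map_mul, map_ofNat]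
  refine NsGauss.main σ hσ P1 P2 N F hN (2 * c) hF0 (star g n N) (star g n F) ?_ (2 * c) ?_ ?_ key
  · refine monic_of_natDegree_le_of_coeff_eq_one n (natDegree_star_le g n N) ?_
    rw [coeff_star_top, hN]
  · have : (star g n N).natDegree = n := by
      apply natDegree_eq_of_le_of_coeff_ne_zero (natDegree_star_le g n N)
      rw [coeff_star_top, hN]; exact one_ne_zero
    rw [this]; exact natDegree_star_le g n F
  · have : (star g n N).natDegree = n := by
      apply natDegree_eq_of_le_of_coeff_ne_zero (natDegree_star_le g n N)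
      rw [coeff_star_top, hN]; exact one_ne_zero
    rw [this, coeff_star_top, hF0]

include hγ ind heq hσ hρj hρt hρe P1 P2 in
/-- an invariant function is a constant combination of `1, e` -/
theorem exists_const [Infinite k] (p q N : A[X]) (hN : N.coeff 0 = 1) (c : k)
    (hp : p.coeff 0 = algebraMap k A c) (h : L)
    (hh : h * ev A j t N = ev A j t p + ev A j t q * e) (hρ : ρ h = h) :
    ∃ D u v : k[X], D ≠ 0 ∧
      p.map (algebraMap A K) * D.map (algebraMap k K) =
        N.map (algebraMap A K) * u.map (algebraMap k K) ∧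
      q.map (algebraMap A K) * D.map (algebraMap k K) =
        N.map (algebraMap A K) * v.map (algebraMap k K) := by
  have ht := t_ne j t e ind
  have hγK : j (algebraMap k K γ) ≠ 0 := by
    rw [Ne, map_eq_zero, map_eq_zero]; exact hγ
  set jg := j (algebraMap k K γ) with hjg
  -- the second function
  have htg : t ^ 2 + jg ≠ 0 := by
    intro h0
    have := (ind (X ^ 2 + C (algebraMap k K γ)) 0 (by
      simp only [eval₂_add, eval₂_pow, eval₂_X, eval₂_C, eval₂_zero, zero_mul, add_zero]
      exact h0)).1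
    have h1 := congrArg (fun z => coeff z 2) this
    simp [coeff_X_pow] at h1
  let f : L := ((t ^ 2 - jg) * e - jg * t) / (t ^ 2 + jg) ^ 2
  have hρt' : ρ t = jg / t := by rw [← hρt, mul_div_cancel_right₀ _ ht]
  have hρe' : ρ e = -(jg * (t + e)) / t ^ 2 := by
    rw [← hρe, mul_div_cancel_right₀ _ (pow_ne_zero 2 ht)]
  have hρg : ρ jg = jg := by
    rw [hjg, hρj, AlgEquiv.commutes]
  have hfρ : ρ f = f := by
    simp only [f]
    rw [map_div₀, map_sub, map_mul, map_sub, map_mul, map_pow, map_pow, map_add, map_pow, hρt',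
      hρe', hρg]
    have h1 : (jg / t) ^ 2 + jg = jg * (t ^ 2 + jg) / t ^ 2 := by
      field_simp
      ring
    rw [h1]
    field_simp
    ring
  let N₂ : A[X] := C (algebraMap k A (γ⁻¹ ^ 2)) * N * (X ^ 2 + C (algebraMap k A γ)) ^ 2
  let p₂ : A[X] := C (algebraMap k A (γ⁻¹ ^ 2)) * (-(C (algebraMap k A γ)) * X * p +
    q * (X ^ 2 - C (algebraMap k A γ)) * (X ^ 3 + C (algebraMap k A γ) * X))
  let q₂ : A[X] := C (algebraMap k A (γ⁻¹ ^ 2)) * (p * (X ^ 2 - C (algebraMap k A γ)) - X ^ 3 * q)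
  have hN₂ : N₂.coeff 0 = 1 := by
    simp only [N₂, mul_coeff_zero, coeff_C_zero, hN, mul_one]
    have : ((X ^ 2 + C (algebraMap k A γ)) ^ 2 : A[X]).coeff 0 = algebraMap k A (γ ^ 2) := by
      rw [pow_two (X ^ 2 + C (algebraMap k A γ)), mul_coeff_zero]
      simp [pow_two]
    rw [this, ← map_mul, ← mul_pow, inv_mul_cancel₀ hγ, one_pow, map_one]
  have hp₂ : p₂.coeff 0 = algebraMap k A 0 := by
    simp only [p₂, mul_coeff_zero, coeff_add, neg_mul, coeff_neg, coeff_X_zero, mul_zero, zero_mul,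
      coeff_sub, coeff_X_pow, coeff_C_zero, map_zero]
    simp
  have hh₂ : (h * f) * ev A j t N₂ = ev A j t p₂ + ev A j t q₂ * e := by
    simp only [N₂, p₂, q₂, map_mul, map_add, map_sub, map_neg, map_pow, ev_C, ev_X,
      ← IsScalarTower.algebraMap_apply]
    change h * f * (_ * (t ^ 2 + jg) ^ 2) = _ * (-jg * t * _ + _ * (t ^ 2 - jg) * (t ^ 3 + jg * t)) +
      _ * (_ * (t ^ 2 - jg) - t ^ 3 * _) * e
    have e1 : f * (t ^ 2 + jg) ^ 2 = (t ^ 2 - jg) * e - jg * t := by
      simp only [f]
      rw [div_mul_cancel₀ _ (pow_ne_zero 2 htg)]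
    set G := j (algebraMap k K γ⁻¹) ^ 2
    change h * f * (G * ev A j t N * (t ^ 2 + jg) ^ 2) =
      G * (-jg * t * ev A j t p + ev A j t q * (t ^ 2 - jg) * (t ^ 3 + jg * t)) +
      G * (ev A j t p * (t ^ 2 - jg) - t ^ 3 * ev A j t q) * e
    linear_combination (h * G * ev A j t N) * e1 + (G * ((t ^ 2 - jg) * e - jg * t)) * hh +
      (G * ev A j t q * (t ^ 2 - jg)) * heq
  obtain ⟨d₁, r₁, hd₁, h1⟩ := trace j γ t e ind σ hσ ρ hρj hρt hρe P1 P2 p q N hN c hp h hh hρ
  obtain ⟨d₂, r₂, hd₂, h2⟩ := trace j γ t e ind σ hσ ρ hρj hρt hρe P1 P2 p₂ q₂ N₂ hN₂ 0 hp₂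
    (h * f) hh₂ (by rw [map_mul, hρ, hfρ])
  simp only [p₂, q₂, N₂, Polynomial.map_mul, Polynomial.map_add, Polynomial.map_sub,
    Polynomial.map_neg, Polynomial.map_pow, map_X, map_C, Polynomial.map_ofNat,
    ← IsScalarTower.algebraMap_apply] at h1 h2
  set NK := N.map (algebraMap A K)
  set pK := p.map (algebraMap A K)
  set qK := q.map (algebraMap A K)
  set g : K[X] := C (algebraMap k K γ) with hg
  have hgi : (C (algebraMap k K (γ⁻¹ ^ 2)) : K[X]) * g ^ 2 = 1 := by
    rw [hg, ← C_pow, ← C_mul, ← map_pow, ← map_mul, ← mul_pow, inv_mul_cancel₀ hγ, one_pow,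
      map_one, C_1]
  set gi : K[X] := C (algebraMap k K (γ⁻¹ ^ 2)) with hgid
  -- remove the constant factor
  have h3 : (-X * (X ^ 2 + g) * pK + qK * (2 * (X ^ 2 - g) * (X ^ 3 + g * X) + X ^ 4)) *
      d₂.map (algebraMap k K) = NK * (X ^ 2 + g) ^ 2 * r₂.map (algebraMap k K) := by
    linear_combination (g ^ 2) * h2 + (NK * (X ^ 2 + g) ^ 2 * r₂.map (algebraMap k K) -
      (-X * (X ^ 2 + g) * pK + qK * (2 * (X ^ 2 - g) * (X ^ 3 + g * X) + X ^ 4)) *
      d₂.map (algebraMap k K)) * hgi
  let Δ : k[X] := C 4 * X ^ 5 + X ^ 4 - C γ * X ^ 2 - C (4 * γ ^ 2) * X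
  have hΔ : Δ ≠ 0 := by
    intro h0
    have := congrArg (fun z => coeff z 4) h0
    simp only [Δ, coeff_sub, coeff_add, coeff_C_mul, coeff_X_pow, coeff_X, coeff_zero] at this
    norm_num at this
  have hΔK : Δ.map (algebraMap k K) = 4 * X ^ 5 + X ^ 4 - g * X ^ 2 - 4 * g ^ 2 * X := by
    simp only [Δ, Polynomial.map_sub, Polynomial.map_add, Polynomial.map_mul, map_C,
      Polynomial.map_pow, map_X, map_mul, map_ofNat, map_pow, Polynomial.map_ofNat, ← hg]
  let c' : k[X] := C 2 * (X ^ 2 - C γ) * (X ^ 3 + C γ * X) + X ^ 4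
  have hc' : c'.map (algebraMap k K) = 2 * (X ^ 2 - g) * (X ^ 3 + g * X) + X ^ 4 := by
    simp only [c', Polynomial.map_sub, Polynomial.map_add, Polynomial.map_mul, map_C,
      Polynomial.map_pow, map_X, map_ofNat, Polynomial.map_ofNat, ← hg]
  refine ⟨Δ * d₁ * d₂, c' * r₁ * d₂ + X * (X ^ 2 + C γ) ^ 2 * r₂ * d₁,
    2 * (X ^ 2 + C γ) ^ 2 * r₂ * d₁ + X * (X ^ 2 + C γ) * r₁ * d₂,
    mul_ne_zero (mul_ne_zero hΔ hd₁) hd₂, ?_, ?_⟩
  · simp only [Polynomial.map_mul, Polynomial.map_add, Polynomial.map_pow, map_X, map_C, hΔK, hc']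
    rw [← hg]
    linear_combination ((2 * (X ^ 2 - g) * (X ^ 3 + g * X) + X ^ 4) * d₂.map (algebraMap k K)) * h1 +
      (X * d₁.map (algebraMap k K)) * h3
  · simp only [Polynomial.map_mul, Polynomial.map_add, Polynomial.map_pow, map_X, map_C, hΔK,
      Polynomial.map_ofNat]
    rw [← hg]
    linear_combination (2 * d₁.map (algebraMap k K)) * h3 +
      (X * (X ^ 2 + g) * d₂.map (algebraMap k K)) * h1

end K629.NsInv
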