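import Groth.Agent.AlgSp.K629.NsSm

/-!
# The punctured base curve and its free involution
-/

set_option autoImplicit false
universe u
open Polynomial

namespace K629.NsLam

open NsCone

variable {k : Type u} [Field k] (γ : k)

abbrev Lam := Localization.Away (tR γ)

noncomputable def tL : Lam γ := algebraMap (R γ) (Lam γ) (tR γ)
noncomputable def eL : Lam γ := algebraMap (R γ) (Lam γ) (eR γ)
noncomputable def ti : Lam γ := IsLocalization.Away.invSelf (tR γ)

theorem t_ti : tL γ * ti γ = 1 := IsLocalization.Away.mul_invSelf _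

theorem eqnL : eL γ ^ 2 + tL γ * eL γ = tL γ ^ 3 + algebraMap k (Lam γ) γ * tL γ := by
  have h := congrArg (algebraMap (R γ) (Lam γ)) (eqnR γ)
  simp only [map_add, map_mul, map_pow, ← IsScalarTower.algebraMap_apply] at h
  exact h

noncomputable def δ₀ : R γ →ₐ[k] Lam γ :=
  lift γ (algebraMap k (Lam γ) γ * ti γ)
    (-(algebraMap k (Lam γ) γ * (tL γ + eL γ)) * ti γ ^ 2) (by
      have h1 := t_ti γ
      set g := algebraMap k (Lam γ) γ
      linear_combination (g ^ 2 * ti γ ^ 4) * eqnL γ +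
        (g ^ 2 * eL γ * ti γ ^ 3 + g ^ 2 * tL γ * ti γ ^ 3 +
          g ^ 2 * ti γ * (tL γ ^ 2 * ti γ ^ 2 + tL γ * ti γ + 1) + g ^ 3 * ti γ ^ 3) * h1)

theorem δ₀_t : δ₀ γ (tR γ) = algebraMap k (Lam γ) γ * ti γ := lift_t _ _ _ _

theorem δ₀_e : δ₀ γ (eR γ) = -(algebraMap k (Lam γ) γ * (tL γ + eL γ)) * ti γ ^ 2 :=
  lift_e _ _ _ _

variable (hγ : γ ≠ 0)

theorem unitg (hγ : γ ≠ 0) : IsUnit (algebraMap k (Lam γ) γ) := (Ne.isUnit hγ).map _

/-- the involution -/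
noncomputable def δ : Lam γ →ₐ[k] Lam γ :=
  IsLocalization.liftAlgHom (M := Submonoid.powers (tR γ)) (f := δ₀ γ) (by
    rintro ⟨_, n, rfl⟩
    change IsUnit (δ₀ γ (tR γ ^ n))
    rw [map_pow, δ₀_t]
    exact ((unitg γ hγ).mul (IsUnit.of_mul_eq_one (tL γ) (by rw [mul_comm]; exact t_ti γ))).pow n)

theorem δ_alg (r : R γ) : δ γ hγ (algebraMap (R γ) (Lam γ) r) = δ₀ γ r := by
  exact IsLocalization.lift_eq _ r

theorem δ_t : δ γ hγ (tL γ) = algebraMap k (Lam γ) γ * ti γ := by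
  rw [tL, δ_alg, δ₀_t]

theorem δ_e : δ γ hγ (eL γ) = -(algebraMap k (Lam γ) γ * (tL γ + eL γ)) * ti γ ^ 2 := by
  change δ γ hγ (algebraMap (R γ) (Lam γ) (eR γ)) = _
  rw [δ_alg, δ₀_e]

theorem δ_t' : δ γ hγ (tL γ) * tL γ = algebraMap k (Lam γ) γ := by
  rw [δ_t]
  linear_combination (algebraMap k (Lam γ) γ) * t_ti γ

theorem δ_e' : δ γ hγ (eL γ) * tL γ ^ 2 = -(algebraMap k (Lam γ) γ * (tL γ + eL γ)) := by
  rw [δ_e]
  linear_combination (-(algebraMap k (Lam γ) γ * (tL γ + eL γ)) * (tL γ * ti γ + 1)) * t_ti γ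

theorem δ_ti : algebraMap k (Lam γ) γ * δ γ hγ (ti γ) = tL γ := by
  have h1 := congrArg (δ γ hγ) (t_ti γ)
  rw [map_mul, δ_t, map_one] at h1
  linear_combination tL γ * h1 - (algebraMap k (Lam γ) γ * δ γ hγ (ti γ)) * t_ti γ

theorem δδ : (δ γ hγ).comp (δ γ hγ) = AlgHom.id k (Lam γ) := by
  apply IsLocalization.algHom_ext (Submonoid.powers (tR γ))
  refine AlgHom.ext fun r => ?_
  obtain ⟨p, q, rfl⟩ := formR γ r
  have h1 : δ γ hγ (δ γ hγ (tL γ)) = tL γ := by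
    rw [δ_t, map_mul, AlgHom.commutes, δ_ti]
  have h2 : δ γ hγ (δ γ hγ (eL γ)) = eL γ := by
    have hu := unitg γ hγ
    apply (hu.pow 2).mul_left_cancel
    have h3 := δ_ti γ hγ
    rw [δ_e, map_mul, map_neg, map_mul, map_add, AlgHom.commutes, map_pow, δ_t, δ_e]
    set g := algebraMap k (Lam γ) γ
    linear_combination
      (-(g * (g * ti γ + -(g * (tL γ + eL γ)) * ti γ ^ 2)) *
        (g * δ γ hγ (ti γ) + tL γ)) * h3 +
      (-(g ^ 2 * tL γ) + g ^ 2 * (tL γ + eL γ) * (tL γ * ti γ + 1)) * t_ti γ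
  change δ γ hγ (δ γ hγ (algebraMap (R γ) (Lam γ) _)) = algebraMap (R γ) (Lam γ) _
  have h3 : ∀ p : k[X], algebraMap (R γ) (Lam γ) (aeval (tR γ) p) = aeval (tL γ) p := fun p =>
    (aeval_algebraMap_apply (Lam γ) (tR γ) p).symm
  rw [map_add (algebraMap (R γ) (Lam γ)), map_mul (algebraMap (R γ) (Lam γ)), h3, h3]
  change δ γ hγ (δ γ hγ (_ + _ * eL γ)) = _ + _ * eL γ
  rw [map_add, map_mul, map_add, map_mul, ← aeval_algHom_apply, ← aeval_algHom_apply,
    ← aeval_algHom_apply, ← aeval_algHom_apply, h1, h2]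

/-- the involution is free -/
theorem free (hγ' : 64 * γ ≠ 1) {F : Type u} [Field F] (φ : Lam γ →+* F)
    (h : ∀ z, φ (δ γ hγ z) = φ z) : False := by
  have h1 := congrArg φ (δ_t' γ hγ)
  have h2 := congrArg φ (δ_e' γ hγ)
  have h3 := congrArg φ (eqnL γ)
  simp only [map_mul, map_add, map_neg, map_pow, h] at h1 h2 h3
  have hu : φ (algebraMap k (Lam γ) γ) ≠ 0 := ((unitg γ hγ).map φ).ne_zero
  set T := φ (tL γ)
  set E := φ (eL γ)
  set g := φ (algebraMap k (Lam γ) γ) with hg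
  have h4 : 2 * E + T = 0 := by
    apply mul_left_cancel₀ hu
    linear_combination h2 - E * h1
  have h5 : 8 * T + 1 = 0 := by
    apply mul_left_cancel₀ hu
    linear_combination -4 * h3 + (2 * E + T) * h4 - (4 * T + 1) * h1
  have h6 : 64 * g = 1 := by
    linear_combination -64 * h1 + (8 * T - 1) * h5
  apply hγ'
  apply (φ.comp (algebraMap k (Lam γ))).injective
  rw [map_mul, map_one, map_ofNat]
  exact h6

end K629.NsLam
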