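import Groth.Agent.S0384
import Groth.Agent.S9675
import Groth.Agent.S0566
import Groth.Agent.Mor.K384.NormNormal
import Groth.Agent.AlgSp.K599.Nagata

/-!
# Normal compactifications
-/

set_option autoImplicit false
universe u
open CategoryTheory CategoryTheory.Limits AlgebraicGeometry

namespace K629.NsNC

theorem exists_nc {X S : Scheme.{u}} (f : X ⟶ S) [CompactSpace S] [QuasiSeparatedSpace S]
    [IsSeparated f] [QuasiCompact f] [LocallyOfFiniteType f] [IsIntegral X]
    (hX : Pi1.IsNormalScheme X) (hS : ∀ V : S.Opens, IsAffineOpen V → CAlg.IsNagata Γ(S, V)) :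
    ∃ (N : Scheme.{u}) (j : X ⟶ N) (g : N ⟶ S), IsOpenImmersion j ∧ IsProper g ∧ j ≫ g = f ∧
      IsIntegral N ∧ Pi1.IsNormalScheme N := by
  obtain ⟨Xc, j, g, hj, hjq, hg, rfl⟩ := Groth.Agent.S0384.result f
  have h1 : ∀ U : Xc.affineOpens, CAlg.IsNagata Γ(Xc, U) := fun U =>
    K599.Nagata.isNagata_of_locallyOfFiniteType g hS U.1 U.2
  have h2 : IsFinite j.fromNormalization := Groth.Agent.S9675.result j h1
  have h3 : LocallyFinite (fun Z : ↥(irreducibleComponents ↥X) => (Z : Set ↥X)) := by
    have : (irreducibleComponents ↥X).Subsingleton := by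
      intro a ha b hb
      rw [irreducibleComponents_eq_singleton] at ha hb
      rw [Set.mem_singleton_iff.mp ha, Set.mem_singleton_iff.mp hb]
    have : Finite ↥(irreducibleComponents ↥X) := this.finite
    exact locallyFinite_of_finite _
  have h4 : Pi1.IsNormalScheme j.normalization :=
    K384.NormNormal.isNormalScheme_normalization j hX h3
  refine ⟨j.normalization, j.toNormalization, j.fromNormalization ≫ g, inferInstance,
    inferInstance, ?_, inferInstance, h4⟩
  rw [← Category.assoc, Scheme.Hom.toNormalization_fromNormalization]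

end K629.NsNC
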