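import Mathlib

/-!
# Parameters for the non-schematic surface: transcendental elements and a valuation
-/

set_option autoImplicit false
universe u
open Cardinal

namespace K629.NsParam

variable {k : Type u} [Field k] [Uncountable k]

theorem exists_not_rootOfUnity : ∃ z : k, z ≠ 0 ∧ ∀ n : ℕ, 0 < n → z ^ n ≠ 1 := by
  classical
  have h1 : (⋃ n : ℕ, {z : k | 0 < n ∧ z ^ n = 1}).Countable := by
    refine Set.countable_iUnion fun n => ?_
    by_cases hn : 0 < n
    · have hfin : {z : k | z ^ n = 1}.Finite := by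
        have hp : (Polynomial.X ^ n - 1 : Polynomial k) ≠ 0 := Polynomial.X_pow_sub_C_ne_zero hn 1
        refine (Polynomial.X ^ n - 1 : Polynomial k).roots.toFinset.finite_toSet.subset ?_
        intro z hz
        simp only [Set.mem_ofPred_eq] at hz
        simp [Polynomial.mem_roots hp, Polynomial.IsRoot, hz]
      exact (hfin.subset fun z hz => hz.2).countable
    · convert Set.countable_empty
      ext z; simp [hn]
  have h2 : (insert (0 : k) (⋃ n : ℕ, {z : k | 0 < n ∧ z ^ n = 1})).Countable := h1.insert 0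
  have h3 : ∃ z : k, z ∉ insert (0 : k) (⋃ n : ℕ, {z : k | 0 < n ∧ z ^ n = 1}) := by
    by_contra hcon
    push Not at hcon
    have : (Set.univ : Set k).Countable := h2.mono fun z _ => hcon z
    exact (Set.countable_univ_iff.not.mpr (not_countable_iff.mpr inferInstance)) this
  obtain ⟨z, hz⟩ := h3
  simp only [Set.mem_insert_iff, Set.mem_iUnion, Set.mem_ofPred_eq, not_or, not_exists, not_and] at hz
  exact ⟨z, hz.1, fun n hn => hz.2 n hn⟩

/-- a relatively algebraically closed proper subfield containing a given element -/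
theorem exists_subfield (z : k) : ∃ E : Subfield k, z ∈ E ∧ (∃ l : k, l ∉ E) ∧
    ∀ x : k, IsAlgebraic E x → x ∈ E := by
  let F : Subfield k := Subfield.closure {z}
  let E := algebraicClosure F k
  have hF : #F ≤ ℵ₀ := by
    refine (Subfield.cardinalMk_closure_le_max _).trans ?_
    simp
  have hE : #E ≤ ℵ₀ := by
    refine (Algebra.IsAlgebraic.cardinalMk_le_max F E).trans ?_
    simp [hF]
  have hmem : ∀ x : k, IsAlgebraic E x → x ∈ E := by
    intro x hx
    have h2 : IsAlgebraic F x := by
      have : Algebra.IsAlgebraic F E := inferInstance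
      exact hx.restrictScalars F
    exact (mem_algebraicClosure_iff).mpr h2
  refine ⟨E.toSubfield, ?_, ?_, ?_⟩
  · have h1 : z ∈ F := Subfield.subset_closure rfl
    exact E.algebraMap_mem ⟨z, h1⟩
  · by_contra hcon
    push Not at hcon
    have h3 : #k ≤ ℵ₀ := by
      refine le_trans ?_ hE
      exact Cardinal.mk_le_of_injective (f := fun x : k => (⟨x, hcon x⟩ : E))
        (fun a b hab => congrArg Subtype.val hab)
    have : Countable k := Cardinal.mk_le_aleph0_iff.mp h3
    exact not_countable_iff.mpr ‹Uncountable k› this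
  · exact hmem

/-- the data used for the construction -/
structure Param (k : Type u) [Field k] where
  al : k
  be : k
  la : k
  E : Subfield k
  V : ValuationSubring k
  hE : ∀ x : k, IsAlgebraic E x → x ∈ E
  hal : al ∈ E
  hbe : be ∈ E
  hab : al + be = -1
  hal0 : al ≠ 0
  hbe0 : be ≠ 0
  hpow : ∀ n : ℕ, 0 < n → al ^ n ≠ be ^ n
  hEV : ∀ x ∈ E, x ∈ V
  hlaE : la ∉ E
  hla : la ∈ V.nonunits

omit [Uncountable k] in
theorem exists_valuation (E : Subfield k) (hE : ∀ x : k, IsAlgebraic E x → x ∈ E) {l : k}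
    (hl : l ∉ E) : ∃ V : ValuationSubring k, (∀ x ∈ E, x ∈ V) ∧ l ∈ V.nonunits := by
  let A : Subring k := (Algebra.adjoin E {l}).toSubring
  have hlA : l ∈ A := Algebra.self_mem_adjoin_singleton E l
  have hI : Ideal.span {(⟨l, hlA⟩ : A)} ≠ ⊤ := by
    intro h
    rw [Ideal.span_singleton_eq_top] at h
    obtain ⟨b, hb⟩ := h.exists_right_inv
    have hb' : l * (b : k) = 1 := congrArg Subtype.val hb
    have hbm : (b : k) ∈ Algebra.adjoin E {l} := b.2
    rw [Algebra.adjoin_singleton_eq_range_aeval] at hbm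
    obtain ⟨p, hp⟩ := hbm
    have halg : IsAlgebraic E l := by
      refine ⟨Polynomial.X * p - 1, ?_, ?_⟩
      · intro h0
        have := congrArg (Polynomial.eval 0) h0
        simp at this
      · have hp' : Polynomial.aeval l p = (b : k) := hp
        rw [map_sub, map_mul, Polynomial.aeval_X, hp', hb', map_one, sub_self]
    exact hl (hE l halg)
  obtain ⟨V, hV, hV'⟩ := Ideal.image_subset_nonunits_valuationSubring _ hI
  refine ⟨V, fun x hx => ?_, ?_⟩
  · exact hV ((Algebra.adjoin E {l}).algebraMap_mem ⟨x, hx⟩)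
  · exact hV' ⟨⟨l, hlA⟩, Ideal.subset_span rfl, rfl⟩

theorem exists_param (k : Type u) [Field k] [Uncountable k] : Nonempty (Param k) := by
  obtain ⟨z, hz0, hz⟩ := exists_not_rootOfUnity (k := k)
  obtain ⟨E, hzE, ⟨l, hl⟩, hE⟩ := exists_subfield z
  obtain ⟨V, hV, hlV⟩ := exists_valuation E hE hl
  have h1 : 1 + z ≠ 0 := by
    intro h
    have : z = -1 := by linear_combination h
    exact hz 2 (by norm_num) (by rw [this]; norm_num)
  refine ⟨⟨-z / (1 + z), -1 / (1 + z), l, E, V, hE, ?_, ?_, ?_, ?_, ?_, ?_, hV, hl, hlV⟩⟩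
  · exact div_mem (neg_mem hzE) (add_mem (one_mem _) hzE)
  · exact div_mem (neg_mem (one_mem _)) (add_mem (one_mem _) hzE)
  · field_simp
    ring
  · exact div_ne_zero (neg_ne_zero.mpr hz0) h1
  · exact div_ne_zero (neg_ne_zero.mpr one_ne_zero) h1
  · intro n hn h
    rw [div_pow, div_pow, div_left_inj' (pow_ne_zero _ h1)] at h
    have : (-z) ^ n = z ^ n * (-1) ^ n := by rw [← mul_pow]; ring_nf
    rw [this] at h
    have h2 : ((-1 : k)) ^ n ≠ 0 := pow_ne_zero _ (neg_ne_zero.mpr one_ne_zero)
    exact hz n hn (mul_right_cancel₀ h2 (by rw [h, one_mul]))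

end K629.NsParam
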