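import Groth.Agent.AlgSp.K594.FreeQuot
import Groth.Agent.AlgSp.K594.Bootstrap

/-!
# The quotient of a separated scheme by a free involution
-/

set_option autoImplicit false
universe u
open CategoryTheory CategoryTheory.Limits AlgebraicGeometry Opposite AlgSp

namespace K629.NsQuot

open K594 K594.FreeAct K594.Elem K594.Cover K594.Basic K594.FamRep

variable {S : Scheme.{u}}

theorem aux {R U : Over S} {s t : R ⟶ U} {F : Sp S} {π : (yon S).obj U ⟶ F}
    (h : (yon S).map s ≫ π = (yon S).map t ≫ π) (i : U ⟶ R) {τ : U ⟶ U} (h1 : i ≫ s = 𝟙 U)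
    (h2 : i ≫ t = τ) : (yon S).map τ ≫ π = π := by
  rw [← h2, Functor.map_comp, Category.assoc, ← h, ← Category.assoc, ← Functor.map_comp, h1]
  erw [(yon S).map_id]
  exact Category.id_comp _

/-- the quotient by a free involution -/
theorem exists_quot (U : Over S) (hU : IsSeparated U.hom) (τ : U ⟶ U) (hτ : τ ≫ τ = 𝟙 U)
    (free : ∀ (F : Type u) [Field F] (x : Spec (CommRingCat.of F) ⟶ U.left),
      x ≫ τ.left ≠ x) :
    ∃ (Z : AlgSp.Space S) (π : (yon S).obj U ⟶ Z.obj),
      RepWith @Etale π ∧ RepWith @Surjective π ∧ (yon S).map τ ≫ π = π ∧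
      IsSeparatedSp Z.obj ∧ IsQuasiSeparatedSp Z.obj := by
  let a : Aut U := ⟨τ, τ, hτ, hτ⟩
  have ha : a * a = 1 := by
    apply Iso.ext
    exact hτ
  let ρ : Subgroup.zpowers a →* Aut U := (Subgroup.zpowers a).subtype
  have hg : ∀ g : Subgroup.zpowers a, g ≠ 1 → (ρ g) = a := by
    rintro ⟨g, hg⟩ h1
    obtain ⟨n, rfl⟩ := Subgroup.mem_zpowers_iff.mp hg
    rcases Int.even_or_odd' n with ⟨m, rfl | rfl⟩
    · exfalso
      apply h1
      apply Subtype.ext
      change a ^ (2 * m) = 1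
      rw [zpow_mul, zpow_two, ha, one_zpow]
    · change a ^ (2 * m + 1) = a
      rw [zpow_add, zpow_mul, zpow_two, ha, one_zpow, one_mul, zpow_one]
  have hfree : ∀ (g : Subgroup.zpowers a) (x : U.left), g ≠ 1 →
      U.left.fromSpecResidueField x ≫ (ρ g).hom.left ≠ U.left.fromSpecResidueField x := by
    intro g x hg1
    rw [hg g hg1]
    exact free (U.left.residueField x) (U.left.fromSpecResidueField x)
  have hfin : Finite (Subgroup.zpowers a) := by
    have h0 : IsOfFinOrder a := isOfFinOrder_iff_pow_eq_one.mpr ⟨2, by norm_num, by rw [pow_two, ha]⟩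
    exact (finite_zpowers.mpr h0).to_subtype
  let s : sig (fun _ : Subgroup.zpowers a => U) ⟶ U := s₀ (G := Subgroup.zpowers a)
  let t : sig (fun _ : Subgroup.zpowers a => U) ⟶ U := t₀ ρ
  have hR : IsEtaleEqvRel s t := isEtaleEqvRel_sig hfree
  obtain ⟨h1, h2, h3⟩ := Bootstrap.quot_isAlgSpace hR
  have h4 := FreeQuot.result hfree (Cofan.mk _ (sigι (fun _ : Subgroup.zpowers a => U)))
    (isColimitSig _) s t (fun g => sigι_desc _ g) (fun g => sigι_desc _ g)
  refine ⟨⟨_, h1⟩, Quot.π s t, h2, h3, ?_, h4.2 hU, h4.1 inferInstance⟩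
  have h5 := Quot.π_condition s t
  have e1 : sigι (fun _ : Subgroup.zpowers a => U) ⟨a, Subgroup.mem_zpowers a⟩ ≫ s = 𝟙 U :=
    sigι_desc _ _
  have e2 : sigι (fun _ : Subgroup.zpowers a => U) ⟨a, Subgroup.mem_zpowers a⟩ ≫ t = τ :=
    sigι_desc _ _
  exact aux h5 _ e1 e2

end K629.NsQuot
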