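import Groth.Agent.AlgSp.K629.NsCone
import Groth.Agent.AlgSp.K629.NsNormal
import Groth.Agent.Surf.K455.RelDim

/-!
# The base curve is smooth
-/

set_option autoImplicit false
universe u
open Polynomial WeierstrassCurve.Affine CategoryTheory AlgebraicGeometry
open scoped Polynomial.Bivariate

namespace K629.NsSm

open NsCone

variable {k : Type u} [Field k] (γ : k)

theorem no_singular (hγ : γ ≠ 0) (hγ' : 64 * γ ≠ 1) (a b : k)
    (h1 : b ^ 2 + a * b = a ^ 3 + γ * a) (h2 : b - (3 * a ^ 2 + γ) = 0)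
    (h3 : 2 * b + a = 0) : False := by
  have ha : a = -2 * b := by linear_combination h3
  subst ha
  have e1 : b * (8 * b ^ 2 + 2 * γ - b) = 0 := by linear_combination h1
  rcases mul_eq_zero.mp e1 with hb | hb
  · subst hb
    exact hγ (by linear_combination -h2)
  · have e2 : b * (16 * b - 1) = 0 := by linear_combination -2 * h2 - hb
    rcases mul_eq_zero.mp e2 with hb' | hb'
    · subst hb'
      exact hγ (by linear_combination -h2)
    · apply hγ'
      linear_combination 64 * (-1) * h2 - (48 * b - 1) * hb'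

instance : Algebra.FiniteType k (R γ) := by
  have h1 : Algebra.FiniteType k[X] (R γ) := by
    have : Module.Finite k[X] (R γ) := Module.Finite.of_basis (CoordinateRing.basis (WB γ))
    infer_instance
  exact Algebra.FiniteType.trans (S := k[X]) inferInstance h1

instance : IsNoetherianRing (R γ) := Algebra.FiniteType.isNoetherianRing k (R γ)

theorem partial_notMem [IsAlgClosed k] (hγ : γ ≠ 0) (hγ' : 64 * γ ≠ 1) (Q : Ideal (R γ))
    [Q.IsPrime] :
    CoordinateRing.mk (WB γ) (WB γ).polynomialX ∉ Q ∨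
      CoordinateRing.mk (WB γ) (WB γ).polynomialY ∉ Q := by
  by_contra hcon
  push Not at hcon
  obtain ⟨M, hM, hQM⟩ := Q.exists_le_maximal Ideal.IsPrime.ne_top'
  let _ : Field (R γ ⧸ M) := Ideal.Quotient.field M
  have hfin : Module.Finite k (R γ ⧸ M) := finite_of_finite_type_of_isJacobsonRing k (R γ ⧸ M)
  have hbij : Function.Bijective (algebraMap k (R γ ⧸ M)) :=
    IsAlgClosed.algebraMap_bijective_of_isIntegral
  obtain ⟨a, ha⟩ := hbij.2 (Ideal.Quotient.mk M (tR γ))
  obtain ⟨b, hb⟩ := hbij.2 (Ideal.Quotient.mk M (eR γ))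
  have h1 := Ideal.Quotient.eq_zero_iff_mem.mpr (hQM hcon.1)
  have h2 := Ideal.Quotient.eq_zero_iff_mem.mpr (hQM hcon.2)
  have h3 := congrArg (Ideal.Quotient.mk M) (eqnR γ)
  have e0 : ∀ c : k, Ideal.Quotient.mk M (algebraMap k (R γ) c) = algebraMap k (R γ ⧸ M) c :=
    fun c => rfl
  have e1 : ∀ c : k, CoordinateRing.mk (WB γ) (C (C c)) = algebraMap k (R γ) c := fun c => rfl
  have e2 : CoordinateRing.mk (WB γ) (C X) = tR γ := rfl
  have e3 : CoordinateRing.mk (WB γ) X = eR γ := rfl
  have w1 : (WB γ).a₁ = 1 := rfl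
  have w2 : (WB γ).a₂ = 0 := rfl
  have w3 : (WB γ).a₃ = 0 := rfl
  have w4 : (WB γ).a₄ = γ := rfl
  simp only [map_add, map_mul, map_pow, e0, ← ha, ← hb] at h3
  simp only [polynomialX, polynomialY, map_sub, map_add, map_mul, map_pow, e1, e2, e3, e0, ← ha,
    ← hb, w1, w2, w3, w4] at h1 h2
  apply no_singular γ hγ hγ' a b
  · apply hbij.1
    simp only [map_add, map_mul, map_pow]
    exact h3
  · apply hbij.1
    simp only [map_add, map_mul, map_pow, map_sub, map_zero, map_ofNat, map_one] at h1 ⊢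
    linear_combination h1
  · apply hbij.1
    simp only [map_add, map_mul, map_zero, map_ofNat, map_one] at h2 ⊢
    linear_combination h2

theorem isRegularLocalRing [IsAlgClosed k] (hγ : γ ≠ 0) (hγ' : 64 * γ ≠ 1) (Q : Ideal (R γ))
    [Q.IsPrime] : IsRegularLocalRing (Localization.AtPrime Q) := by
  have : IsRegularRing k := inferInstance
  exact K485.WeierReg.isRegularLocalRing_of_partial (WB γ) Q (partial_notMem γ hγ hγ' Q)

theorem smooth [IsAlgClosed k] (hγ : γ ≠ 0) (hγ' : 64 * γ ≠ 1) :
    Smooth (Spec.map (CommRingCat.ofHom (algebraMap k (R γ)))) := by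
  have : LocallyOfFiniteType (Spec.map (CommRingCat.ofHom (algebraMap k (R γ)))) := by
    rw [HasRingHomProperty.Spec_iff (P := @LocallyOfFiniteType)]
    exact RingHom.finiteType_algebraMap.mpr inferInstance
  apply K455.RelDim.smooth_of_regular
  intro x
  have := isRegularLocalRing γ hγ hγ' x.asIdeal
  let e : (Spec (CommRingCat.of (R γ))).presheaf.stalk x ≃+* Localization.AtPrime x.asIdeal :=
    (Spec.stalkIso (CommRingCat.of (R γ)) x).commRingCatIsoToRingEquiv
  exact IsRegularLocalRing.of_ringEquiv e.symm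

end K629.NsSm
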