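import Groth.Agent.AlgSp.K629.NsConeR
import Groth.Agent.AlgSp.K629.NsGlue

/-!
# The surface over the affine line
-/

set_option autoImplicit false
universe u
open CategoryTheory CategoryTheory.Limits AlgebraicGeometry TensorProduct Polynomial

namespace K629.NsU

open NsCone NsLam NsFun NsWeier NsCurve NsNormal NsYo NsConeR Groth.Agent

variable {k : Type u} [Field k] (γ : k)

/-- the affine line -/
noncomputable abbrev SX (k : Type u) [Field k] : Scheme.{u} := Spec (CommRingCat.of k[X])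

noncomputable abbrev tt : SL γ ⟶ SX k :=
  Spec.map (CommRingCat.ofHom (aeval (tL γ) : k[X] →ₐ[k] Lam γ).toRingHom)

variable [IsAlgClosed k] {P : NsParam.Param k} (D : NsCurve.Dat k P)

noncomputable abbrev tCm (P : NsParam.Param k) : SC γ P ⟶ SX k :=
  Spec.map (CommRingCat.ofHom (aeval (tC γ P) : k[X] →ₐ[k] cn γ P).toRingHom)

theorem cA_tC (P : NsParam.Param k) : cA γ P (tC γ P) = 1 ⊗ₜ[k] tL γ := ιB_t γ P

theorem cmap_tCm : cmap γ P ≫ tCm γ P = a γ D ≫ pullback.snd _ _ ≫ tt γ := by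
  rw [← Category.assoc, a_snd, ← Spec.map_comp, ← Spec.map_comp, ← CommRingCat.ofHom_comp,
    ← CommRingCat.ofHom_comp]
  congr 2
  have : (cA γ P).comp (aeval (tC γ P)) =
      (Algebra.TensorProduct.includeRight : Lam γ →ₐ[k] (A P ⊗[k] Lam γ)).comp (aeval (tL γ)) := by
    apply Polynomial.algHom_ext
    rw [AlgHom.comp_apply, AlgHom.comp_apply, aeval_X, aeval_X, cA_tC]
    rfl
  exact congrArg AlgHom.toRingHom this

instance lft_tCm (P : NsParam.Param k) : LocallyOfFiniteType (tCm γ P) := by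
  have : LocallyOfFiniteType (tCm γ P ≫ Spec.map (CommRingCat.ofHom (algebraMap k k[X]))) := by
    rw [← Spec.map_comp, ← CommRingCat.ofHom_comp]
    have : (aeval (tC γ P) : k[X] →ₐ[k] cn γ P).toRingHom.comp (algebraMap k k[X]) =
        algebraMap k (cn γ P) := (aeval (tC γ P) : k[X] →ₐ[k] cn γ P).comp_algebraMap
    rw [this, HasRingHomProperty.Spec_iff (P := @LocallyOfFiniteType)]
    exact RingHom.finiteType_algebraMap.mpr inferInstance
  exact locallyOfFiniteType_of_comp _ (Spec.map (CommRingCat.ofHom (algebraMap k k[X])))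

instance lft_tt : LocallyOfFiniteType (tt γ) := by
  have : LocallyOfFiniteType (tt γ ≫ Spec.map (CommRingCat.ofHom (algebraMap k k[X]))) := by
    rw [← Spec.map_comp, ← CommRingCat.ofHom_comp]
    have : (aeval (tL γ) : k[X] →ₐ[k] Lam γ).toRingHom.comp (algebraMap k k[X]) =
        algebraMap k (Lam γ) := (aeval (tL γ) : k[X] →ₐ[k] Lam γ).comp_algebraMap
    rw [this, HasRingHomProperty.Spec_iff (P := @LocallyOfFiniteType)]
    exact RingHom.finiteType_algebraMap.mpr inferInstance
  exact locallyOfFiniteType_of_comp _ (Spec.map (CommRingCat.ofHom (algebraMap k k[X])))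

/-- the first gluing -/
theorem exists_U₁ (hγ : γ ≠ 0) (hγ' : 64 * γ ≠ 1) :
    ∃ (U₁ : Scheme.{u}) (f : U₁ ⟶ SX k) (i₁ : SC γ P ⟶ U₁) (i₂ : Yo γ D ⟶ U₁),
      IsOpenImmersion i₁ ∧ IsOpenImmersion i₂ ∧ cmap γ P ≫ i₁ = a γ D ≫ i₂ ∧
      i₁ ≫ f = tCm γ P ∧ i₂ ≫ f = pullback.snd _ _ ≫ tt γ ∧
      IsSeparated f ∧ QuasiCompact f ∧ LocallyOfFiniteType f ∧ IsIntegral U₁ ∧
      Pi1.IsNormalScheme U₁ := by
  obtain ⟨U₁, i₁, i₂, h1, h2, hpo, hpb, hcov⟩ := NsGlue.exists_pushout (cmap γ P) (a γ D)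
  let f : U₁ ⟶ SX k := hpo.desc (tCm γ P) (pullback.snd _ _ ≫ tt γ) (cmap_tCm γ D)
  have hf1 : i₁ ≫ f = tCm γ P := hpo.inl_desc _ _ _
  have hf2 : i₂ ≫ f = pullback.snd _ _ ≫ tt γ := hpo.inr_desc _ _ _
  have hlft : LocallyOfFiniteType f := NsGlue.of_source hcov @LocallyOfFiniteType f
    (by rw [hf1]; infer_instance) (by rw [hf2]; infer_instance)
  have : CompactSpace (Yo γ D) :=
    QuasiCompact.compactSpace_of_compactSpace (pullback.snd D.pE (q γ))
  have hcpt : CompactSpace U₁ := NsGlue.compactSpace hcov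
  have hnoe : IsLocallyNoetherian U₁ := LocallyOfFiniteType.isLocallyNoetherian f
  have hqc : QuasiCompact f := inferInstance
  have hqs : QuasiSeparated f := inferInstance
  have hsep : IsSeparated f := by
    apply NsGlue.isSeparated hcov hpb f
    · rw [hf1]; infer_instance
    · rw [hf2]; infer_instance
    · intro R K _ _ _ _ _ _ a' b' c hc1 hc2 hab
      rw [hf1, hf2] at hab
      rw [mem_range_cmap]
      obtain ⟨φ, rfl⟩ : ∃ φ : cn γ P →+* R, a' = Spec.map (CommRingCat.ofHom φ) :=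
        ⟨(Spec.preimage a').hom, by rw [CommRingCat.ofHom_hom, Spec.map_preimage]⟩
      obtain ⟨ψ, hψ⟩ : ∃ ψ : Lam γ →+* R, b' ≫ pullback.snd _ _ = Spec.map (CommRingCat.ofHom ψ) :=
        ⟨(Spec.preimage (b' ≫ pullback.snd _ _)).hom, by
          rw [CommRingCat.ofHom_hom, Spec.map_preimage]⟩
      rw [reassoc_of% hψ, ← Spec.map_comp, ← Spec.map_comp, ← CommRingCat.ofHom_comp,
        ← CommRingCat.ofHom_comp] at hab
      have h3 := congrArg (fun z => z.hom X) (Spec.map_injective hab)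
      change φ (aeval (tC γ P) X) = ψ (aeval (tL γ) X) at h3
      rw [aeval_X, aeval_X] at h3
      intro h4
      have h5 : φ (tC γ P) ∈ IsLocalRing.maximalIdeal R := h4
      rw [h3, IsLocalRing.mem_maximalIdeal, mem_nonunits_iff] at h5
      apply h5
      exact (IsUnit.of_mul_eq_one (ti γ) (t_ti γ)).map ψ
  have hN1 : Pi1.IsNormalScheme (SC γ P) := by
    have := isIntegrallyClosed_cone γ P hγ hγ'
    exact Lefpen.H416.NormalBase.isNormalScheme_spec (cn γ P)
  have hne : Nonempty (SAL γ P) := inferInstance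
  refine ⟨U₁, f, i₁, i₂, h1, h2, hpo.w, hf1, hf2, hsep, hqc, hlft,
    NsGlue.isIntegral hcov hpo.w, NsGlue.isNormalScheme hcov hN1 (normal_Yo γ D hγ hγ')⟩

/-! ### the punctured line -/

noncomputable abbrev SXp (k : Type u) [Field k] : Scheme.{u} :=
  Spec (CommRingCat.of (Localization.Away (X : k[X])))

noncomputable abbrev o (k : Type u) [Field k] : SXp k ⟶ SX k :=
  Spec.map (CommRingCat.ofHom (algebraMap k[X] (Localization.Away (X : k[X]))))

omit [IsAlgClosed k] in
instance isOpenImmersion_o : IsOpenImmersion (o k) :=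
  (inferInstance : IsOpenImmersion (Spec.map (CommRingCat.ofHom
      (algebraMap k[X] (Localization.Away (X : k[X]))))))

omit [IsAlgClosed k] in
theorem mem_range_o (x : SX k) : x ∈ Set.range (o k) ↔ X ∉ x.asIdeal := by
  have h : Set.range (o k) =
      ((PrimeSpectrum.basicOpen (X : k[X]) : TopologicalSpace.Opens (PrimeSpectrum k[X])) :
        Set (PrimeSpectrum k[X])) :=
    PrimeSpectrum.localization_away_comap_range (Localization.Away (X : k[X])) X
  rw [h]
  rfl

noncomputable def ttp₀ : Localization.Away (X : k[X]) →+* Lam γ :=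
  IsLocalization.Away.lift (X : k[X]) (g := (aeval (tL γ) : k[X] →ₐ[k] Lam γ).toRingHom) (by
    change IsUnit (aeval (tL γ) X)
    rw [aeval_X]
    exact IsUnit.of_mul_eq_one (ti γ) (t_ti γ))

noncomputable abbrev ttp : SL γ ⟶ SXp k := Spec.map (CommRingCat.ofHom (ttp₀ γ))

omit [IsAlgClosed k] in
theorem ttp_o : ttp γ ≫ o k = tt γ := by
  rw [← Spec.map_comp, ← CommRingCat.ofHom_comp, ttp₀, IsLocalization.Away.lift_comp]

omit [IsAlgClosed k] in
theorem isFinite_ttp : IsFinite (ttp γ) := by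
  let r : SL γ ⟶ Spec (CommRingCat.of (R γ)) :=
    Spec.map (CommRingCat.ofHom (algebraMap (R γ) (Lam γ)))
  have hr : IsOpenImmersion r := (inferInstance : IsOpenImmersion (Spec.map (CommRingCat.ofHom
      (algebraMap (R γ) (Localization.Away (tR γ))))))
  let c : Spec (CommRingCat.of (R γ)) ⟶ SX k :=
    Spec.map (CommRingCat.ofHom (aeval (tR γ) : k[X] →ₐ[k] R γ).toRingHom)
  have hc : IsFinite c := by
    rw [IsFinite.SpecMap_iff]
    have h1 : (aeval (tR γ) : k[X] →ₐ[k] R γ).toRingHom = algebraMap k[X] (R γ) := by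
      apply RingHom.ext
      intro p
      change aeval (tR γ) p = _
      rw [aevalR, ← Algebra.algebraMap_eq_smul_one]
    have h2 : Module.Finite k[X] (R γ) :=
      Module.Finite.of_basis (WeierstrassCurve.Affine.CoordinateRing.basis (WB γ))
    rw [CommRingCat.hom_ofHom, h1]
    exact RingHom.finite_algebraMap.mpr h2
  have hw : r ≫ c = ttp γ ≫ o k := by
    rw [ttp_o, ← Spec.map_comp, ← CommRingCat.ofHom_comp]
    congr 2
    have : (IsScalarTower.toAlgHom k (R γ) (Lam γ)).comp (aeval (tR γ)) = aeval (tL γ) := by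
      apply Polynomial.algHom_ext
      rw [AlgHom.comp_apply, aeval_X, aeval_X]
      rfl
    exact congrArg AlgHom.toRingHom this
  have hpb : IsPullback r (ttp γ) c (o k) := by
    refine (IsOpenImmersion.isPullback (ttp γ) r (o k) c hw ?_).flip
    ext x
    change c x ∈ Set.range (o k) ↔ x ∈ Set.range r
    rw [mem_range_o]
    have h : Set.range r =
      ((PrimeSpectrum.basicOpen (tR γ) : TopologicalSpace.Opens (PrimeSpectrum (R γ))) :
        Set (PrimeSpectrum (R γ))) :=
      PrimeSpectrum.localization_away_comap_range (Localization.Away (tR γ)) (tR γ)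
    rw [h]
    change ¬ ((aeval (tR γ) : k[X] →ₐ[k] R γ) X ∈ x.asIdeal) ↔ ¬ (tR γ ∈ x.asIdeal)
    rw [aeval_X]
  exact MorphismProperty.of_isPullback hpb hc

/-- the surface over the affine line -/
structure UDat (k : Type u) [Field k] [IsAlgClosed k] (γ : k) (P : NsParam.Param k)
    (D : NsCurve.Dat k P) where
  U : Scheme.{u}
  g : U ⟶ SX k
  c : SC γ P ⟶ U
  y : Yo γ D ⟶ U
  [proper : IsProper g]
  [integral : IsIntegral U]
  normal : Pi1.IsNormalScheme U
  [openC : IsOpenImmersion c]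
  [openY : IsOpenImmersion y]
  w : cmap γ P ≫ c = a γ D ≫ y
  cg : c ≫ g = tCm γ P
  yg : y ≫ g = pullback.snd _ _ ≫ tt γ
  range : ∀ u : U, X ∉ (g u).asIdeal → u ∈ Set.range y

theorem exists_UDat (hγ : γ ≠ 0) (hγ' : 64 * γ ≠ 1) : Nonempty (UDat k γ P D) := by
  obtain ⟨U₁, f, i₁, i₂, h1, h2, hw, hf1, hf2, hsep, hqc, hlft, hint, hnorm⟩ :=
    exists_U₁ γ D hγ hγ'
  have hNag : CAlg.IsNagata k[X] := S0566.result k (isNagata_field k) _
  obtain ⟨N, j, g, hj, hg, hjg, hNi, hNn⟩ := NsNC.exists_nc f hnorm (isNagata_spec k[X] hNag)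
  refine ⟨⟨N, g, i₁ ≫ j, i₂ ≫ j, hNn, ?_, ?_, ?_, ?_⟩⟩
  · rw [← Category.assoc, hw, Category.assoc]
  · rw [Category.assoc, hjg, hf1]
  · rw [Category.assoc, hjg, hf2]
  · intro u hu
    have hyg : (i₂ ≫ j) ≫ g = (pullback.snd _ _ ≫ ttp γ) ≫ o k := by
      rw [Category.assoc, hjg, hf2, Category.assoc, ttp_o]
    let w : Yo γ D ⟶ pullback g (o k) := pullback.lift (i₂ ≫ j) (pullback.snd _ _ ≫ ttp γ) hyg
    have hw1 : w ≫ pullback.fst _ _ = i₂ ≫ j := pullback.lift_fst _ _ _
    have hw2 : w ≫ pullback.snd _ _ = pullback.snd _ _ ≫ ttp γ := pullback.lift_snd _ _ _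
    have hwo : IsOpenImmersion w := by
      have : IsOpenImmersion (w ≫ pullback.fst g (o k)) := by rw [hw1]; infer_instance
      exact IsOpenImmersion.of_comp w (pullback.fst g (o k))
    have hwp : IsProper w := by
      have hfin := isFinite_ttp γ
      have h3 : IsProper (w ≫ pullback.snd g (o k)) := by
        rw [hw2]; infer_instance
      exact IsProper.of_comp w (pullback.snd g (o k))
    have hwc : IsClosed (Set.range w) := w.isClosedMap.isClosed_range
    have hwop : IsOpen (Set.range w) := w.isOpenEmbedding.isOpen_range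
    -- irreducibility
    have hyne : Nonempty (Yo γ D) := inferInstance
    have : Nonempty ↥(pullback g (o k)) := hyne.map w
    have hirr : IsIntegral (pullback g (o k)) := isIntegral_of_isOpenImmersion (pullback.fst g (o k))
    have hne : (Set.range w).Nonempty := by
      exact Set.range_nonempty _
    have hall : Set.range w = Set.univ := by
      have : PreconnectedSpace ↥(pullback g (o k)) := inferInstance
      exact IsClopen.eq_univ ⟨hwc, hwop⟩ hne
    have hgu : g u ∈ Set.range (o k) := (mem_range_o _).mpr hu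
    have hgu' : u ∈ Set.range (pullback.fst g (o k)) := by
      rw [IsOpenImmersion.range_pullbackFst]
      exact hgu
    obtain ⟨v, rfl⟩ := hgu'
    obtain ⟨z, rfl⟩ : v ∈ Set.range w := by rw [hall]; trivial
    exact ⟨z, by rw [← hw1]; rfl⟩

end K629.NsU
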