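import Groth.Agent.AlgSp.K629.NsField
import Groth.Agent.Neron.K485.WeierReg
import Groth.Agent.S9829

/-!
# The elliptic curve of the construction
-/

set_option autoImplicit false
universe u
open Polynomial WeierstrassCurve.Affine
open scoped Polynomial.Bivariate

namespace K629.NsWeier

variable {k : Type u} [Field k] (P : NsParam.Param k)

/-- the curve `y² + xy - μ y = x³ + 2 μ x² + (μ² + μ - λ) x`, `μ = α β` -/
def W : WeierstrassCurve.Affine k :=
  { a₁ := 1, a₂ := 2 * (P.al * P.be), a₃ := -(P.al * P.be),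
    a₄ := (P.al * P.be) ^ 2 + P.al * P.be - P.la, a₆ := 0 }

abbrev A := (W P).CoordinateRing

abbrev K := FractionRing (A P)

noncomputable def xA : A P := CoordinateRing.mk (W P) (C X)
noncomputable def yA : A P := CoordinateRing.mk (W P) X

noncomputable def x : K P := algebraMap (A P) (K P) (xA P)
noncomputable def y : K P := algebraMap (A P) (K P) (yA P)

theorem eqnA : yA P ^ 2 + algebraMap k (A P) (W P).a₁ * xA P * yA P +
    algebraMap k (A P) (W P).a₃ * yA P =
    xA P ^ 3 + algebraMap k (A P) (W P).a₂ * xA P ^ 2 + algebraMap k (A P) (W P).a₄ * xA P := by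
  have h : CoordinateRing.mk (W P) (W P).polynomial = 0 := AdjoinRoot.mk_self
  have h6 : (W P).a₆ = 0 := rfl
  simp only [polynomial, map_sub, map_add, map_mul, map_pow, h6, map_zero, add_zero] at h
  rw [sub_eq_zero] at h
  have e : ∀ a : k, CoordinateRing.mk (W P) (C (C a)) = algebraMap k (A P) a := fun a => rfl
  simp only [e] at h
  change yA P ^ 2 + (algebraMap k (A P) (W P).a₁ * xA P + algebraMap k (A P) (W P).a₃) * yA P = _ at h
  rw [add_mul, ← add_assoc] at h
  exact h

theorem eqn : y P ^ 2 + algebraMap k (K P) (W P).a₁ * x P * y P +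
    algebraMap k (K P) (W P).a₃ * y P =
    x P ^ 3 + algebraMap k (K P) (W P).a₂ * x P ^ 2 + algebraMap k (K P) (W P).a₄ * x P := by
  have h := congrArg (algebraMap (A P) (K P)) (eqnA P)
  simp only [map_add, map_mul, map_pow, ← IsScalarTower.algebraMap_apply] at h
  exact h

theorem aevalA (p : k[X]) : aeval (xA P) p = p • (1 : A P) := by
  rw [CoordinateRing.smul, mul_one]
  induction p using Polynomial.induction_on with
  | C a => rw [aeval_C]; rfl
  | add p q hp hq => rw [map_add, hp, hq, C_add, map_add]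
  | monomial n a _ =>
    rw [map_mul, aeval_C, map_pow, aeval_X, C_mul, map_mul, C_pow, map_pow]
    rfl

theorem aevalK (p : k[X]) : aeval (x P) p = algebraMap (A P) (K P) (aeval (xA P) p) := by
  rw [x, aeval_algebraMap_apply]

theorem form (f : A P) : ∃ p q : k[X], f = aeval (xA P) p + aeval (xA P) q * yA P := by
  obtain ⟨p, q, h⟩ := CoordinateRing.exists_smul_basis_eq f
  refine ⟨p, q, ?_⟩
  rw [← h, aevalA, aevalA, smul_mul_assoc, one_mul]
  rfl

theorem formK (f : A P) : ∃ p q : k[X], algebraMap (A P) (K P) f =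
    aeval (x P) p + aeval (x P) q * y P := by
  obtain ⟨p, q, h⟩ := form P f
  exact ⟨p, q, by rw [h, map_add, map_mul, aevalK, aevalK]; rfl⟩

theorem indepA (p q : k[X]) (h : aeval (xA P) p + aeval (xA P) q * yA P = 0) :
    p = 0 ∧ q = 0 := by
  rw [aevalA, aevalA, smul_mul_assoc, one_mul] at h
  exact CoordinateRing.smul_basis_eq_zero h

theorem indep (p q : k[X]) (h : aeval (x P) p + aeval (x P) q * y P = 0) :
    p = 0 ∧ q = 0 := by
  apply indepA P p q
  apply IsFractionRing.injective (A P) (K P)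
  rw [map_add, map_mul, map_zero, ← aevalK, ← aevalK]
  exact h

theorem x_ne : x P ≠ 0 := by
  intro h
  have := (indep P X 0 (by rw [aeval_X, map_zero, h, zero_mul, add_zero])).1
  exact X_ne_zero this

theorem ha3 : (W P).a₃ ≠ 0 := neg_ne_zero.mpr (mul_ne_zero P.hal0 P.hbe0)

noncomputable def s : K P := y P / x P

noncomputable def x' : K P :=
  (algebraMap k (K P) (W P).a₄ - algebraMap k (K P) (W P).a₃ * s P) / x P

theorem y_eq : y P = s P * x P := by
  rw [s, div_mul_cancel₀ _ (x_ne P)]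

theorem x_mul_x' : x P * x' P =
    algebraMap k (K P) (W P).a₄ - algebraMap k (K P) (W P).a₃ * s P := by
  rw [x', mul_div_cancel₀ _ (x_ne P)]

theorem rel : x P ^ 2 = (s P ^ 2 + algebraMap k (K P) (W P).a₁ * s P -
    algebraMap k (K P) (W P).a₂) * x P -
    (algebraMap k (K P) (W P).a₄ - algebraMap k (K P) (W P).a₃ * s P) := by
  have h := eqn P
  rw [y_eq] at h
  apply mul_right_cancel₀ (x_ne P)
  linear_combination -h

theorem x'_eq' : x' P = s P ^ 2 + algebraMap k (K P) (W P).a₁ * s P -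
    algebraMap k (K P) (W P).a₂ - x P := by
  apply mul_left_cancel₀ (x_ne P)
  rw [x_mul_x']
  linear_combination rel P

theorem rel' : x' P ^ 2 = (s P ^ 2 + algebraMap k (K P) (W P).a₁ * s P -
    algebraMap k (K P) (W P).a₂) * x' P -
    (algebraMap k (K P) (W P).a₄ - algebraMap k (K P) (W P).a₃ * s P) := by
  rw [x'_eq']
  linear_combination rel P

/-- `x'` is not a constant -/
theorem x'_trans [IsAlgClosed k] (p : k[X]) (hp : aeval (x' P) p = 0) : p = 0 := by
  by_contra h0
  have h3 : IsIntegral k (x' P) := IsAlgebraic.isIntegral ⟨p, h0, hp⟩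
  have h4 := IsAlgClosed.degree_eq_one_of_irreducible k (minpoly.irreducible h3)
  obtain ⟨a, ha⟩ := minpoly.mem_range_of_degree_eq_one k _ h4
  have h5 := x_mul_x' P
  rw [← ha] at h5
  have h6 := (indep P (C a * X ^ 2 - C (W P).a₄ * X) (C (W P).a₃) (by
    simp only [map_sub, map_mul, map_pow, aeval_C, aeval_X]
    rw [y_eq]
    linear_combination x P * h5)).2
  exact ha3 P (C_eq_zero.mp h6)

theorem x'_ne [IsAlgClosed k] : x' P ≠ 0 := by
  intro h
  have := x'_trans P X (by rw [aeval_X, h])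
  exact X_ne_zero this

/-- the involution on the coordinate ring -/
noncomputable def σA : A P →ₐ[k] K P :=
  AdjoinRoot.liftAlgHom (W P).polynomial (aeval (x' P)) (s P * x' P) (by
    have h6 : (W P).a₆ = 0 := rfl
    simp only [polynomial, eval₂_sub, eval₂_add, eval₂_mul, eval₂_pow, eval₂_X, eval₂_C,
      map_add, map_mul, map_pow, h6, map_zero, add_zero]
    change (s P * x' P) ^ 2 + (aeval (x' P) (C (W P).a₁) * aeval (x' P) X +
      aeval (x' P) (C (W P).a₃)) * (s P * x' P) - (aeval (x' P) X ^ 3 +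
      aeval (x' P) (C (W P).a₂) * aeval (x' P) X ^ 2 +
      aeval (x' P) (C (W P).a₄) * aeval (x' P) X) = 0
    simp only [aeval_C, aeval_X]
    linear_combination -(x' P) * rel' P)

theorem σA_x : σA P (xA P) = x' P := by
  change AdjoinRoot.liftAlgHom (W P).polynomial (aeval (x' P)) (s P * x' P) _
    (AdjoinRoot.of _ X) = _
  rw [AdjoinRoot.liftAlgHom_of, aeval_X]

theorem σA_y : σA P (yA P) = s P * x' P := by
  change AdjoinRoot.liftAlgHom (W P).polynomial (aeval (x' P)) (s P * x' P) _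
    (AdjoinRoot.root _) = _
  rw [AdjoinRoot.liftAlgHom_root]

theorem σA_inj [IsAlgClosed k] : Function.Injective (σA P) := by
  rw [injective_iff_map_eq_zero]
  intro f hf
  obtain ⟨p, q, rfl⟩ := form P f
  by_contra h0
  have h1 : (p ≠ 0 ∨ q ≠ 0) := by
    by_contra hcon
    push Not at hcon
    apply h0
    rw [hcon.1, hcon.2, map_zero, zero_mul, add_zero]
  -- the norm
  let n : k[X] := p ^ 2 - p * q * (C (W P).a₁ * X + C (W P).a₃) -
    q ^ 2 * (X ^ 3 + C (W P).a₂ * X ^ 2 + C (W P).a₄ * X)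
  have hn : (aeval (xA P) p + aeval (xA P) q * yA P) * (aeval (xA P) p - aeval (xA P) q *
      (yA P + algebraMap k (A P) (W P).a₁ * xA P + algebraMap k (A P) (W P).a₃)) =
      aeval (xA P) n := by
    simp only [n, map_sub, map_mul, map_add, map_pow, aeval_C, aeval_X]
    linear_combination (-(aeval (xA P) q) ^ 2) * eqnA P
  have hn0 : n = 0 := by
    apply x'_trans P
    have h2 := congrArg (σA P) hn
    rw [map_mul, hf, zero_mul, ← aeval_algHom_apply, σA_x] at h2
    exact h2.symm
  rw [hn0, map_zero] at hn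
  rcases mul_eq_zero.mp hn with h4 | h4
  · exact h0 h4
  · have h5 := indepA P (p - q * (C (W P).a₁ * X + C (W P).a₃)) (-q) (by
      rw [← h4]
      simp only [map_sub, map_mul, map_add, aeval_C, aeval_X, map_neg]
      ring)
    have h6 : q = 0 := neg_eq_zero.mp h5.2
    have h7 : p = 0 := by
      have := h5.1
      rwa [h6, zero_mul, sub_zero] at this
    rcases h1 with h1 | h1
    · exact h1 h7
    · exact h1 h6

noncomputable def σ₀ [IsAlgClosed k] : K P →ₐ[k] K P :=
  IsFractionRing.liftAlgHom (g := σA P) (σA_inj P)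

theorem σ₀_alg [IsAlgClosed k] (f : A P) : σ₀ P (algebraMap (A P) (K P) f) = σA P f := by
  exact IsFractionRing.lift_algebraMap (g := (σA P).toRingHom) (σA_inj P) f

theorem σ₀_x [IsAlgClosed k] : σ₀ P (x P) = x' P := by
  rw [x, σ₀_alg, σA_x]

theorem σ₀_y [IsAlgClosed k] : σ₀ P (y P) = s P * x' P := by
  rw [y, σ₀_alg, σA_y]

theorem σ₀_s [IsAlgClosed k] : σ₀ P (s P) = s P := by
  conv_lhs => rw [s]
  rw [map_div₀, σ₀_x, σ₀_y, mul_div_cancel_right₀ _ (x'_ne P)]

theorem σ₀_x' [IsAlgClosed k] : σ₀ P (x' P) = x P := by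
  have h := congrArg (σ₀ P) (x_mul_x' P)
  rw [map_mul, σ₀_x, map_sub, map_mul, σ₀_s, AlgHom.commutes, AlgHom.commutes, ← x_mul_x'] at h
  have h' : x' P * σ₀ P (x' P) = x' P * x P := by rw [h]; ring
  exact mul_left_cancel₀ (x'_ne P) h'

theorem σ₀_σ₀ [IsAlgClosed k] : (σ₀ P).comp (σ₀ P) = AlgHom.id k (K P) := by
  apply IsLocalization.algHom_ext (nonZeroDivisors (A P))
  refine AlgHom.ext fun f => ?_
  obtain ⟨p, q, h⟩ := formK P f
  change σ₀ P (σ₀ P (algebraMap (A P) (K P) f)) = algebraMap (A P) (K P) f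
  rw [h, map_add, map_add, map_mul, map_mul, ← aeval_algHom_apply, ← aeval_algHom_apply,
    ← aeval_algHom_apply, ← aeval_algHom_apply, σ₀_x, σ₀_x', σ₀_y, map_mul, σ₀_s, σ₀_x', ← y_eq]

noncomputable def σ [IsAlgClosed k] : K P ≃ₐ[k] K P :=
  AlgEquiv.ofAlgHom (σ₀ P) (σ₀ P) (σ₀_σ₀ P) (σ₀_σ₀ P)

noncomputable def dat [IsAlgClosed k] : NsField.Dat k (K P) where
  x := x P
  y := y P
  a₁ := (W P).a₁
  a₂ := (W P).a₂
  a₃ := (W P).a₃
  a₄ := (W P).a₄
  ha3 := ha3 P
  eqn := eqn P
  indep := indep P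
  σ := σ P
  σx := σ₀_x P
  σy := by
    change σ₀ P (y P) = y P / x P * σ₀ P (x P)
    rw [σ₀_y, σ₀_x]; rfl
  σσ z := DFunLike.congr_fun (σ₀_σ₀ P) z

/-- (P1) -/
theorem const_of_inA [IsAlgClosed k] (f g : A P)
    (h : σ P (algebraMap (A P) (K P) f) = algebraMap (A P) (K P) g) :
    f ∈ (algebraMap k (A P)).range := by
  have h1 : (dat P).InA (algebraMap (A P) (K P) f) := formK P f
  have h2 : (dat P).InA ((dat P).σ (algebraMap (A P) (K P) f)) := by
    change (dat P).InA (σ P (algebraMap (A P) (K P) f))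
    rw [h]; exact formK P g
  obtain ⟨a, ha⟩ := (dat P).const_of_inA h1 h2
  refine ⟨a, ?_⟩
  apply IsFractionRing.injective (A P) (K P)
  rw [← ha, ← IsScalarTower.algebraMap_apply]

/-- (P2) -/
theorem const_of_unit [IsAlgClosed k] (f g : A P) (hf : f ≠ 0)
    (h : (σ P (algebraMap (A P) (K P) f))⁻¹ = algebraMap (A P) (K P) g) :
    f ∈ (algebraMap k (A P)).range := by
  have h1 : (dat P).InA (algebraMap (A P) (K P) f) := formK P f
  have h2 : (dat P).InA ((dat P).σ (algebraMap (A P) (K P) f))⁻¹ := by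
    change (dat P).InA (σ P (algebraMap (A P) (K P) f))⁻¹
    rw [h]; exact formK P g
  obtain ⟨a, ha⟩ := (dat P).const_of_unit P rfl rfl rfl rfl (by
    rw [Ne, IsFractionRing.to_map_eq_zero_iff]; exact hf) h1 h2
  refine ⟨a, ?_⟩
  apply IsFractionRing.injective (A P) (K P)
  rw [← ha, ← IsScalarTower.algebraMap_apply]

end K629.NsWeier
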