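import Groth.Agent.AlgSp.K629.NsU

/-!
# The proper surface with a free involution
-/

set_option autoImplicit false
universe u
open CategoryTheory CategoryTheory.Limits AlgebraicGeometry TensorProduct Polynomial

namespace K629.NsY

open NsCone NsLam NsFun NsWeier NsCurve NsNormal NsYo NsConeR NsU Groth.Agent

variable {k : Type u} [Field k] {γ : k} [IsAlgClosed k] {P : NsParam.Param k}
  {D : NsCurve.Dat k P} (V : UDat k γ P D)

attribute [instance] UDat.proper UDat.integral UDat.openC UDat.openY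

noncomputable abbrev Sk (k : Type u) [Field k] : Scheme.{u} := Spec (CommRingCat.of k)

noncomputable abbrev pX (k : Type u) [Field k] : SX k ⟶ Sk k :=
  Spec.map (CommRingCat.ofHom (algebraMap k k[X]))

noncomputable abbrev pU : V.U ⟶ Sk k := V.g ≫ pX k

omit [IsAlgClosed k] in
theorem tt_pX : tt γ ≫ pX k = q γ := by
  rw [← Spec.map_comp, ← CommRingCat.ofHom_comp]
  congr 2
  exact (aeval (tL γ) : k[X] →ₐ[k] Lam γ).comp_algebraMap

theorem y_pU : V.y ≫ pU V = pullback.snd _ _ ≫ q γ := by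
  rw [← Category.assoc, V.yg, Category.assoc, tt_pX]

variable (hγ : γ ≠ 0)

theorem ρy_pU : (ρ γ D hγ ≫ V.y) ≫ pU V = pullback.snd _ _ ≫ q γ := by
  rw [Category.assoc, y_pU, ← Category.assoc, ρ_snd, Category.assoc, δ_q]

omit [IsAlgClosed k] in
/-- the value of `t` -/
theorem exists_val {T : Type u} [CommRing T] (x : Spec (CommRingCat.of T) ⟶ SX k) :
    ∃ φ : k[X] →+* T, x = Spec.map (CommRingCat.ofHom φ) :=
  ⟨(Spec.preimage x).hom, by rw [CommRingCat.ofHom_hom, Spec.map_preimage]⟩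

omit [IsAlgClosed k] in
theorem exists_valL {T : Type u} [CommRing T] (x : Spec (CommRingCat.of T) ⟶ SL γ) :
    ∃ φ : Lam γ →+* T, x = Spec.map (CommRingCat.ofHom φ) :=
  ⟨(Spec.preimage x).hom, by rw [CommRingCat.ofHom_hom, Spec.map_preimage]⟩

omit [IsAlgClosed k] in
theorem exists_valk {T : Type u} [CommRing T] (x : Spec (CommRingCat.of T) ⟶ Sk k) :
    ∃ φ : k →+* T, x = Spec.map (CommRingCat.ofHom φ) :=
  ⟨(Spec.preimage x).hom, by rw [CommRingCat.ofHom_hom, Spec.map_preimage]⟩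

theorem specMap_inj {R S : Type u} [CommRing R] [CommRing S] {f g : R →+* S}
    (h : Spec.map (CommRingCat.ofHom f) = Spec.map (CommRingCat.ofHom g)) : f = g := by
  have := Spec.map_injective h
  exact congrArg CommRingCat.Hom.hom this

theorem specMap_comp {R S T : Type u} [CommRing R] [CommRing S] [CommRing T] (f : R →+* S)
    (g : S →+* T) : Spec.map (CommRingCat.ofHom g) ≫ Spec.map (CommRingCat.ofHom f) =
    Spec.map (CommRingCat.ofHom (g.comp f)) := by
  rw [← Spec.map_comp, ← CommRingCat.ofHom_comp]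

/-- values of `t` on a point of `Yo` and on its image under the involution -/
theorem val_y {T : Type u} [CommRing T] (c : Spec (CommRingCat.of T) ⟶ Yo γ D) (ψ : Lam γ →+* T)
    (hψ : c ≫ pullback.snd _ _ = Spec.map (CommRingCat.ofHom ψ)) :
    c ≫ V.y ≫ V.g = Spec.map (CommRingCat.ofHom
        (ψ.comp (aeval (tL γ) : k[X] →ₐ[k] Lam γ).toRingHom)) ∧
      c ≫ (ρ γ D hγ ≫ V.y) ≫ V.g = Spec.map (CommRingCat.ofHom
        (ψ.comp ((δ γ hγ).toRingHom.comp (aeval (tL γ) : k[X] →ₐ[k] Lam γ).toRingHom))) := by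
  constructor
  · rw [V.yg, reassoc_of% hψ, specMap_comp]
  · rw [Category.assoc, V.yg, reassoc_of% (ρ_snd γ D hγ), reassoc_of% hψ, specMap_comp,
      specMap_comp]

theorem key_sep (R K : Type u) [CommRing R] [IsDomain R] [ValuationRing R] [Field K] [Algebra R K]
    [IsFractionRing R K] (a b : Spec (CommRingCat.of R) ⟶ V.U) (c : Spec (CommRingCat.of K) ⟶ Yo γ D)
    (h1 : c ≫ V.y = Spec.map (CommRingCat.ofHom (algebraMap R K)) ≫ a)
    (h2 : c ≫ ρ γ D hγ ≫ V.y = Spec.map (CommRingCat.ofHom (algebraMap R K)) ≫ b) :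
    a (IsLocalRing.closedPoint R) ∈ Set.range V.y := by
  apply V.range
  obtain ⟨φa, ha⟩ := exists_val (a ≫ V.g)
  obtain ⟨φb, hb⟩ := exists_val (b ≫ V.g)
  obtain ⟨ψ, hψ⟩ := exists_valL (c ≫ pullback.snd _ _)
  obtain ⟨h3, h4⟩ := val_y V hγ c ψ hψ
  rw [← Category.assoc, h1, Category.assoc, ha, specMap_comp] at h3
  rw [← Category.assoc, h2, Category.assoc, hb, specMap_comp] at h4
  have h3' := specMap_inj h3
  have h4' := specMap_inj h4
  have e1 : algebraMap R K (φa X) = ψ (tL γ) := by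
    have := congrArg (fun z : k[X] →+* K => z X) h3'
    change algebraMap R K (φa X) = ψ (aeval (tL γ) X) at this
    rwa [aeval_X] at this
  have e2 : algebraMap R K (φb X) = ψ (δ γ hγ (tL γ)) := by
    have := congrArg (fun z : k[X] →+* K => z X) h4'
    change algebraMap R K (φb X) = ψ (δ γ hγ (aeval (tL γ) X)) at this
    rwa [aeval_X] at this
  have e3 : algebraMap R K (φa (C γ)) = ψ (algebraMap k (Lam γ) γ) := by
    have := congrArg (fun z : k[X] →+* K => z (C γ)) h3'
    change algebraMap R K (φa (C γ)) = ψ (aeval (tL γ) (C γ)) at this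
    rwa [aeval_C] at this
  have e4 : φb X * φa X = φa (C γ) := by
    apply IsFractionRing.injective R K
    rw [map_mul, e1, e2, e3, ← map_mul, δ_t']
  have e5 : IsUnit (φa X) := by
    have : IsUnit (φa (C γ)) := ((Ne.isUnit hγ).map (C : k →+* k[X])).map φa
    rw [← e4] at this
    exact isUnit_of_mul_isUnit_right this
  have e6 : V.g (a (IsLocalRing.closedPoint R)) =
      (Spec.map (CommRingCat.ofHom φa)) (IsLocalRing.closedPoint R) := by
    rw [← Scheme.Hom.comp_apply, ha]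
  rw [e6]
  intro h
  have h5 : φa X ∈ IsLocalRing.maximalIdeal R := h
  rw [IsLocalRing.mem_maximalIdeal, mem_nonunits_iff] at h5
  exact h5 e5

/-- lifting a point with integral value of `t` -/
theorem lift_of_integral (R K : Type u) [CommRing R] [IsDomain R] [ValuationRing R] [Field K]
    [Algebra R K] [IsFractionRing R K] (x : Spec (CommRingCat.of K) ⟶ V.U) (κ : k →+* R)
    (φ : k[X] →+* K) (hφ : x ≫ V.g = Spec.map (CommRingCat.ofHom φ))
    (hκ : φ.comp (algebraMap k k[X]) = (algebraMap R K).comp κ) (r : R)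
    (hr : algebraMap R K r = φ X) :
    ∃ l : Spec (CommRingCat.of R) ⟶ V.U,
      Spec.map (CommRingCat.ofHom (algebraMap R K)) ≫ l = x ∧
      l ≫ pU V = Spec.map (CommRingCat.ofHom κ) := by
  let φR : k[X] →+* R := eval₂RingHom κ r
  have h1 : (algebraMap R K).comp φR = φ := by
    apply Polynomial.ringHom_ext
    · intro c
      have := congrArg (fun z : k →+* K => z c) hκ
      change φ (C c) = algebraMap R K (κ c) at this
      rw [this]
      simp [φR]
    · simp [φR, hr]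
  let S' : ValuativeCommSq V.g := ⟨R, K, x, Spec.map (CommRingCat.ofHom φR),
    ⟨by rw [hφ, specMap_comp, h1]⟩⟩
  have h2 : ValuativeCriterion.Existence V.g := by
    have : UniversallyClosed V.g := inferInstance
    rw [UniversallyClosed.eq_valuativeCriterion] at this
    exact this.1
  obtain ⟨l, hl1, hl2⟩ := (h2 S').exists_lift
  refine ⟨l, hl1, ?_⟩
  rw [← Category.assoc, hl2, specMap_comp]
  congr 2
  ext c
  simp [φR]

theorem lift_or (R K : Type u) [CommRing R] [IsDomain R] [ValuationRing R] [Field K]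
    [Algebra R K] [IsFractionRing R K] (x : Spec (CommRingCat.of K) ⟶ V.U)
    (v : Spec (CommRingCat.of R) ⟶ Sk k)
    (hx : x ≫ pU V = Spec.map (CommRingCat.ofHom (algebraMap R K)) ≫ v) :
    (∃ l : Spec (CommRingCat.of R) ⟶ V.U,
      Spec.map (CommRingCat.ofHom (algebraMap R K)) ≫ l = x ∧ l ≫ pU V = v) ∨
    (∃ (c : Spec (CommRingCat.of K) ⟶ Yo γ D) (l : Spec (CommRingCat.of R) ⟶ V.U),
      c ≫ V.y = x ∧ Spec.map (CommRingCat.ofHom (algebraMap R K)) ≫ l = c ≫ ρ γ D hγ ≫ V.y ∧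
      l ≫ pU V = v) := by
  obtain ⟨φ, hφ⟩ := exists_val (x ≫ V.g)
  obtain ⟨κ, rfl⟩ := exists_valk v
  have hκ : φ.comp (algebraMap k k[X]) = (algebraMap R K).comp κ := by
    rw [← Category.assoc, hφ, specMap_comp, specMap_comp] at hx
    exact specMap_inj hx
  rcases ValuationRing.isInteger_or_isInteger R (φ X) with ⟨r, hr⟩ | ⟨r, hr⟩
  · left
    exact lift_of_integral V R K x κ φ hφ hκ r hr
  · by_cases h0 : φ X = 0
    · left
      exact lift_of_integral V R K x κ φ hφ hκ 0 (by rw [map_zero, h0])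
    right
    have hxr : x (IsLocalRing.closedPoint K) ∈ Set.range V.y := by
      apply V.range
      have e6 : V.g (x (IsLocalRing.closedPoint K)) =
          (Spec.map (CommRingCat.ofHom φ)) (IsLocalRing.closedPoint K) := by
        rw [← Scheme.Hom.comp_apply, hφ]
      rw [e6]
      intro h
      have h5 : φ X ∈ IsLocalRing.maximalIdeal K := h
      rw [IsLocalRing.mem_maximalIdeal, mem_nonunits_iff] at h5
      exact h5 (Ne.isUnit h0)
    obtain ⟨c, hc⟩ := NsGlue.exists_lift V.y K x hxr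
    obtain ⟨ψ, hψ⟩ := exists_valL (c ≫ pullback.snd _ _)
    obtain ⟨h3, h4⟩ := val_y V hγ c ψ hψ
    rw [← Category.assoc, hc, hφ] at h3
    have h3' := specMap_inj h3
    have e1 : φ X = ψ (tL γ) := by
      rw [h3']
      change ψ (aeval (tL γ) X) = _
      rw [aeval_X]
    have e3 : φ (C γ) = ψ (algebraMap k (Lam γ) γ) := by
      rw [h3']
      change ψ (aeval (tL γ) (C γ)) = _
      rw [aeval_C]
    have hκ' : ∀ z : k, φ (C z) = algebraMap R K (κ z) := fun z =>
      congrArg (fun w : k →+* K => w z) hκ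
    obtain ⟨l, hl1, hl2⟩ := lift_of_integral V R K (c ≫ ρ γ D hγ ≫ V.y) κ _
      (by rw [Category.assoc]; exact h4) (by
        apply RingHom.ext
        intro z
        change ψ (δ γ hγ (aeval (tL γ) (C z))) = algebraMap R K (κ z)
        rw [aeval_C, AlgHom.commutes, ← hκ', h3']
        change _ = ψ (aeval (tL γ) (C z))
        rw [aeval_C]) (κ γ * r) (by
        change _ = ψ (δ γ hγ (aeval (tL γ) X))
        rw [aeval_X, map_mul, hr, ← hκ', e3, e1, ← δ_t' γ hγ, map_mul, mul_assoc,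
          mul_inv_cancel₀ (by rw [← e1]; exact h0), mul_one])
    exact ⟨c, l, hc, hl1, hl2⟩

/-- the proper surface with its involution -/
structure YDat (hγ : γ ≠ 0) (V : UDat k γ P D) where
  Y : Scheme.{u}
  p : Y ⟶ Sk k
  i₁ : V.U ⟶ Y
  τ : Y ⟶ Y
  [proper : IsProper p]
  [integral : IsIntegral Y]
  normal : Pi1.IsNormalScheme Y
  [openI : IsOpenImmersion i₁]
  i₁p : i₁ ≫ p = pU V
  τp : τ ≫ p = p
  ττ : τ ≫ τ = CategoryStruct.id Y
  w : V.y ≫ i₁ ≫ τ = ρ γ D hγ ≫ V.y ≫ i₁
  free : ∀ (F : Type u) [Field F] (x : Spec (CommRingCat.of F) ⟶ Y), x ≫ τ ≠ x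

theorem exists_YDat (hγ' : 64 * γ ≠ 1) : Nonempty (YDat hγ V) := by
  have hρρ := ρρ γ D hγ
  have hρi : IsIso (ρ γ D hγ) := ⟨⟨ρ γ D hγ, hρρ, hρρ⟩⟩
  obtain ⟨Y, i₁, i₂, h1, h2, hpo, hpb, hcov⟩ :=
    NsGlue.exists_pushout V.y (ρ γ D hγ ≫ V.y)
  have hw1 : V.y ≫ i₁ = ρ γ D hγ ≫ V.y ≫ i₂ := by rw [hpo.w, Category.assoc]
  have hw2 : V.y ≫ i₂ = ρ γ D hγ ≫ V.y ≫ i₁ := by
    rw [hw1, ← Category.assoc (ρ γ D hγ), hρρ, Category.id_comp]
  let f : Y ⟶ Sk k := hpo.desc (pU V) (pU V) (by rw [y_pU, ρy_pU])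
  have hf1 : i₁ ≫ f = pU V := hpo.inl_desc _ _ _
  have hf2 : i₂ ≫ f = pU V := hpo.inr_desc _ _ _
  have hpX : LocallyOfFiniteType (pX k) := by
    rw [HasRingHomProperty.Spec_iff (P := @LocallyOfFiniteType)]
    exact RingHom.finiteType_algebraMap.mpr inferInstance
  have hlft : LocallyOfFiniteType f := NsGlue.of_source hcov @LocallyOfFiniteType f
    (by rw [hf1]; infer_instance) (by rw [hf2]; infer_instance)
  have : CompactSpace V.U := QuasiCompact.compactSpace_of_compactSpace V.g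
  have hcpt : CompactSpace Y := NsGlue.compactSpace hcov
  have hnoe : IsLocallyNoetherian Y := LocallyOfFiniteType.isLocallyNoetherian f
  have hqc : QuasiCompact f := inferInstance
  have hqs : QuasiSeparated f := inferInstance
  have hsep : IsSeparated f := by
    apply NsGlue.isSeparated hcov hpb f
    · rw [hf1]; infer_instance
    · rw [hf2]; infer_instance
    · intro R K _ _ _ _ _ _ a b c hc1 hc2 _
      exact key_sep V hγ R K a b c hc1 hc2
  have huc : UniversallyClosed f := by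
    apply UniversallyClosed.of_valuativeCriterion
    intro S'
    obtain ⟨R, K, x, v, ⟨hxv⟩⟩ := S'
    rcases hcov (x (IsLocalRing.closedPoint K)) with hx | hx
    · obtain ⟨x₀, rfl⟩ := NsGlue.exists_lift i₁ K x hx
      rw [Category.assoc, hf1] at hxv
      rcases lift_or V hγ R K x₀ v hxv with ⟨l, hl1, hl2⟩ | ⟨c, l, hc, hl1, hl2⟩
      · refine ⟨⟨⟨l ≫ i₁, ?_, ?_⟩⟩⟩
        · have : Spec.map (CommRingCat.ofHom (algebraMap R K)) ≫ l ≫ i₁ = x₀ ≫ i₁ := by
            rw [← hl1, Category.assoc]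
          exact this
        · change (l ≫ i₁) ≫ f = v
          rw [Category.assoc, hf1, hl2]
      · refine ⟨⟨⟨l ≫ i₂, ?_, ?_⟩⟩⟩
        · have : Spec.map (CommRingCat.ofHom (algebraMap R K)) ≫ l ≫ i₂ = x₀ ≫ i₁ := by
            rw [← hc, ← Category.assoc, hl1, Category.assoc, Category.assoc, Category.assoc, hw1]
          exact this
        · change (l ≫ i₂) ≫ f = v
          rw [Category.assoc, hf2, hl2]
    · obtain ⟨x₀, rfl⟩ := NsGlue.exists_lift i₂ K x hx
      rw [Category.assoc, hf2] at hxv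
      rcases lift_or V hγ R K x₀ v hxv with ⟨l, hl1, hl2⟩ | ⟨c, l, hc, hl1, hl2⟩
      · refine ⟨⟨⟨l ≫ i₂, ?_, ?_⟩⟩⟩
        · have : Spec.map (CommRingCat.ofHom (algebraMap R K)) ≫ l ≫ i₂ = x₀ ≫ i₂ := by
            rw [← hl1, Category.assoc]
          exact this
        · change (l ≫ i₂) ≫ f = v
          rw [Category.assoc, hf2, hl2]
      · refine ⟨⟨⟨l ≫ i₁, ?_, ?_⟩⟩⟩
        · have : Spec.map (CommRingCat.ofHom (algebraMap R K)) ≫ l ≫ i₁ = x₀ ≫ i₂ := by
            rw [← hc, ← Category.assoc, hl1, Category.assoc, Category.assoc, Category.assoc, hw2]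
          exact this
        · change (l ≫ i₁) ≫ f = v
          rw [Category.assoc, hf1, hl2]
  have hprop : IsProper f := {}
  let τ : Y ⟶ Y := hpo.desc i₂ i₁ (by rw [hw2, Category.assoc])
  have hτ1 : i₁ ≫ τ = i₂ := hpo.inl_desc _ _ _
  have hτ2 : i₂ ≫ τ = i₁ := hpo.inr_desc _ _ _
  have hyne : Nonempty (Yo γ D) := inferInstance
  have hint : IsIntegral Y := NsGlue.isIntegral hcov hpo.w
  refine ⟨⟨Y, f, i₁, τ, NsGlue.isNormalScheme hcov V.normal V.normal, hf1, ?_, ?_, ?_, ?_⟩⟩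
  · apply hpo.hom_ext
    · rw [← Category.assoc, hτ1, hf1, hf2]
    · rw [← Category.assoc, hτ2, hf1, hf2]
  · apply hpo.hom_ext
    · rw [← Category.assoc, hτ1, hτ2, Category.comp_id]
    · rw [← Category.assoc, hτ2, hτ1, Category.comp_id]
  · rw [hτ1, hw2]
  · intro F _ x hx
    -- a fixed point in the first chart
    have key : ∀ x₀ : Spec (CommRingCat.of F) ⟶ V.U, x₀ ≫ i₁ = x₀ ≫ i₂ → False := by
      intro x₀ h0
      let c : Spec (CommRingCat.of F) ⟶ Yo γ D := hpb.lift x₀ x₀ h0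
      have hc1 : c ≫ V.y = x₀ := hpb.lift_fst _ _ _
      have hc2 : c ≫ ρ γ D hγ ≫ V.y = x₀ := hpb.lift_snd _ _ _
      have hc : c ≫ ρ γ D hγ = c := by
        apply (cancel_mono V.y).mp
        rw [Category.assoc, hc2, hc1]
      obtain ⟨ψ, hψ⟩ := exists_valL (c ≫ pullback.snd _ _)
      have h3 : c ≫ ρ γ D hγ ≫ pullback.snd _ _ = c ≫ pullback.snd _ _ := by
        rw [reassoc_of% hc]
      rw [ρ_snd, reassoc_of% hψ, hψ, specMap_comp] at h3
      have h4 := specMap_inj h3
      exact NsLam.free γ hγ hγ' ψ (fun z => congrArg (fun w : Lam γ →+* F => w z) h4)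
    rcases hcov (x (IsLocalRing.closedPoint F)) with h | h
    · obtain ⟨x₀, rfl⟩ := NsGlue.exists_lift i₁ F x h
      rw [Category.assoc, hτ1] at hx
      exact key x₀ hx.symm
    · obtain ⟨x₀, rfl⟩ := NsGlue.exists_lift i₂ F x h
      rw [Category.assoc, hτ2] at hx
      exact key x₀ hx

end K629.NsY
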