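import Groth.Agent.AlgSp.K629.NsFun
import Groth.Agent.AlgSp.K629.NsCurve
import Groth.Agent.S1582
import Groth.Agent.Ega4dA.SmoothStalk

/-!
# The surface `E × Spec Λ` and its free involution
-/

set_option autoImplicit false
universe u
open CategoryTheory CategoryTheory.Limits AlgebraicGeometry TensorProduct

namespace K629.NsYo

open NsCone NsLam NsFun NsWeier NsCurve NsNormal Groth.Agent

variable {k : Type u} [Field k] (γ : k)

noncomputable abbrev SL : Scheme.{u} := Spec (CommRingCat.of (Lam γ))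

noncomputable abbrev q : SL γ ⟶ Spec (CommRingCat.of k) :=
  Spec.map (CommRingCat.ofHom (algebraMap k (Lam γ)))

theorem smooth_q [IsAlgClosed k] (hγ : γ ≠ 0) (hγ' : 64 * γ ≠ 1) : Smooth (q γ) := by
  have h1 := NsSm.smooth γ hγ hγ'
  have h2 : q γ = Spec.map (CommRingCat.ofHom (algebraMap (R γ) (Lam γ))) ≫
      Spec.map (CommRingCat.ofHom (algebraMap k (R γ))) := by
    rw [← Spec.map_comp, ← CommRingCat.ofHom_comp, ← IsScalarTower.algebraMap_eq]
  have h3 : IsOpenImmersion (Spec.map (CommRingCat.ofHom (algebraMap (R γ) (Lam γ)))) := by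
    exact (inferInstance : IsOpenImmersion (Spec.map (CommRingCat.ofHom
      (algebraMap (R γ) (Localization.Away (tR γ))))))
  rw [h2]
  infer_instance

instance : Algebra.FiniteType k (Lam γ) :=
  Algebra.FiniteType.trans (S := R γ) inferInstance inferInstance

instance lft_q : LocallyOfFiniteType (q γ) := by
  rw [HasRingHomProperty.Spec_iff (P := @LocallyOfFiniteType)]
  exact RingHom.finiteType_algebraMap.mpr inferInstance

variable [IsAlgClosed k] {P : NsParam.Param k} (D : NsCurve.Dat k P)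

attribute [instance] NsCurve.Dat.proper NsCurve.Dat.integral NsCurve.Dat.openImm

noncomputable abbrev Yo : Scheme.{u} := pullback D.pE (q γ)

instance integral_Yo : IsIntegral (Yo γ D) := by
  have : IsIntegral (SL γ) := inferInstance
  exact S1582.result k D.E (SL γ) D.pE (q γ)

theorem normal_Yo (hγ : γ ≠ 0) (hγ' : 64 * γ ≠ 1) : Pi1.IsNormalScheme (Yo γ D) := by
  have := smooth_q γ hγ hγ'
  have h1 : Smooth (pullback.fst D.pE (q γ)) := inferInstance
  intro x
  exact Ega4dA.SmoothStalk.stalk_of_smooth D.normal (pullback.fst D.pE (q γ)) x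

variable (hγ : γ ≠ 0)

theorem δ_q : Spec.map (CommRingCat.ofHom (δ γ hγ).toRingHom) ≫ q γ = q γ := by
  rw [← Spec.map_comp, ← CommRingCat.ofHom_comp]
  congr 2
  exact (δ γ hγ).comp_algebraMap

/-- the involution -/
noncomputable def ρ : Yo γ D ⟶ Yo γ D :=
  pullback.lift (pullback.fst _ _ ≫ D.s)
    (pullback.snd _ _ ≫ Spec.map (CommRingCat.ofHom (δ γ hγ).toRingHom)) (by
      rw [Category.assoc, Category.assoc, D.sp, δ_q, pullback.condition])

theorem ρ_fst : ρ γ D hγ ≫ pullback.fst _ _ = pullback.fst _ _ ≫ D.s := pullback.lift_fst _ _ _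

theorem ρ_snd : ρ γ D hγ ≫ pullback.snd _ _ =
    pullback.snd _ _ ≫ Spec.map (CommRingCat.ofHom (δ γ hγ).toRingHom) := pullback.lift_snd _ _ _

theorem δδ' : Spec.map (CommRingCat.ofHom (δ γ hγ).toRingHom) ≫
    Spec.map (CommRingCat.ofHom (δ γ hγ).toRingHom) = 𝟙 (SL γ) := by
  rw [← Spec.map_comp, ← CommRingCat.ofHom_comp]
  have h : (δ γ hγ).toRingHom.comp (δ γ hγ).toRingHom = RingHom.id (Lam γ) :=
    congrArg AlgHom.toRingHom (δδ γ hγ)
  rw [h]
  exact Spec.map_id _

theorem ρρ : ρ γ D hγ ≫ ρ γ D hγ = 𝟙 (Yo γ D) := by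
  apply pullback.hom_ext
  · rw [Category.assoc, ρ_fst, reassoc_of% (ρ_fst γ D hγ), D.ss, Category.comp_id,
      Category.id_comp]
  · rw [Category.assoc, ρ_snd, reassoc_of% (ρ_snd γ D hγ), δδ', Category.comp_id,
      Category.id_comp]

/-- the affine open `Spec (A ⊗ Λ)` -/
noncomputable abbrev SAL (P : NsParam.Param k) : Scheme.{u} :=
  Spec (CommRingCat.of (A P ⊗[k] Lam γ))

noncomputable abbrev inl (P : NsParam.Param k) : SAL γ P ⟶ SA P :=
  Spec.map (CommRingCat.ofHom (algebraMap (A P) (A P ⊗[k] Lam γ)))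

noncomputable abbrev inr (P : NsParam.Param k) : SAL γ P ⟶ SL γ :=
  Spec.map (CommRingCat.ofHom
    (Algebra.TensorProduct.includeRight : Lam γ →ₐ[k] (A P ⊗[k] Lam γ)).toRingHom)

theorem isPullback_SAL (P : NsParam.Param k) : IsPullback (inl γ P) (inr γ P) (fA P) (q γ) := by
  have h := (CommRingCat.isPushout_tensorProduct k (A P) (Lam γ)).op.map Scheme.Spec
  exact h.flip

noncomputable def a : SAL γ P ⟶ Yo γ D :=
  pullback.lift (inl γ P ≫ D.j) (inr γ P) (by
    rw [Category.assoc, D.jp, (isPullback_SAL γ P).w])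

theorem a_fst : a γ D ≫ pullback.fst _ _ = inl γ P ≫ D.j := pullback.lift_fst _ _ _

theorem a_snd : a γ D ≫ pullback.snd _ _ = inr γ P := pullback.lift_snd _ _ _

theorem isPullback_a : IsPullback (a γ D) (inl γ P) (pullback.fst _ _) D.j := by
  have h1 : IsPullback (a γ D ≫ pullback.snd _ _) (inl γ P) (q γ) (D.j ≫ D.pE) := by
    rw [a_snd, D.jp]
    exact (isPullback_SAL γ P).flip
  have h2 : IsPullback (pullback.snd _ _) (pullback.fst _ _) (q γ) D.pE :=
    (IsPullback.of_hasPullback D.pE (q γ)).flip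
  exact IsPullback.of_right h1 (a_fst γ D) h2

instance : IsOpenImmersion (a γ D) :=
  MorphismProperty.of_isPullback (isPullback_a γ D).flip D.openImm

noncomputable abbrev SLL (P : NsParam.Param k) : Scheme.{u} := Spec (CommRingCat.of (L γ P))

/-- the generic point -/
noncomputable def gY : SLL γ P ⟶ Yo γ D :=
  Spec.map (CommRingCat.ofHom ((algebraMap (KΛ γ P) (L γ P)).comp (ιΛ γ P).toRingHom)) ≫ a γ D

theorem gY_fst : gY γ D ≫ pullback.fst _ _ =
    Spec.map (CommRingCat.ofHom (jK γ P)) ≫ gA P ≫ D.j := by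
  rw [gY, Category.assoc, a_fst, ← Category.assoc, ← Category.assoc, ← Spec.map_comp,
    ← Spec.map_comp, ← CommRingCat.ofHom_comp, ← CommRingCat.ofHom_comp]
  congr 3

theorem gY_snd : gY γ D ≫ pullback.snd _ _ = Spec.map (CommRingCat.ofHom (jΛ γ P)) := by
  rw [gY, Category.assoc, a_snd, ← Spec.map_comp, ← CommRingCat.ofHom_comp]
  congr 2
  ext z
  simp only [RingHom.comp_apply]
  rw [jΛ_def]
  congr 1
  change ιΛ γ P ((1 : A P) ⊗ₜ[k] z) = _
  rw [ιΛ, Algebra.TensorProduct.map_tmul, map_one]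
  rfl

theorem gY_ρ : gY γ D ≫ ρ γ D hγ = Spec.map (CommRingCat.ofHom (ρL γ P hγ)) ≫ gY γ D := by
  apply pullback.hom_ext
  · rw [Category.assoc, Category.assoc, ρ_fst, reassoc_of% (gY_fst γ D), D.gs, gY_fst,
      ← Category.assoc, ← Category.assoc (Spec.map (CommRingCat.ofHom (ρL γ P hγ))),
      ← Spec.map_comp, ← Spec.map_comp, ← CommRingCat.ofHom_comp, ← CommRingCat.ofHom_comp]
    congr 3
    ext z
    exact (ρL_jK γ P hγ z).symm
  · rw [Category.assoc, Category.assoc, ρ_snd, reassoc_of% (gY_snd γ D), gY_snd,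
      ← Spec.map_comp, ← Spec.map_comp, ← CommRingCat.ofHom_comp, ← CommRingCat.ofHom_comp]
    congr 2
    ext z
    exact (ρL_jΛ γ P hγ z).symm

end K629.NsYo
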