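import Groth.Agent.AlgSp.K629.Cover
import Groth.Agent.AlgSp.K629.EtLocInst
import Groth.Agent.AlgSp.K596.Univ
import Groth.Agent.AlgSp.K613.Chart
import Mathlib.AlgebraicGeometry.Morphisms.UniversallyOpen

/-!
# Open and universally open morphisms of algebraic spaces: flat + lfp is universally open, fppf
locality on the source
-/

set_option autoImplicit false
universe u
open CategoryTheory CategoryTheory.Limits AlgebraicGeometry Opposite
open AlgSp K629.Basic K629.LocP

namespace K629.Open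

variable {S : Scheme.{u}}

/-- Flat and locally of finite presentation implies universally open. -/
theorem isUnivOpenMor_of_locP {P : MorphismProperty Scheme.{u}} [P.IsStableUnderBaseChange]
    (hP : EtLoc P) (hPo : P ≤ @UniversallyOpen) {X Y : Sp S} (hX : IsAlgSpace X) (hY : IsAlgSpace Y)
    {f : X ⟶ Y} (hf : LocP P f) : IsUnivOpenMor f := by
  obtain ⟨U, a, ha, has⟩ := hX.atlas
  refine K596.Univ.isUnivOpenMor_of_precomp has ?_
  have h1 : RepWith @UniversallyOpen (a ≫ f) := repWith_mono hPo (hP.repWith hY hf a ha)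
  exact (K596.Univ.repWith_universallyOpen_iff h1.1).1 h1

theorem isUnivOpenMor_of_fppf {X Y : Sp S} (hX : IsAlgSpace X) (hY : IsAlgSpace Y)
    {f : X ⟶ Y} (h1 : LocP @Flat f) (h2 : LocP @LocallyOfFinitePresentation f) : IsUnivOpenMor f := by
  have : (@Flat ⊓ @LocallyOfFinitePresentation : MorphismProperty Scheme.{u}).IsStableUnderBaseChange :=
    inferInstance
  refine isUnivOpenMor_of_locP (P := @Flat ⊓ @LocallyOfFinitePresentation) EtLocInst.fppf ?_ hX hY
    (fun _ _ a b h ha hb hab => ⟨h1 a b h ha hb hab, h2 a b h ha hb hab⟩)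
  rintro A B g ⟨hg1, hg2⟩
  exact UniversallyOpen.of_flat g

/-- A universally open morphism to an algebraic space is open. -/
theorem isOpenMor_of_isUnivOpenMor {X Y : Sp S} (hY : IsAlgSpace Y)
    {f : X ⟶ Y} (hf : IsUnivOpenMor f) : IsOpenMor f :=
  hf hY (𝟙 Y) (𝟙 X) f (IsPullback.id_horiz f)

theorem isOpenMor_comp {X Y Z : Sp S} {f : X ⟶ Y} {g : Y ⟶ Z} (hf : IsOpenMor f) (hg : IsOpenMor g) :
    IsOpenMor (f ≫ g) := by
  have e : Points.map (f ≫ g) = Points.map g ∘ Points.map f := by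
    funext z
    exact Points.map_comp _ _ _
  change IsOpenMap _
  rw [e]
  exact IsOpenMap.comp hg hf

/-- An open set is open if covered: openness of a map tested on a jointly surjective family. -/
theorem isOpenMor_of_cover {ι : Type*} {X Y : Sp S} (Xi : ι → Sp S) (g : ∀ i, Xi i ⟶ X)
    (hg : ∀ x : Points X, ∃ i, x ∈ Set.range (Points.map (g i))) (f : X ⟶ Y)
    (h : ∀ i, IsOpenMor (g i ≫ f)) : IsOpenMor f := by
  intro W hW
  have e : Points.map f '' W = ⋃ i, Points.map (g i ≫ f) '' (Points.map (g i) ⁻¹' W) := by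
    ext y
    simp only [Set.mem_image, Set.mem_iUnion, Set.mem_preimage]
    constructor
    · rintro ⟨x, hx, rfl⟩
      obtain ⟨i, z, rfl⟩ := hg x
      exact ⟨i, z, hx, Points.map_comp _ _ _⟩
    · rintro ⟨i, z, hz, rfl⟩
      exact ⟨_, hz, (Points.map_comp _ _ _).symm⟩
  rw [e]
  exact isOpen_iUnion fun i => h i _ (hW.preimage (Points.continuous_map _))

theorem isUnivOpenMor_comp {X Y Z : Sp S} (hY : IsAlgSpace Y) (hZ : IsAlgSpace Z) {f : X ⟶ Y} {g : Y ⟶ Z}
    (hf : IsUnivOpenMor f) (hg : IsUnivOpenMor g) : IsUnivOpenMor (f ≫ g) := by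
  intro W W' hW w fst snd sq
  have sq1 := IsPullback.of_hasPullback g w
  have hP : IsAlgSpace (pullback g w) := K613.Chart.isAlgSpace_of_isPullback hZ.diag hY hW sq1
  have e : (fst ≫ f) ≫ g = snd ≫ w := by rw [Category.assoc, sq.w]
  have h2 : sq1.lift (fst ≫ f) snd e ≫ pullback.snd g w = snd := sq1.lift_snd _ _ e
  have sq2 : IsPullback fst (sq1.lift (fst ≫ f) snd e) f (pullback.fst g w) :=
    (IsPullback.of_right (h₁₂ := pullback.snd g w) (v₁₃ := w) (h₂₂ := g) (by rw [h2]; exact sq.flip)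
      (sq1.lift_fst _ _ e) sq1.flip).flip
  rw [← h2]
  exact isOpenMor_comp (hf hP _ _ _ sq2) (hg hW _ _ _ sq1)

/-- Universal openness tested on a jointly surjective family. -/
theorem isUnivOpenMor_of_cover {ι : Type*} {X Y : Sp S} (Xi : ι → Sp S) (g : ∀ i, Xi i ⟶ X)
    (hg : ∀ x : Points X, ∃ i, x ∈ Set.range (Points.map (g i))) (f : X ⟶ Y)
    (h : ∀ i, IsUnivOpenMor (g i ≫ f)) : IsUnivOpenMor f := by
  intro W W' hW w fst snd sq
  refine isOpenMor_of_cover (fun i => pullback (g i) fst) (fun i => pullback.snd (g i) fst) ?_ _ ?_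
  · intro x
    obtain ⟨i, z, hz⟩ := hg (Points.map fst x)
    obtain ⟨p, -, hp⟩ := exists_point (IsPullback.of_hasPullback (g i) fst) z x hz
    exact ⟨i, p, hp⟩
  · intro i
    exact h i hW w _ _ ((IsPullback.of_hasPullback (g i) fst).paste_vert sq)

theorem isLocalOnSource_isOpenMor : IsLocalOnSource (IsFppfCover (S := S)) IsOpenMor := by
  intro ι X Xi g hX hXi hg Y f hY
  refine ⟨fun hf i => isOpenMor_comp (isOpenMor_of_isUnivOpenMor hX
    (isUnivOpenMor_of_fppf (hXi i) hX (hg.1 i).1 (hg.1 i).2)) hf, fun h =>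
    isOpenMor_of_cover Xi g hg.2 f h⟩

theorem isLocalOnSource_isUnivOpenMor : IsLocalOnSource (IsFppfCover (S := S)) IsUnivOpenMor := by
  intro ι X Xi g hX hXi hg Y f hY
  refine ⟨fun hf i => isUnivOpenMor_comp hX hY
    (isUnivOpenMor_of_fppf (hXi i) hX (hg.1 i).1 (hg.1 i).2) hf, fun h =>
    isUnivOpenMor_of_cover Xi g hg.2 f h⟩

end K629.Open
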